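import Mathlib
import Cfsg.Agent.Lib.helper13.Embed
import Cfsg.Agent.Lib.helper13.QuadNormal
import Cfsg.Agent.S2617

set_option autoImplicit false

/-!
The quadratic form `x ↦ H(x, x)` of the Hermitian form over the field with `q ^ 2` elements, viewed
over the subfield with `q` elements: it has plus type for even `m` and minus type for odd `m`.
Also: any two minus-type standard forms are isometric.
-/

namespace Cfsg.Agent.Lib.helper13

open Module

universe u v

section Norm

variable {F : Type u} [Field F] [Fintype F] {K : Type v} [Field K] [Fintype K] [Algebra F K]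
  {q : ℕ}

omit [Fintype F] [Algebra F K] in
lemma norm_fix (hK : Fintype.card K = q ^ 2) (z : K) :
    (z * z ^ q) ^ q = z * z ^ q := by
  rw [mul_pow, pow_q_q hK, mul_comm]

/-- the norm, as a function to the small field -/
noncomputable def nmF (hF : Fintype.card F = q) (hK : Fintype.card K = q ^ 2) (z : K) : F :=
  Classical.choose (fix_mem hF (z * z ^ q) (norm_fix hK z))

lemma nmF_spec (hF : Fintype.card F = q) (hK : Fintype.card K = q ^ 2) (z : K) :
    algebraMap F K (nmF hF hK z) = z * z ^ q :=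
  Classical.choose_spec (fix_mem hF (z * z ^ q) (norm_fix hK z))

lemma nmF_eq_zero (hF : Fintype.card F = q) (hK : Fintype.card K = q ^ 2) (z : K) :
    nmF hF hK z = 0 ↔ z = 0 := by
  have hq : q ≠ 0 := by rw [← hF]; exact Fintype.card_ne_zero
  constructor
  · intro h
    have h1 := nmF_spec hF hK z
    rw [h, map_zero] at h1
    rcases mul_eq_zero.mp h1.symm with h2 | h2
    · exact h2
    · exact pow_eq_zero_iff hq |>.mp h2
  · rintro rfl
    apply (algebraMap F K).injective
    rw [nmF_spec, map_zero, zero_mul]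

open Classical in
lemma nmF_fiber_le (hF : Fintype.card F = q) (hK : Fintype.card K = q ^ 2) (s : F) :
    (Finset.univ.filter (fun z : K => nmF hF hK z = s)).card ≤ q + 1 := by
  have h1 : (Finset.univ.filter (fun z : K => nmF hF hK z = s)).val ⊆
      (Polynomial.X ^ (q + 1) - Polynomial.C (algebraMap F K s) : Polynomial K).roots := by
    intro z hz
    have hz' : z ∈ Finset.univ.filter (fun z : K => nmF hF hK z = s) := hz
    rw [Finset.mem_filter] at hz'
    rw [Polynomial.mem_roots (Polynomial.X_pow_sub_C_ne_zero (by omega) _)]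
    simp only [Polynomial.IsRoot, Polynomial.eval_sub, Polynomial.eval_pow, Polynomial.eval_X,
      Polynomial.eval_C]
    rw [← hz'.2, nmF_spec, pow_succ']
    ring
  have h2 := Polynomial.card_le_degree_of_subset_roots h1
  rw [Polynomial.natDegree_X_pow_sub_C] at h2
  exact h2

open Classical in
lemma nmF_fiber (hF : Fintype.card F = q) (hK : Fintype.card K = q ^ 2) (s : F) (hs : s ≠ 0) :
    (Finset.univ.filter (fun z : K => nmF hF hK z = s)).card = q + 1 := by
  have hq : 2 ≤ q := by rw [← hF]; exact Fintype.one_lt_card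
  have hmaps : ((Finset.univ.erase (0 : K) : Finset K) : Set K).MapsTo (nmF hF hK)
      (Finset.univ.erase (0 : F) : Finset F) := by
    intro z hz
    have hz' : z ≠ 0 := by
      have : z ∈ Finset.univ.erase (0 : K) := hz
      exact Finset.ne_of_mem_erase this
    have : nmF hF hK z ≠ 0 := fun h => hz' ((nmF_eq_zero hF hK z).mp h)
    exact Finset.mem_coe.mpr (Finset.mem_erase.mpr ⟨this, Finset.mem_univ _⟩)
  have hsum := Finset.card_eq_sum_card_fiberwise hmaps
  have hfib : ∀ b ∈ Finset.univ.erase (0 : F),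
      ((Finset.univ.erase (0 : K)).filter (fun z => nmF hF hK z = b)).card
        = (Finset.univ.filter (fun z : K => nmF hF hK z = b)).card := by
    intro b hb
    congr 1
    ext z
    simp only [Finset.mem_filter, Finset.mem_erase, Finset.mem_univ, and_true, true_and]
    constructor
    · exact fun h => h.2
    · intro h
      refine ⟨fun hz => ?_, h⟩
      rw [hz, (nmF_eq_zero hF hK 0).mpr rfl] at h
      exact Finset.ne_of_mem_erase hb h.symm
  rw [Finset.sum_congr rfl hfib, Finset.card_erase_of_mem (Finset.mem_univ _), Finset.card_univ,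
    hK] at hsum
  have hconst : ∑ b ∈ Finset.univ.erase (0 : F), (q + 1) = q ^ 2 - 1 := by
    rw [Finset.sum_const, Finset.card_erase_of_mem (Finset.mem_univ _), Finset.card_univ, hF,
      smul_eq_mul]
    obtain ⟨r, rfl⟩ : ∃ r, q = r + 1 := ⟨q - 1, by omega⟩
    simp only [Nat.add_sub_cancel]
    have : (r + 1) ^ 2 = r * (r + 1 + 1) + 1 := by ring
    rw [this]; simp
  have hiff := (Finset.sum_eq_sum_iff_of_le
    (fun b (_ : b ∈ Finset.univ.erase (0 : F)) => nmF_fiber_le hF hK b)).mp (by rw [hconst, ← hsum])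
  exact hiff s (Finset.mem_erase.mpr ⟨hs, Finset.mem_univ _⟩)

open Classical in
lemma nmF_fiber_zero (hF : Fintype.card F = q) (hK : Fintype.card K = q ^ 2) :
    (Finset.univ.filter (fun z : K => nmF hF hK z = 0)).card = 1 := by
  have : Finset.univ.filter (fun z : K => nmF hF hK z = 0) = {0} := by
    ext z
    simp [nmF_eq_zero]
  rw [this, Finset.card_singleton]

/-- the number of vectors with given norm sum -/
noncomputable def cntN (hF : Fintype.card F = q) (hK : Fintype.card K = q ^ 2) (m : ℕ) (t : F) : ℕ :=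
  Nat.card {x : Fin m → K // ∑ i, nmF hF hK (x i) = t}

lemma cntN_total (hF : Fintype.card F = q) (hK : Fintype.card K = q ^ 2) (m : ℕ) (t : F) :
    ∑ s : F, cntN hF hK m (t - s) = q ^ (2 * m) := by
  classical
  have e : (Σ s : F, {x : Fin m → K // ∑ i, nmF hF hK (x i) = t - s}) ≃ (Fin m → K) :=
    { toFun := fun p => p.2.1
      invFun := fun x => ⟨t - ∑ i, nmF hF hK (x i), x, by simp⟩
      left_inv := by
        rintro ⟨s, x, hx⟩
        simp only
        have : t - ∑ i, nmF hF hK (x i) = s := by rw [hx]; ring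
        subst this
        rfl
      right_inv := fun x => rfl }
  have h1 := Nat.card_congr e
  rw [Nat.card_sigma] at h1
  unfold cntN
  rw [h1, Nat.card_eq_fintype_card, Fintype.card_fun, hK, Fintype.card_fin, ← pow_mul]

lemma cntN_succ (hF : Fintype.card F = q) (hK : Fintype.card K = q ^ 2) (m : ℕ) (t : F) :
    cntN hF hK (m + 1) t + q * cntN hF hK m t = (q + 1) * q ^ (2 * m) := by
  classical
  have e : {x : Fin (m + 1) → K // ∑ i, nmF hF hK (x i) = t} ≃
      {p : K × (Fin m → K) // ∑ i, nmF hF hK (p.2 i) = t - nmF hF hK p.1} :=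
    Equiv.subtypeEquiv (Fin.consEquiv (fun _ => K)).symm (by
      intro x
      show (∑ i, nmF hF hK (x i) = t) ↔ (∑ i : Fin m, nmF hF hK (x i.succ) = t - nmF hF hK (x 0))
      rw [Fin.sum_univ_succ]
      constructor
      · intro h; exact eq_sub_of_add_eq' h
      · intro h; rw [h]; ring)
  have h1 : cntN hF hK (m + 1) t = ∑ z : K, cntN hF hK m (t - nmF hF hK z) := by
    unfold cntN
    rw [Nat.card_congr (e.trans (Equiv.subtypeProdEquivSigmaSubtype
      (fun (z : K) (x : Fin m → K) => ∑ i, nmF hF hK (x i) = t - nmF hF hK z))), Nat.card_sigma]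
  have h2 : ∑ z : K, cntN hF hK m (t - nmF hF hK z)
      = ∑ s : F, (Finset.univ.filter (fun z : K => nmF hF hK z = s)).card * cntN hF hK m (t - s) := by
    rw [← Finset.sum_fiberwise' Finset.univ (nmF hF hK) (fun s => cntN hF hK m (t - s))]
    refine Finset.sum_congr rfl (fun s _ => ?_)
    rw [Finset.sum_const, smul_eq_mul]
  have h3 := cntN_total hF hK m t
  rw [← Finset.add_sum_erase _ _ (Finset.mem_univ (0 : F)), sub_zero] at h3
  rw [h1, h2, ← Finset.add_sum_erase _ _ (Finset.mem_univ (0 : F)), nmF_fiber_zero, sub_zero, one_mul]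
  have h4 : ∑ s ∈ Finset.univ.erase (0 : F),
      (Finset.univ.filter (fun z : K => nmF hF hK z = s)).card * cntN hF hK m (t - s)
      = (q + 1) * ∑ s ∈ Finset.univ.erase (0 : F), cntN hF hK m (t - s) := by
    rw [Finset.mul_sum]
    refine Finset.sum_congr rfl (fun s hs => ?_)
    rw [nmF_fiber hF hK s (Finset.ne_of_mem_erase hs)]
  rw [h4, ← h3]
  ring

lemma cntN_zero (hF : Fintype.card F = q) (hK : Fintype.card K = q ^ 2) (m : ℕ) :
    (cntN hF hK m 0 : ℤ) * q = (q : ℤ) ^ (2 * m) + (-1) ^ m * ((q : ℤ) ^ (m + 1) - (q : ℤ) ^ m) := by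
  induction m with
  | zero =>
    have : cntN hF hK 0 0 = 1 := by
      unfold cntN
      have : Unique {x : Fin 0 → K // ∑ i, nmF hF hK (x i) = 0} :=
        { default := ⟨fun i => i.elim0, by simp⟩
          uniq := fun x => Subtype.ext (funext fun i => i.elim0) }
      exact Nat.card_unique
    rw [this]
    simp
  | succ m ih =>
    have h := cntN_succ hF hK m 0
    have h' : (cntN hF hK (m + 1) 0 : ℤ) + q * cntN hF hK m 0 = (q + 1) * (q : ℤ) ^ (2 * m) := by
      exact_mod_cast h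
    have h'' : (cntN hF hK (m + 1) 0 : ℤ) = (q + 1) * (q : ℤ) ^ (2 * m) - q * cntN hF hK m 0 := by
      linarith
    rw [h'']
    have e1 : (q : ℤ) ^ (2 * (m + 1)) = (q : ℤ) ^ (2 * m) * q ^ 2 := by ring
    have e2 : (q : ℤ) ^ (m + 1 + 1) = (q : ℤ) ^ (m + 1) * q := by ring
    rw [e1, e2, pow_succ (-1 : ℤ) m]
    linear_combination (-(q : ℤ)) * ih

end Norm

section UnitaryForm

variable {F : Type u} [Field F] [Fintype F] {K : Type v} [Field K] [Fintype K] [Algebra F K]
  {q : ℕ}

/-- the quadratic form `x ↦ lam (H(x, x))` over the small field -/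
noncomputable def QU (hF : Fintype.card F = q) (lam : Module.Dual F K) (m : ℕ) :
    QuadraticForm F (Fin m → K) :=
  LinearMap.BilinMap.toQuadraticMap ((hermBilin K m hF).compr₂ lam)

omit [Fintype K] in
lemma QU_apply (hF : Fintype.card F = q) (lam : Module.Dual F K) (m : ℕ) (x : Fin m → K) :
    QU hF lam m x = lam (Cfsg.hermForm m K q x x) := rfl

omit [Fintype K] in
lemma QU_polar (hF : Fintype.card F = q) (lam : Module.Dual F K) (m : ℕ) (x y : Fin m → K) :
    QuadraticMap.polar (QU hF lam m) x y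
      = lam (Cfsg.hermForm m K q x y) + lam (Cfsg.hermForm m K q y x) := by
  rw [QU, LinearMap.BilinMap.polar_toQuadraticMap]
  rfl

lemma herm_self_eq (hF : Fintype.card F = q) (hK : Fintype.card K = q ^ 2) {m : ℕ}
    (x : Fin m → K) :
    Cfsg.hermForm m K q x x = algebraMap F K (∑ i, nmF hF hK (x i)) := by
  rw [map_sum]
  exact Finset.sum_congr rfl (fun i _ => (nmF_spec hF hK (x i)).symm)

lemma QU_eq (hF : Fintype.card F = q) (hK : Fintype.card K = q ^ 2) (lam : Module.Dual F K)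
    (m : ℕ) (x : Fin m → K) : QU hF lam m x = (∑ i, nmF hF hK (x i)) * lam 1 := by
  rw [QU_apply, herm_self_eq hF hK, Algebra.algebraMap_eq_smul_one, map_smul, smul_eq_mul]

lemma QU_nondeg (hF : Fintype.card F = q) (hK : Fintype.card K = q ^ 2) (lam : Module.Dual F K)
    (hlam : lam 1 ≠ 0) (m : ℕ) : (QuadraticMap.polarBilin (QU hF lam m)).Nondegenerate := by
  classical
  apply Cfsg.Agent.S2562.nondeg_of_sep
  intro x hx
  by_contra hne
  obtain ⟨i, hi⟩ : ∃ i, x i ≠ 0 := by
    by_contra h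
    push Not at h
    exact hne (funext h)
  obtain ⟨w₀, hw₀⟩ := exists_tr_ne (F := F) hF hK
  obtain ⟨μ, hμ⟩ : ∃ μ : K, μ ^ q = w₀ / x i := ⟨(w₀ / x i) ^ q, pow_q_q hK _⟩
  have h1 : Cfsg.hermForm m K q x (Pi.single i μ) = w₀ := by
    rw [herm_single_right (F := F) hF, hμ]
    field_simp
  have h2 : Cfsg.hermForm m K q (Pi.single i μ) x = w₀ ^ q := by
    rw [← h1, herm_conj (F := F) hF hK]
  have h3 := hx (Pi.single i μ)
  rw [QU_polar, h1, h2, ← map_add] at h3
  obtain ⟨s, hs⟩ := fix_mem hF (w₀ + w₀ ^ q) (by rw [pow_q_add (F := F) hF, pow_q_q hK]; ring)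
  rw [← hs, Algebra.algebraMap_eq_smul_one, map_smul, smul_eq_mul] at h3
  rcases mul_eq_zero.mp h3 with h | h
  · apply hw₀
    rw [← hs, h, map_zero]
  · exact hlam h

/-- the type of the unitary quadratic form -/
theorem unitary_type (hF : Fintype.card F = q) (hK : Fintype.card K = q ^ 2)
    (lam : Module.Dual F K) (hlam : lam 1 ≠ 0) (m : ℕ) :
    (Even m → ∃ g : (Fin m → K) ≃ₗ[F] (Fin m ⊕ Fin m → F),
      ∀ v, QU hF lam m v = Cfsg.quadFormPlus m F (g v)) ∧
    (Odd m → ∃ ζ : F, (∀ t : F, t ^ 2 + t + ζ ≠ 0) ∧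
      ∃ g : (Fin m → K) ≃ₗ[F] ((Fin (m - 1) ⊕ Fin (m - 1)) ⊕ Fin 2 → F),
        ∀ v, QU hF lam m v = Cfsg.quadFormMinus (m - 1) F 1 ζ (g v)) := by
  classical
  have hq : 2 ≤ q := by rw [← hF]; exact Fintype.one_lt_card
  have hfin : finrank F (Fin m → K) = 2 * m := by
    rw [finrank_fun_ext hF hK]
    simp
  have hcount : (Nat.card {v : Fin m → K // QU hF lam m v = 0} : ℤ) * q
      = (q : ℤ) ^ (2 * m) + (-1) ^ m * ((q : ℤ) ^ (m + 1) - (q : ℤ) ^ m) := by
    have : Nat.card {v : Fin m → K // QU hF lam m v = 0} = cntN hF hK m 0 := by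
      unfold cntN
      apply Nat.card_congr
      exact Equiv.subtypeEquivRight (fun v => by rw [QU_eq hF hK]; simp [hlam])
    rw [this]
    exact cntN_zero hF hK m
  have hqF : Nat.card F = q := by rw [Nat.card_eq_fintype_card, hF]
  have hlt : (q : ℤ) ^ m < (q : ℤ) ^ (m + 1) := by
    have h1 : (1 : ℤ) < q := by exact_mod_cast hq
    exact pow_lt_pow_right₀ h1 (Nat.lt_succ_self m)
  rcases quad_classify hfin (QU hF lam m) (QU_nondeg hF hK lam hlam m) with
    ⟨g, hg⟩ | ⟨k, ζ, rfl, hζ, g, hg⟩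
  · have hc : Nat.card {v : Fin m → K // QU hF lam m v = 0}
        = Nat.card {w : Fin m ⊕ Fin m → F // Cfsg.quadFormPlus m F w = 0} :=
      Nat.card_congr (g.toEquiv.subtypeEquiv (fun v => by rw [hg v]; rfl))
    have hp := Cfsg.Agent.S2617.card_plus (F := F) m
    rw [hqF, ← hc] at hp
    refine ⟨fun _ => ⟨g, hg⟩, fun hodd => ?_⟩
    exfalso
    have hp' : (Nat.card {v : Fin m → K // QU hF lam m v = 0} : ℤ) * q + (q : ℤ) ^ m
        = (q : ℤ) ^ (m + 1) + (q : ℤ) ^ m * (q : ℤ) ^ m := by exact_mod_cast hp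
    rw [hodd.neg_one_pow] at hcount
    have e : (q : ℤ) ^ (2 * m) = (q : ℤ) ^ m * (q : ℤ) ^ m := by ring
    rw [e] at hcount
    linarith
  · have hc : Nat.card {v : Fin (k + 1) → K // QU hF lam (k + 1) v = 0}
        = Nat.card {w : (Fin k ⊕ Fin k) ⊕ Fin 2 → F // Cfsg.quadFormMinus k F 1 ζ w = 0} :=
      Nat.card_congr (g.toEquiv.subtypeEquiv (fun v => by rw [hg v]; rfl))
    have hp := Cfsg.Agent.S2617.card_minus (F := F) k ζ hζ
    rw [hqF, ← hc] at hp
    refine ⟨fun heven => ?_, fun _ => ⟨ζ, hζ, g, hg⟩⟩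
    exfalso
    have hp' : (Nat.card {v : Fin (k + 1) → K // QU hF lam (k + 1) v = 0} : ℤ) * q
        + (q : ℤ) ^ (k + 2) = (q : ℤ) ^ (k + 1) + (q : ℤ) ^ (k + 1) * (q : ℤ) ^ (k + 1) := by
      exact_mod_cast hp
    rw [heven.neg_one_pow] at hcount
    have e : (q : ℤ) ^ (2 * (k + 1)) = (q : ℤ) ^ (k + 1) * (q : ℤ) ^ (k + 1) := by ring
    rw [e] at hcount
    have e2 : (q : ℤ) ^ (k + 1 + 1) = (q : ℤ) ^ (k + 2) := by ring
    rw [e2] at hcount hlt
    linarith

end UnitaryForm

section MinusIso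

variable {F : Type u} [Field F]

/-- a linear change of variables on the binary part of a minus-type form -/
lemma binary_change (k : ℕ) (a b a' b' α β γ δ : F) (hdet : α * δ - β * γ ≠ 0)
    (h : ∀ z₀ z₁ : F, (α * z₀ + β * z₁) ^ 2 + a * (α * z₀ + β * z₁) * (γ * z₀ + δ * z₁)
      + b * (γ * z₀ + δ * z₁) ^ 2 = z₀ ^ 2 + a' * z₀ * z₁ + b' * z₁ ^ 2) :
    ∃ T : ((Fin k ⊕ Fin k) ⊕ Fin 2 → F) ≃ₗ[F] ((Fin k ⊕ Fin k) ⊕ Fin 2 → F),
      ∀ v, Cfsg.quadFormMinus k F a b (T v) = Cfsg.quadFormMinus k F a' b' v := by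
  let S : ((Fin k ⊕ Fin k) ⊕ Fin 2 → F) →ₗ[F] ((Fin k ⊕ Fin k) ⊕ Fin 2 → F) :=
    LinearMap.pi (Sum.elim (fun i => LinearMap.proj (Sum.inl i))
      ![α • LinearMap.proj (Sum.inr 0) + β • LinearMap.proj (Sum.inr 1),
        γ • LinearMap.proj (Sum.inr 0) + δ • LinearMap.proj (Sum.inr 1)])
  have h1 : ∀ v i, S v (Sum.inl i) = v (Sum.inl i) := fun v i => rfl
  have h3 : ∀ v, S v (Sum.inr 0) = α * v (Sum.inr 0) + β * v (Sum.inr 1) := fun v => rfl
  have h4 : ∀ v, S v (Sum.inr 1) = γ * v (Sum.inr 0) + δ * v (Sum.inr 1) := fun v => rfl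
  have hinj : Function.Injective S := by
    rw [injective_iff_map_eq_zero]
    intro v hv
    have e1 : ∀ i, v (Sum.inl i) = 0 := by
      intro i
      have := congrFun hv (Sum.inl i)
      rw [h1] at this
      exact this
    have e3 := congrFun hv (Sum.inr 0)
    have e4 := congrFun hv (Sum.inr 1)
    rw [h3] at e3
    rw [h4] at e4
    simp only [Pi.zero_apply] at e3 e4
    have e5 : v (Sum.inr 0) = 0 := by
      have : (α * δ - β * γ) * v (Sum.inr 0) = 0 := by
        linear_combination δ * e3 - β * e4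
      exact (mul_eq_zero.mp this).resolve_left hdet
    have e6 : v (Sum.inr 1) = 0 := by
      have : (α * δ - β * γ) * v (Sum.inr 1) = 0 := by
        linear_combination α * e4 - γ * e3
      exact (mul_eq_zero.mp this).resolve_left hdet
    funext idx
    rcases idx with i | j
    · exact e1 i
    · fin_cases j
      · exact e5
      · exact e6
  refine ⟨LinearEquiv.ofInjectiveEndo S hinj, ?_⟩
  intro v
  show (∑ i : Fin k, S v (.inl (.inl i)) * S v (.inl (.inr i)))
      + (S v (.inr 0) ^ 2 + a * S v (.inr 0) * S v (.inr 1) + b * S v (.inr 1) ^ 2) =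
    (∑ i : Fin k, v (.inl (.inl i)) * v (.inl (.inr i)))
      + (v (.inr 0) ^ 2 + a' * v (.inr 0) * v (.inr 1) + b' * v (.inr 1) ^ 2)
  rw [h3, h4, h (v (.inr 0)) (v (.inr 1))]
  congr 1

variable [Fintype F]

/-- any two standard minus-type forms are isometric -/
lemma minus_iso (k : ℕ) (ζ ζ₁ : F) (hζ : ∀ t : F, t ^ 2 + t + ζ ≠ 0)
    (hζ₁ : ∀ t : F, t ^ 2 + t + ζ₁ ≠ 0) :
    ∃ T : ((Fin k ⊕ Fin k) ⊕ Fin 2 → F) ≃ₗ[F] ((Fin k ⊕ Fin k) ⊕ Fin 2 → F),
      ∀ v, Cfsg.quadFormMinus k F 1 ζ (T v) = Cfsg.quadFormMinus k F 1 ζ₁ v := by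
  classical
  by_cases h2 : (2 : F) = 0
  · -- characteristic two
    let P : F →+ F :=
      { toFun := fun t => t ^ 2 + t
        map_zero' := by simp
        map_add' := fun s t => by linear_combination (s * t) * h2 }
    have hker : Nat.card P.ker = 2 := by
      have : (P.ker : Set F) = {0, 1} := by
        ext t
        simp only [SetLike.mem_coe, AddMonoidHom.mem_ker, Set.mem_insert_iff,
          Set.mem_singleton_iff]
        show t ^ 2 + t = 0 ↔ t = 0 ∨ t = 1
        constructor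
        · intro ht
          have : t * (t + 1) = 0 := by linear_combination ht
          rcases mul_eq_zero.mp this with h | h
          · exact Or.inl h
          · right; linear_combination h - h2
        · rintro (rfl | rfl)
          · simp
          · linear_combination h2
      rw [← SetLike.coe_sort_coe, Nat.card_coe_set_eq, this, Set.ncard_pair zero_ne_one]
    have hidx : P.range.index = 2 := by
      rw [AddSubgroup.index_range, hker]
    have hn : ∀ ξ : F, (∀ t : F, t ^ 2 + t + ξ ≠ 0) → ξ ∉ P.range := by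
      rintro ξ hξ ⟨t, ht⟩
      apply hξ t
      have ht' : t ^ 2 + t = ξ := ht
      linear_combination ht' + ξ * h2
    have hmem : ζ + ζ₁ ∈ P.range := by
      rw [AddSubgroup.add_mem_iff_of_index_two hidx]
      exact ⟨fun h => absurd h (hn ζ hζ), fun h => absurd h (hn ζ₁ hζ₁)⟩
    obtain ⟨t, ht⟩ := hmem
    have ht' : t ^ 2 + t = ζ + ζ₁ := ht
    refine binary_change k 1 ζ 1 ζ₁ 1 t 0 1 (by simp) ?_
    intro z₀ z₁
    linear_combination (t * z₀ * z₁ + ζ * z₁ ^ 2) * h2 + z₁ ^ 2 * ht'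
  · -- odd characteristic
    have hchar : ringChar F ≠ 2 := by
      intro h
      apply h2
      have := CharP.cast_eq_zero F (ringChar F)
      rw [h] at this
      exact_mod_cast this
    have h4 : (4 : F) ≠ 0 := by
      have : (4 : F) = 2 * 2 := by norm_num
      rw [this]; exact mul_ne_zero h2 h2
    have hns : ∀ ξ : F, (∀ t : F, t ^ 2 + t + ξ ≠ 0) → ¬ IsSquare (1 - 4 * ξ) := by
      rintro ξ hξ ⟨s, hs⟩
      apply hξ ((s - 1) / 2)
      field_simp
      linear_combination -hs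
    have hne : ∀ ξ : F, (∀ t : F, t ^ 2 + t + ξ ≠ 0) → 1 - 4 * ξ ≠ 0 := by
      intro ξ hξ h0
      exact hns ξ hξ ⟨0, by rw [h0]; ring⟩
    have hpow : ∀ ξ : F, (∀ t : F, t ^ 2 + t + ξ ≠ 0) → (1 - 4 * ξ) ^ (Fintype.card F / 2) = -1 := by
      intro ξ hξ
      rcases FiniteField.pow_dichotomy hchar (hne ξ hξ) with h | h
      · exact absurd ((FiniteField.isSquare_iff hchar (hne ξ hξ)).mpr h) (hns ξ hξ)
      · exact h
    have hsq : IsSquare ((1 - 4 * ζ₁) / (1 - 4 * ζ)) := by
      rw [FiniteField.isSquare_iff hchar (div_ne_zero (hne ζ₁ hζ₁) (hne ζ hζ)), div_pow,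
        hpow ζ hζ, hpow ζ₁ hζ₁]
      norm_num
    obtain ⟨c, hc⟩ := hsq
    have hc' : c * c * (1 - 4 * ζ) = 1 - 4 * ζ₁ := by
      rw [← hc]; field_simp [hne ζ hζ]
    have hc0 : c ≠ 0 := by
      rintro rfl
      apply hne ζ₁ hζ₁
      rw [← hc']; ring
    refine binary_change k 1 ζ 1 ζ₁ 1 ((1 - c) / 2) 0 c (by simpa using hc0) ?_
    intro z₀ z₁
    field_simp
    linear_combination (-z₁ ^ 2) * hc'

/-- a minus-type form with arbitrary anisotropic binary part is isometric to a standard one -/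
lemma minus_ab (k : ℕ) (a b : F)
    (hab : ∀ z₁ z₂ : F, z₁ ^ 2 + a * z₁ * z₂ + b * z₂ ^ 2 = 0 → z₁ = 0 ∧ z₂ = 0) :
    ∃ ζ : F, (∀ t : F, t ^ 2 + t + ζ ≠ 0) ∧
      ∃ T : ((Fin k ⊕ Fin k) ⊕ Fin 2 → F) ≃ₗ[F] ((Fin k ⊕ Fin k) ⊕ Fin 2 → F),
        ∀ v, Cfsg.quadFormMinus k F a b (T v) = Cfsg.quadFormMinus k F 1 ζ v := by
  classical
  by_cases ha : a = 0
  · subst ha
    have h2 : (2 : F) ≠ 0 := by
      intro h2
      have hchar : ringChar F = 2 := by
        have : CharP F 2 := CharTwo.of_one_ne_zero_of_two_eq_zero one_ne_zero h2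
        exact ringChar.eq F 2
      obtain ⟨s, hs⟩ := FiniteField.isSquare_of_char_two hchar b
      have := (hab s 1 (by linear_combination (-1 : F) * hs + b * h2)).2
      exact one_ne_zero this
    refine ⟨1 / 4 + b, ?_, binary_change k 0 b 1 (1 / 4 + b) 1 (1 / 2) 0 1 (by simp) ?_⟩
    · intro t ht
      have := (hab (t + 1 / 2) 1 (by
        have h4 : (4 : F) ≠ 0 := by
          have : (4 : F) = 2 * 2 := by norm_num
          rw [this]; exact mul_ne_zero h2 h2
        field_simp
        field_simp at ht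
        linear_combination ht)).2
      exact one_ne_zero this
    · intro z₀ z₁
      have h4 : (4 : F) ≠ 0 := by
        have : (4 : F) = 2 * 2 := by norm_num
        rw [this]; exact mul_ne_zero h2 h2
      field_simp
      ring
  · refine ⟨b / a ^ 2, ?_, binary_change k a b 1 (b / a ^ 2) 1 0 0 (1 / a) (by simpa using ha) ?_⟩
    · intro t ht
      have := (hab t (1 / a) (by
        field_simp
        field_simp at ht
        linear_combination ht)).2
      exact one_div_ne_zero ha this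
    · intro z₀ z₁
      field_simp
      ring

/-- a minus-type form with arbitrary anisotropic binary part is isometric to any standard one -/
lemma minus_to_ab (k : ℕ) (a b : F)
    (hab : ∀ z₁ z₂ : F, z₁ ^ 2 + a * z₁ * z₂ + b * z₂ ^ 2 = 0 → z₁ = 0 ∧ z₂ = 0)
    (ζ : F) (hζ : ∀ t : F, t ^ 2 + t + ζ ≠ 0) :
    ∃ T : ((Fin k ⊕ Fin k) ⊕ Fin 2 → F) ≃ₗ[F] ((Fin k ⊕ Fin k) ⊕ Fin 2 → F),
      ∀ v, Cfsg.quadFormMinus k F a b (T v) = Cfsg.quadFormMinus k F 1 ζ v := by
  obtain ⟨ζ', hζ', T₁, hT₁⟩ := minus_ab k a b hab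
  obtain ⟨T₂, hT₂⟩ := minus_iso k ζ' ζ hζ' hζ
  exact ⟨T₂.trans T₁, fun v => by rw [LinearEquiv.trans_apply, hT₁, hT₂]⟩

end MinusIso

end Cfsg.Agent.Lib.helper13
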