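import Mathlib
-- copied from helper2 SLGen (text copy, own namespace)

set_option autoImplicit false
set_option linter.unusedSimpArgs false

namespace Cfsg.Agent.Lib.helper13.SLSimple

open Matrix Matrix.SpecialLinearGroup

variable {ι F : Type*} [DecidableEq ι] [Fintype ι] [Field F]

theorem t_other {i j k : ι} (hij : i ≠ j) (hk : k ≠ j) (b : F) :
    (transvection hij b) • (Pi.single k 1 : ι → F) = Pi.single k 1 := by
  simp [Matrix.SpecialLinearGroup.smul_def, -mulVec_single, transvection_coe,
    add_mulVec, single_mulVec_eq, hk.symm]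

theorem t_snd {i j : ι} (hij : i ≠ j) (b : F) :
    (transvection hij b) • (Pi.single j 1 : ι → F) = Pi.single j 1 + b • Pi.single i 1 :=
  transvection_smul_single_snd hij b

theorem d_smul {i j : ι} (hij : i ≠ j) (a : F) (ha : a ≠ 0) (k : ι) :
    (diag2n hij a ha) • (Pi.single k 1 : ι → F)
      = (if k = i then a else if k = j then a⁻¹ else 1) • Pi.single k 1 := by
  rw [Matrix.SpecialLinearGroup.smul_def, diag2n_coe]
  ext x
  simp [Pi.single_apply]


theorem t_comm {i j : ι} (hij : i ≠ j) (b c : F) (v : ι → F) :
    (transvection hij b) • (c • v) = c • ((transvection hij b) • v) :=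
  smul_comm _ _ _

theorem t_add {i j : ι} (hij : i ≠ j) (b : F) (v w : ι → F) :
    (transvection hij b) • (v + w) = (transvection hij b) • v + (transvection hij b) • w :=
  smul_add _ _ _

theorem diag2n_eq {i j : ι} (hij : i ≠ j) (a : F) (ha : a ≠ 0) :
    diag2n hij a ha = transvection hij a * transvection hij.symm (-a⁻¹) * transvection hij a
      * (transvection hij (-1) * transvection hij.symm 1 * transvection hij (-1)) := by
  apply Subtype.ext
  apply Matrix.ext_of_mulVec_single
  intro k
  have key : ∀ A : SpecialLinearGroup ι F,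
      (A : Matrix ι ι F) *ᵥ (Pi.single k 1) = A • (Pi.single k 1 : ι → F) := fun A => rfl
  rw [key, key, d_smul]
  by_cases hki : k = i
  · rw [hki]
    simp only [mul_smul, t_other hij hij, t_snd hij.symm, t_snd hij, t_other hij.symm hij.symm,
      t_add, t_comm, if_true]
    ext x
    simp only [Pi.add_apply, Pi.smul_apply, Pi.single_apply, smul_eq_mul]
    split_ifs <;> field_simp <;> ring
  · by_cases hkj : k = j
    · rw [hkj]
      simp only [mul_smul, t_other hij hij, t_snd hij.symm, t_snd hij, t_other hij.symm hij.symm,
        t_add, t_comm, if_true, if_neg hij.symm]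
      ext x
      simp only [Pi.add_apply, Pi.smul_apply, Pi.single_apply, smul_eq_mul]
      split_ifs <;> field_simp <;> ring
    · simp only [mul_smul, t_other hij hkj, t_other hij.symm hki, if_neg hki, if_neg hkj, one_smul]


theorem transvection_induction [Nontrivial ι] (P : SpecialLinearGroup ι F → Prop)
    (htransvec : ∀ (i j : ι) (hij : i ≠ j) (a : F), P (transvection hij a))
    (hmul : ∀ A B, P A → P B → P (A * B)) (M : SpecialLinearGroup ι F) : P M := by
  refine diagonal_transvection_induction' P M (fun i j hij c hc => ?_) htransvec hmul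
  rw [diag2n_eq hij c hc]
  exact hmul _ _ (hmul _ _ (hmul _ _ (htransvec _ _ _ _) (htransvec _ _ _ _)) (htransvec _ _ _ _))
    (hmul _ _ (hmul _ _ (htransvec _ _ _ _) (htransvec _ _ _ _)) (htransvec _ _ _ _))

theorem t_neg {i j : ι} (hij : i ≠ j) (b : F) (v : ι → F) :
    (transvection hij b) • (-v) = -((transvection hij b) • v) :=
  smul_neg _ _

open scoped commutatorElement in
theorem transvection_eq_commutator {i j k : ι} (hij : i ≠ j) (hik : i ≠ k) (hkj : k ≠ j) (c : F) :
    transvection hij c = ⁅transvection hik c, transvection hkj 1⁆ := by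
  rw [commutatorElement_def, transvection_inv, transvection_inv]
  apply Subtype.ext
  apply Matrix.ext_of_mulVec_single
  intro m
  have key : ∀ A : SpecialLinearGroup ι F,
      (A : Matrix ι ι F) *ᵥ (Pi.single m 1) = A • (Pi.single m 1 : ι → F) := fun A => rfl
  rw [key, key]
  by_cases hmj : m = j
  · rw [hmj]
    simp only [mul_smul, t_other hij hij, t_other hij hkj, t_snd hij, t_other hik hik,
      t_other hik hkj.symm, t_snd hik, t_other hkj hkj, t_other hkj hij, t_snd hkj,
      t_add, t_comm, t_neg]
    module
  · by_cases hmk : m = k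
    · rw [hmk]
      simp only [mul_smul, t_other hij hij, t_other hij hkj, t_snd hij, t_other hik hik,
        t_other hik hkj.symm, t_snd hik, t_other hkj hkj, t_other hkj hij, t_snd hkj,
        t_add, t_comm, t_neg]
      module
    · simp only [mul_smul, t_other hkj hmj, t_other hik hmk, t_other hij hmj]

/-- `SL ι F` is perfect when `ι` has at least three elements -/
theorem commutator_eq_top (h3 : 3 ≤ Fintype.card ι) :
    commutator (SpecialLinearGroup ι F) = ⊤ := by
  have hnt : Nontrivial ι := Fintype.one_lt_card_iff_nontrivial.1 (by omega)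
  rw [eq_top_iff]
  intro M _
  refine transvection_induction (fun M => M ∈ commutator (SpecialLinearGroup ι F)) ?_ ?_ M
  · intro i j hij a
    obtain ⟨k, hk⟩ : ∃ k, k ≠ i ∧ k ≠ j := by
      by_contra hcon
      push Not at hcon
      have hsub : (Finset.univ : Finset ι) ⊆ {i, j} := by
        intro k _
        by_cases hki : k = i
        · simp [hki]
        · simp [hcon k hki]
      have := Finset.card_le_card hsub
      have h2 : ({i, j} : Finset ι).card ≤ 2 := Finset.card_le_two
      rw [Finset.card_univ] at this
      omega
    rw [transvection_eq_commutator hij hk.1.symm hk.2 a]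
    exact Subgroup.commutator_mem_commutator (Subgroup.mem_top _) (Subgroup.mem_top _)
  · intro A B hA hB
    exact mul_mem hA hB


open scoped LinearAlgebra.Projectivization

theorem iSup_lineStab_eq_top [Nontrivial ι] :
    (⨆ p : ℙ F (ι → F), lineStab p.submodule) = (⊤ : Subgroup (SpecialLinearGroup ι F)) := by
  rw [eq_top_iff]
  intro M _
  refine transvection_induction
    (fun M => M ∈ ⨆ p : ℙ F (ι → F), lineStab (F := F) (ι := ι) p.submodule) ?_ ?_ M
  · intro i j hij a
    have h1 := SL2Gen.transvection_mem_lineStab (F := F) hij a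
    rw [← Projectivization.submodule_mk (K := F) _ (Pi.single_ne_zero_iff.2 one_ne_zero)] at h1
    exact Subgroup.mem_iSup_of_mem _ h1
  · intro A B hA hB
    exact mul_mem hA hB

theorem iSup_iwasawaT_eq_top [Nontrivial ι] : iSup (PSL.iwasawaT (F := F) (ι := ι)) = ⊤ := by
  have step1 : iSup (PSL.iwasawaT (F := F) (ι := ι)) =
      Subgroup.map (QuotientGroup.mk' (Subgroup.center (Matrix.SpecialLinearGroup ι F)))
        (⨆ p : ℙ F (ι → F),
          Matrix.SpecialLinearGroup.lineStab (F := F) (ι := ι) p.submodule) := by
    rw [Subgroup.map_iSup]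
  rw [step1, iSup_lineStab_eq_top]
  exact Subgroup.map_top_of_surjective _ (QuotientGroup.mk'_surjective _)

/-- the Iwasawa structure on `PSL ι F` acting on the projective space -/
noncomputable def iwasawa [Nontrivial ι] :
    MulAction.IwasawaStructure (ProjectiveSpecialLinearGroup ι F) (ℙ F (ι → F)) where
  T := PSL.iwasawaT
  is_comm p := by
    have hSL : IsMulCommutative (lineStab (F := F) (ι := ι) p.submodule) := by
      rw [← Projectivization.mk_rep p, Projectivization.submodule_mk]
      exact lineStab_isMulCommutative_of_span p.rep p.rep_nonzero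
    exact Subgroup.map_isMulCommutative _ _
  is_conj g p := by
    obtain ⟨g_SL, rfl⟩ := QuotientGroup.mk_surjective g
    rw [Matrix.ProjectiveSpecialLinearGroup.smul_proj_mk]
    change Subgroup.map _ _ = _
    rw [PSL.smul_submodule, Matrix.SpecialLinearGroup.lineStab_smul, PSL.iwasawaT_map_conj]
  is_generator := iSup_iwasawaT_eq_top

/-- `PSL ι F` is simple when `ι` has at least three elements -/
theorem PSL_simple (h3 : 3 ≤ Fintype.card ι) :
    IsSimpleGroup (ProjectiveSpecialLinearGroup ι F) := by
  have hnt : Nontrivial ι := Fintype.one_lt_card_iff_nontrivial.1 (by omega)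
  have hperf : Group.IsPerfect (SpecialLinearGroup ι F) := ⟨commutator_eq_top h3⟩
  have hperf' : Group.IsPerfect (ProjectiveSpecialLinearGroup ι F) := inferInstance
  exact MulAction.IwasawaStructure.isSimpleGroup hperf'.commutator_eq_top iwasawa inferInstance

end Cfsg.Agent.Lib.helper13.SLSimple
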