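import Mathlib
import Cfsg.Agent.Lib.helper13.SLSimple

set_option autoImplicit false

namespace Cfsg.Agent.Lib.helper13.PSL2Aut

open Matrix

variable {F : Type*} [Field F]

abbrev SL2' (F : Type*) [Field F] := Matrix.SpecialLinearGroup (Fin 2) F
abbrev PSL2' (F : Type*) [Field F] := Matrix.ProjectiveSpecialLinearGroup (Fin 2) F

/-- upper unitriangular element -/
def uu (x : F) : SL2' F := ⟨!![1, x; 0, 1], by simp [Matrix.det_fin_two]⟩
/-- lower unitriangular element -/
def ll (y : F) : SL2' F := ⟨!![1, 0; y, 1], by simp [Matrix.det_fin_two]⟩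
/-- monomial element -/
def nn (x : F) (hx : x ≠ 0) : SL2' F := ⟨!![0, x; -x⁻¹, 0], by simp [Matrix.det_fin_two, hx]⟩
/-- diagonal element -/
def hh (x : F) (hx : x ≠ 0) : SL2' F := ⟨!![x, 0; 0, x⁻¹], by simp [Matrix.det_fin_two, hx]⟩

theorem uu_coe (x : F) : ((uu x : SL2' F) : Matrix (Fin 2) (Fin 2) F) = !![1, x; 0, 1] := rfl
theorem ll_coe (x : F) : ((ll x : SL2' F) : Matrix (Fin 2) (Fin 2) F) = !![1, 0; x, 1] := rfl
theorem nn_coe (x : F) (hx : x ≠ 0) :
    ((nn x hx : SL2' F) : Matrix (Fin 2) (Fin 2) F) = !![0, x; -x⁻¹, 0] := rfl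
theorem hh_coe (x : F) (hx : x ≠ 0) :
    ((hh x hx : SL2' F) : Matrix (Fin 2) (Fin 2) F) = !![x, 0; 0, x⁻¹] := rfl

theorem uu_add (x y : F) : uu (x + y) = uu x * uu y := by
  apply Subtype.ext
  rw [Matrix.SpecialLinearGroup.coe_mul, uu_coe, uu_coe, uu_coe]
  ext i j
  fin_cases i <;> fin_cases j <;> simp [Matrix.mul_apply, Fin.sum_univ_two, add_comm]

theorem uu_zero : uu (0 : F) = 1 := by
  apply Subtype.ext
  rw [uu_coe, Matrix.SpecialLinearGroup.coe_one]
  ext i j
  fin_cases i <;> fin_cases j <;> simp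

theorem uu_inv (x : F) : (uu x)⁻¹ = uu (-x) := by
  rw [inv_eq_iff_eq_inv, eq_comm, inv_eq_iff_mul_eq_one, ← uu_add, neg_add_cancel, uu_zero]

theorem ll_add (x y : F) : ll (x + y) = ll x * ll y := by
  apply Subtype.ext
  rw [Matrix.SpecialLinearGroup.coe_mul, ll_coe, ll_coe, ll_coe]
  ext i j
  fin_cases i <;> fin_cases j <;> simp [Matrix.mul_apply, Fin.sum_univ_two, add_comm]

theorem ll_zero : ll (0 : F) = 1 := by
  apply Subtype.ext
  rw [ll_coe, Matrix.SpecialLinearGroup.coe_one]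
  ext i j
  fin_cases i <;> fin_cases j <;> simp

theorem ll_inv (x : F) : (ll x)⁻¹ = ll (-x) := by
  rw [inv_eq_iff_eq_inv, eq_comm, inv_eq_iff_mul_eq_one, ← ll_add, neg_add_cancel, ll_zero]

theorem nn_eq (x : F) (hx : x ≠ 0) : uu x * ll (-x⁻¹) * uu x = nn x hx := by
  apply Subtype.ext
  rw [Matrix.SpecialLinearGroup.coe_mul, Matrix.SpecialLinearGroup.coe_mul, uu_coe, ll_coe, nn_coe]
  ext i j
  fin_cases i <;> fin_cases j <;> simp [Matrix.mul_apply, Fin.sum_univ_two, hx]

theorem hh_eq (x : F) (hx : x ≠ 0) : nn x hx * (nn 1 one_ne_zero)⁻¹ = hh x hx := by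
  apply Subtype.ext
  rw [Matrix.SpecialLinearGroup.coe_mul, Matrix.SpecialLinearGroup.coe_inv, nn_coe, nn_coe, hh_coe,
    Matrix.adjugate_fin_two]
  ext i j
  fin_cases i <;> fin_cases j <;> simp [Matrix.mul_apply, Fin.sum_univ_two]

theorem hh_conj (x : F) (hx : x ≠ 0) (t : F) : hh x hx * uu t * (hh x hx)⁻¹ = uu (x ^ 2 * t) := by
  apply Subtype.ext
  rw [Matrix.SpecialLinearGroup.coe_mul, Matrix.SpecialLinearGroup.coe_mul,
    Matrix.SpecialLinearGroup.coe_inv, hh_coe, uu_coe, uu_coe, Matrix.adjugate_fin_two]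
  ext i j
  fin_cases i <;> fin_cases j <;> simp [Matrix.mul_apply, Fin.sum_univ_two, hx]
  ring

/-- conjugating an upper unitriangular element -/
theorem conj_uu (M : SL2' F) (x : F) :
    ((M * uu x * M⁻¹ : SL2' F) : Matrix (Fin 2) (Fin 2) F) =
      !![1 - M 0 0 * M 1 0 * x, M 0 0 ^ 2 * x; -(M 1 0 ^ 2 * x), 1 + M 0 0 * M 1 0 * x] := by
  have hdet : M 0 0 * M 1 1 - M 0 1 * M 1 0 = 1 := by
    have := M.2
    rw [Matrix.det_fin_two] at this
    exact this
  rw [Matrix.SpecialLinearGroup.coe_mul, Matrix.SpecialLinearGroup.coe_mul,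
    Matrix.SpecialLinearGroup.coe_inv, uu_coe, Matrix.adjugate_fin_two]
  ext i j
  fin_cases i <;> fin_cases j <;>
    simp [Matrix.mul_apply, Fin.sum_univ_two] <;> first | ring1 | linear_combination hdet

theorem mk_eq_iff (M M' : SL2' F) : (QuotientGroup.mk M : PSL2' F) = QuotientGroup.mk M' ↔
    ∃ r : F, r ^ 2 = 1 ∧ (M' : Matrix (Fin 2) (Fin 2) F) = r • (M : Matrix (Fin 2) (Fin 2) F) := by
  rw [QuotientGroup.eq, Matrix.SpecialLinearGroup.mem_center_iff]
  have key : ∀ r : F, (Matrix.scalar (Fin 2) r = ((M⁻¹ * M' : SL2' F) : Matrix (Fin 2) (Fin 2) F)) ↔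
      (M' : Matrix (Fin 2) (Fin 2) F) = r • (M : Matrix (Fin 2) (Fin 2) F) := by
    intro r
    have hs : Matrix.scalar (Fin 2) r = r • (1 : Matrix (Fin 2) (Fin 2) F) := by
      ext i j
      simp [Matrix.scalar_apply, Matrix.diagonal_apply, Matrix.one_apply]
    rw [hs]
    constructor
    · intro h
      have h1 : (M : Matrix (Fin 2) (Fin 2) F) * (r • (1 : Matrix (Fin 2) (Fin 2) F)) =
          (M : Matrix (Fin 2) (Fin 2) F) * ((M⁻¹ * M' : SL2' F) : Matrix (Fin 2) (Fin 2) F) := by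
        rw [h]
      rw [← Matrix.SpecialLinearGroup.coe_mul, mul_inv_cancel_left, Matrix.mul_smul, mul_one] at h1
      exact h1.symm
    · intro h
      rw [Matrix.SpecialLinearGroup.coe_mul, h, Matrix.mul_smul, ← Matrix.SpecialLinearGroup.coe_mul,
        inv_mul_cancel, Matrix.SpecialLinearGroup.coe_one]
  constructor
  · rintro ⟨r, hr, h⟩
    exact ⟨r, by simpa using hr, (key r).mp h⟩
  · rintro ⟨r, hr, h⟩
    exact ⟨r, by simpa using hr, (key r).mpr h⟩

theorem mk_uu_inj (x y : F) (h : (QuotientGroup.mk (uu x) : PSL2' F) = QuotientGroup.mk (uu y)) :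
    x = y := by
  obtain ⟨r, -, hr⟩ := (mk_eq_iff _ _).mp h
  have h00 := congrFun (congrFun hr 0) 0
  have h01 := congrFun (congrFun hr 0) 1
  rw [uu_coe, uu_coe] at h00 h01
  simp at h00 h01
  rw [← h00, one_mul] at h01
  exact h01.symm

theorem mk_ll_inj (x y : F) (h : (QuotientGroup.mk (ll x) : PSL2' F) = QuotientGroup.mk (ll y)) :
    x = y := by
  obtain ⟨r, -, hr⟩ := (mk_eq_iff _ _).mp h
  have h00 := congrFun (congrFun hr 0) 0
  have h10 := congrFun (congrFun hr 1) 0
  rw [ll_coe, ll_coe] at h00 h10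
  simp at h00 h10
  rw [← h00, one_mul] at h10
  exact h10.symm

theorem map_center_eq {H : Type*} [Group H] (e : H ≃* H) :
    (Subgroup.center H).map (e : H →* H) = Subgroup.center H := by
  ext x
  constructor
  · rintro ⟨y, hy, rfl⟩
    have hy' : y ∈ Subgroup.center H := hy
    rw [Subgroup.mem_center_iff] at hy'
    show e y ∈ Subgroup.center H
    rw [Subgroup.mem_center_iff]
    intro g
    obtain ⟨g', rfl⟩ := e.surjective g
    rw [← map_mul, ← map_mul, hy' g']
  · intro hx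
    rw [Subgroup.mem_center_iff] at hx
    refine ⟨e.symm x, ?_, by simp⟩
    show e.symm x ∈ Subgroup.center H
    rw [Subgroup.mem_center_iff]
    intro g
    apply e.injective
    rw [map_mul, map_mul, e.apply_symm_apply]
    exact hx (e g)

/-- an automorphism of `SL₂` induces an automorphism of `PSL₂` -/
def liftAut (e : SL2' F ≃* SL2' F) : MulAut (PSL2' F) :=
  QuotientGroup.congr _ _ e (map_center_eq e)

theorem liftAut_mk (e : SL2' F ≃* SL2' F) (M : SL2' F) :
    liftAut e (QuotientGroup.mk M) = QuotientGroup.mk (e M) := rfl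

/-- conjugation by an element of `GL₂` on `SL₂` -/
def conjSL (A : GL (Fin 2) F) : SL2' F ≃* SL2' F where
  toFun M := ⟨(A : Matrix (Fin 2) (Fin 2) F) * M * ((A⁻¹ : GL (Fin 2) F) : Matrix (Fin 2) (Fin 2) F), by
    rw [Matrix.det_mul, Matrix.det_mul, M.2, mul_one, ← Matrix.det_mul, Units.mul_inv, Matrix.det_one]⟩
  invFun M := ⟨((A⁻¹ : GL (Fin 2) F) : Matrix (Fin 2) (Fin 2) F) * M * (A : Matrix (Fin 2) (Fin 2) F), by
    rw [Matrix.det_mul, Matrix.det_mul, M.2, mul_one, ← Matrix.det_mul, Units.inv_mul, Matrix.det_one]⟩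
  left_inv M := by
    apply Subtype.ext
    show ((A⁻¹ : GL (Fin 2) F) : Matrix (Fin 2) (Fin 2) F) * ((A : Matrix (Fin 2) (Fin 2) F) * M *
      ((A⁻¹ : GL (Fin 2) F) : Matrix (Fin 2) (Fin 2) F)) * (A : Matrix (Fin 2) (Fin 2) F) = M
    rw [← mul_assoc, ← mul_assoc, Units.inv_mul, one_mul, mul_assoc, Units.inv_mul, mul_one]
  right_inv M := by
    apply Subtype.ext
    show (A : Matrix (Fin 2) (Fin 2) F) * (((A⁻¹ : GL (Fin 2) F) : Matrix (Fin 2) (Fin 2) F) * M *
      (A : Matrix (Fin 2) (Fin 2) F)) * ((A⁻¹ : GL (Fin 2) F) : Matrix (Fin 2) (Fin 2) F) = M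
    rw [← mul_assoc, ← mul_assoc, Units.mul_inv, one_mul, mul_assoc, Units.mul_inv, mul_one]
  map_mul' M N := by
    apply Subtype.ext
    show (A : Matrix (Fin 2) (Fin 2) F) * ((M : Matrix (Fin 2) (Fin 2) F) * N) *
      ((A⁻¹ : GL (Fin 2) F) : Matrix (Fin 2) (Fin 2) F) =
      (A : Matrix (Fin 2) (Fin 2) F) * M * ((A⁻¹ : GL (Fin 2) F) : Matrix (Fin 2) (Fin 2) F) *
      ((A : Matrix (Fin 2) (Fin 2) F) * N * ((A⁻¹ : GL (Fin 2) F) : Matrix (Fin 2) (Fin 2) F))
    have h : ((A⁻¹ : GL (Fin 2) F) : Matrix (Fin 2) (Fin 2) F) * (A : Matrix (Fin 2) (Fin 2) F) = 1 :=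
      Units.inv_mul A
    calc (A : Matrix (Fin 2) (Fin 2) F) * ((M : Matrix (Fin 2) (Fin 2) F) * N) *
          ((A⁻¹ : GL (Fin 2) F) : Matrix (Fin 2) (Fin 2) F)
        = (A : Matrix (Fin 2) (Fin 2) F) * M * 1 * N *
          ((A⁻¹ : GL (Fin 2) F) : Matrix (Fin 2) (Fin 2) F) := by simp only [mul_assoc, one_mul]
      _ = _ := by rw [← h]; simp only [mul_assoc]

theorem conjSL_coe (A : GL (Fin 2) F) (M : SL2' F) :
    ((conjSL A M : SL2' F) : Matrix (Fin 2) (Fin 2) F) =
      (A : Matrix (Fin 2) (Fin 2) F) * M * ((A⁻¹ : GL (Fin 2) F) : Matrix (Fin 2) (Fin 2) F) := rfl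

/-- conjugation by `GL₂` on `PSL₂` -/
def conjAut : GL (Fin 2) F →* MulAut (PSL2' F) where
  toFun A := liftAut (conjSL A)
  map_one' := by
    apply MulEquiv.ext
    intro x
    induction x using QuotientGroup.induction_on with
    | H M =>
      rw [liftAut_mk]
      congr 1
      apply Subtype.ext
      rw [conjSL_coe]
      simp
  map_mul' A B := by
    apply MulEquiv.ext
    intro x
    induction x using QuotientGroup.induction_on with
    | H M =>
      rw [MulAut.mul_apply, liftAut_mk, liftAut_mk, liftAut_mk]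
      congr 1
      apply Subtype.ext
      rw [conjSL_coe, conjSL_coe, conjSL_coe, _root_.mul_inv_rev, Units.val_mul, Units.val_mul]
      simp only [mul_assoc]

theorem conjAut_mk (A : GL (Fin 2) F) (M : SL2' F) :
    conjAut A (QuotientGroup.mk M) = QuotientGroup.mk (conjSL A M) := rfl

/-- a field automorphism acting on `SL₂` -/
def fieldSL (σ : F ≃+* F) : SL2' F ≃* SL2' F where
  toFun := Matrix.SpecialLinearGroup.map (σ : F →+* F)
  invFun := Matrix.SpecialLinearGroup.map (σ.symm : F →+* F)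
  left_inv M := by
    apply Subtype.ext
    ext i j
    show σ.symm (σ (M i j)) = M i j
    simp
  right_inv M := by
    apply Subtype.ext
    ext i j
    show σ (σ.symm (M i j)) = M i j
    simp
  map_mul' M N := map_mul _ M N

theorem fieldSL_apply (σ : F ≃+* F) (M : SL2' F) (i j : Fin 2) :
    (fieldSL σ M) i j = σ (M i j) := rfl

/-- a field automorphism acting on `PSL₂` -/
def fieldAut : (F ≃+* F) →* MulAut (PSL2' F) where
  toFun σ := liftAut (fieldSL σ)
  map_one' := by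
    apply MulEquiv.ext
    intro x
    induction x using QuotientGroup.induction_on with
    | H M =>
      rw [liftAut_mk]
      congr 1
  map_mul' σ τ := by
    apply MulEquiv.ext
    intro x
    induction x using QuotientGroup.induction_on with
    | H M =>
      rw [MulAut.mul_apply, liftAut_mk, liftAut_mk, liftAut_mk]
      congr 1

theorem fieldAut_mk (σ : F ≃+* F) (M : SL2' F) :
    fieldAut σ (QuotientGroup.mk M) = QuotientGroup.mk (fieldSL σ M) := rfl

theorem fieldSL_uu (σ : F ≃+* F) (x : F) : fieldSL σ (uu x) = uu (σ x) := by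
  apply Subtype.ext
  ext i j
  show σ ((uu x : SL2' F) i j) = (uu (σ x) : SL2' F) i j
  fin_cases i <;> fin_cases j <;> simp [uu]

theorem fieldSL_ll (σ : F ≃+* F) (x : F) : fieldSL σ (ll x) = ll (σ x) := by
  apply Subtype.ext
  ext i j
  show σ ((ll x : SL2' F) i j) = (ll (σ x) : SL2' F) i j
  fin_cases i <;> fin_cases j <;> simp [ll]


theorem conjSL_toGL (M N : SL2' F) :
    conjSL (Matrix.SpecialLinearGroup.toGL M) N = M * N * M⁻¹ := by
  apply Subtype.ext
  rw [conjSL_coe, ← map_inv]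
  rfl

theorem inn_eq (M : SL2' F) :
    MulAut.conj (QuotientGroup.mk M : PSL2' F) = conjAut (Matrix.SpecialLinearGroup.toGL M) := by
  apply MulEquiv.ext
  intro x
  induction x using QuotientGroup.induction_on with
  | H N =>
    rw [conjAut_mk, conjSL_toGL, MulAut.conj_apply]
    rfl

theorem fieldSL_coe (σ : F ≃+* F) (M : SL2' F) :
    ((fieldSL σ M : SL2' F) : Matrix (Fin 2) (Fin 2) F) =
      (σ : F →+* F).mapMatrix (M : Matrix (Fin 2) (Fin 2) F) := rfl

theorem field_conj (σ : F ≃+* F) (B : GL (Fin 2) F) :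
    fieldAut σ * conjAut B =
      conjAut (Matrix.GeneralLinearGroup.map (σ : F →+* F) B) * fieldAut σ := by
  apply MulEquiv.ext
  intro x
  induction x using QuotientGroup.induction_on with
  | H M =>
    rw [MulAut.mul_apply, MulAut.mul_apply, conjAut_mk, fieldAut_mk, fieldAut_mk, conjAut_mk]
    congr 1
    apply Subtype.ext
    rw [fieldSL_coe, conjSL_coe, conjSL_coe, fieldSL_coe, map_mul, map_mul, ← map_inv]
    rfl

/-- the diagonal element `diag(c, 1)` of `GL₂` -/
def dg (c : F) (hc : c ≠ 0) : GL (Fin 2) F :=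
  ⟨!![c, 0; 0, 1], !![c⁻¹, 0; 0, 1], by
    ext i j
    fin_cases i <;> fin_cases j <;> simp [Matrix.mul_apply, Fin.sum_univ_two, hc], by
    ext i j
    fin_cases i <;> fin_cases j <;> simp [Matrix.mul_apply, Fin.sum_univ_two, hc]⟩

theorem dg_coe (c : F) (hc : c ≠ 0) :
    ((dg c hc : GL (Fin 2) F) : Matrix (Fin 2) (Fin 2) F) = !![c, 0; 0, 1] := rfl

theorem dg_inv_coe (c : F) (hc : c ≠ 0) :
    (((dg c hc)⁻¹ : GL (Fin 2) F) : Matrix (Fin 2) (Fin 2) F) = !![c⁻¹, 0; 0, 1] := rfl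

theorem conjSL_dg_uu (c : F) (hc : c ≠ 0) (x : F) : conjSL (dg c hc) (uu x) = uu (c * x) := by
  apply Subtype.ext
  rw [conjSL_coe, dg_coe, dg_inv_coe, uu_coe, uu_coe]
  ext i j
  fin_cases i <;> fin_cases j <;> simp [Matrix.mul_apply, Fin.sum_univ_two, hc]

theorem conjSL_dg_ll (c : F) (hc : c ≠ 0) (x : F) : conjSL (dg c hc) (ll x) = ll (x / c) := by
  apply Subtype.ext
  rw [conjSL_coe, dg_coe, dg_inv_coe, ll_coe, ll_coe]
  ext i j
  fin_cases i <;> fin_cases j <;> simp [Matrix.mul_apply, Fin.sum_univ_two, hc, div_eq_mul_inv]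

/-- scalar matrices act trivially -/
theorem conjAut_scalar (C : GL (Fin 2) F) (a : F)
    (h : (C : Matrix (Fin 2) (Fin 2) F) = a • (1 : Matrix (Fin 2) (Fin 2) F)) : conjAut C = 1 := by
  apply MulEquiv.ext
  intro x
  induction x using QuotientGroup.induction_on with
  | H M =>
    rw [conjAut_mk, MulAut.one_apply]
    congr 1
    apply Subtype.ext
    rw [conjSL_coe]
    have h1 : (C : Matrix (Fin 2) (Fin 2) F) * (M : Matrix (Fin 2) (Fin 2) F) =
        (M : Matrix (Fin 2) (Fin 2) F) * (C : Matrix (Fin 2) (Fin 2) F) := by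
      rw [h, Matrix.smul_mul, Matrix.mul_smul, one_mul, mul_one]
    rw [h1, mul_assoc, Units.mul_inv, mul_one]

/-- an element of `GL₂` fixing the classes of `uu 1` and `ll 1` is scalar -/
theorem scalar_of_fix (C : GL (Fin 2) F)
    (hu : conjAut C (QuotientGroup.mk (uu 1)) = QuotientGroup.mk (uu (1 : F)))
    (hl : conjAut C (QuotientGroup.mk (ll 1)) = QuotientGroup.mk (ll (1 : F))) :
    ∃ a : F, (C : Matrix (Fin 2) (Fin 2) F) = a • (1 : Matrix (Fin 2) (Fin 2) F) := by
  set Cm : Matrix (Fin 2) (Fin 2) F := (C : Matrix (Fin 2) (Fin 2) F) with hCm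
  have hdet : Cm.det ≠ 0 := by
    have h1 : Cm * ((C⁻¹ : GL (Fin 2) F) : Matrix (Fin 2) (Fin 2) F) = 1 := Units.mul_inv C
    intro h0
    have h2 := congrArg Matrix.det h1
    rw [Matrix.det_mul, h0, zero_mul, Matrix.det_one] at h2
    exact zero_ne_one h2
  rw [Matrix.det_fin_two] at hdet
  -- the relation with `uu 1`
  have key : ∀ N : SL2' F, conjAut C (QuotientGroup.mk N) = QuotientGroup.mk N →
      ∃ r : F, r ^ 2 = 1 ∧ (N : Matrix (Fin 2) (Fin 2) F) * Cm = r • (Cm * N) := by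
    intro N hN
    rw [conjAut_mk] at hN
    obtain ⟨r, hr, h⟩ := (mk_eq_iff _ _).mp hN
    refine ⟨r, hr, ?_⟩
    have h' : (N : Matrix (Fin 2) (Fin 2) F) * Cm =
        (r • ((conjSL C N : SL2' F) : Matrix (Fin 2) (Fin 2) F)) * Cm := by rw [← h]
    rw [h', conjSL_coe, Matrix.smul_mul, mul_assoc, Units.inv_mul, mul_one]
  obtain ⟨r, hr, h1⟩ := key _ hu
  obtain ⟨r', hr', h2⟩ := key _ hl
  rw [uu_coe] at h1
  rw [ll_coe] at h2
  have e00 := congrFun (congrFun h1 0) 0
  have e01 := congrFun (congrFun h1 0) 1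
  have e10 := congrFun (congrFun h1 1) 0
  have e11 := congrFun (congrFun h1 1) 1
  have f00 := congrFun (congrFun h2 0) 0
  have f01 := congrFun (congrFun h2 0) 1
  have f10 := congrFun (congrFun h2 1) 0
  have f11 := congrFun (congrFun h2 1) 1
  simp [Matrix.mul_apply, Fin.sum_univ_two] at e00 e01 e10 e11 f00 f01 f10 f11
  have hcd : Cm 1 0 = 0 ∧ Cm 1 1 = Cm 0 0 := by
    have hfac : (r - 1) * (r + 1) = 0 := by linear_combination hr
    rcases mul_eq_zero.mp hfac with h | h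
    · have hr1 : r = 1 := sub_eq_zero.mp h
      rw [hr1, one_mul] at e00 e01
      exact ⟨by linear_combination e00, by linear_combination e01⟩
    · have hr1 : r = -1 := eq_neg_of_add_eq_zero_left h
      rw [hr1] at e00 e01 e10 e11
      by_cases h2 : (2 : F) = 0
      · have hc0 : Cm 1 0 = 0 := by linear_combination e00 - Cm 0 0 * h2
        refine ⟨hc0, ?_⟩
        linear_combination e01 - (Cm 0 0 + Cm 0 1) * h2
      · exfalso
        have hc0 : Cm 1 0 = 0 := by
          have : (2 : F) * Cm 1 0 = 0 := by linear_combination e10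
          rcases mul_eq_zero.mp this with h | h
          · exact absurd h h2
          · exact h
        have ha0 : Cm 0 0 = 0 := by
          have : (2 : F) * Cm 0 0 = 0 := by linear_combination e00 - hc0
          rcases mul_eq_zero.mp this with h | h
          · exact absurd h h2
          · exact h
        apply hdet
        rw [ha0, hc0]
        ring
  have hb : Cm 0 1 = 0 := by
    have hfac : (r' - 1) * (r' + 1) = 0 := by linear_combination hr'
    rcases mul_eq_zero.mp hfac with h | h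
    · have hr1 : r' = 1 := sub_eq_zero.mp h
      rw [hr1, one_mul] at f00
      linear_combination -f00
    · have hr1 : r' = -1 := eq_neg_of_add_eq_zero_left h
      rw [hr1] at f00 f01 f10 f11
      by_cases h2 : (2 : F) = 0
      · linear_combination f00 - Cm 0 0 * h2
      · have : (2 : F) * Cm 0 1 = 0 := by linear_combination f01
        rcases mul_eq_zero.mp this with h | h
        · exact absurd h h2
        · exact h
  refine ⟨Cm 0 0, ?_⟩
  ext i j
  fin_cases i <;> fin_cases j <;> simp [hcd.1, hcd.2, hb]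

/-- uniqueness of the field automorphism -/
theorem field_unique (A B : GL (Fin 2) F) (σ τ : F ≃+* F)
    (h : conjAut A * fieldAut σ = conjAut B * fieldAut τ) : σ = τ := by
  have h1 : conjAut (B⁻¹ * A) = fieldAut (τ * σ⁻¹) := by
    rw [map_mul, map_mul, map_inv, map_inv]
    rw [inv_mul_eq_iff_eq_mul, ← mul_assoc, ← h, mul_assoc, mul_inv_cancel, mul_one]
  have hu : conjAut (B⁻¹ * A) (QuotientGroup.mk (uu 1)) = QuotientGroup.mk (uu (1 : F)) := by
    rw [h1, fieldAut_mk, fieldSL_uu, map_one]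
  have hl : conjAut (B⁻¹ * A) (QuotientGroup.mk (ll 1)) = QuotientGroup.mk (ll (1 : F)) := by
    rw [h1, fieldAut_mk, fieldSL_ll, map_one]
  obtain ⟨a, ha⟩ := scalar_of_fix _ hu hl
  have h2 : fieldAut (τ * σ⁻¹) = (1 : MulAut (PSL2' F)) := by
    rw [← h1]
    exact conjAut_scalar _ a ha
  have h3 : τ * σ⁻¹ = 1 := by
    apply RingEquiv.ext
    intro x
    have h4 := congrArg (fun α : MulAut (PSL2' F) => α (QuotientGroup.mk (uu x))) h2
    simp only [MulAut.one_apply] at h4
    rw [fieldAut_mk, fieldSL_uu] at h4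
    exact mk_uu_inj _ _ h4
  exact (mul_inv_eq_one.mp h3).symm

/-- two automorphisms agreeing on the unitriangular elements are equal -/
theorem aut_ext (α β : MulAut (PSL2' F))
    (hu : ∀ x : F, α (QuotientGroup.mk (uu x)) = β (QuotientGroup.mk (uu x)))
    (hl : ∀ x : F, α (QuotientGroup.mk (ll x)) = β (QuotientGroup.mk (ll x))) : α = β := by
  apply MulEquiv.ext
  intro g
  induction g using QuotientGroup.induction_on with
  | H M =>
    refine SLSimple.transvection_induction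
      (fun M : SL2' F => α (QuotientGroup.mk M) = β (QuotientGroup.mk M)) ?_ ?_ M
    · intro i j hij a
      have h01 : ∀ (h : (0 : Fin 2) ≠ 1), Matrix.SpecialLinearGroup.transvection h a = uu a := by
        intro h
        apply Subtype.ext
        rw [Matrix.SpecialLinearGroup.transvection_coe, uu_coe]
        ext i j
        fin_cases i <;> fin_cases j <;> simp [Matrix.single_apply]
      have h10 : ∀ (h : (1 : Fin 2) ≠ 0), Matrix.SpecialLinearGroup.transvection h a = ll a := by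
        intro h
        apply Subtype.ext
        rw [Matrix.SpecialLinearGroup.transvection_coe, ll_coe]
        ext i j
        fin_cases i <;> fin_cases j <;> simp [Matrix.single_apply]
      fin_cases i <;> fin_cases j
      · exact absurd rfl hij
      · show α (QuotientGroup.mk (Matrix.SpecialLinearGroup.transvection _ a)) = _
        rw [h01]; exact hu a
      · show α (QuotientGroup.mk (Matrix.SpecialLinearGroup.transvection _ a)) = _
        rw [h10]; exact hl a
      · exact absurd rfl hij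
    · intro A B hA hB
      show α (QuotientGroup.mk (A * B)) = β (QuotientGroup.mk (A * B))
      rw [QuotientGroup.mk_mul, map_mul, map_mul, hA, hB]

/-- in a finite field every element is a sum of two squares -/
theorem sum_two_sq [Fintype F] (y : F) : ∃ a b : F, a ^ 2 + b ^ 2 = y := by
  classical
  by_cases h2 : (2 : F) = 0
  · have hc : CharP F 2 := CharTwo.of_one_ne_zero_of_two_eq_zero one_ne_zero h2
    obtain ⟨s, hs⟩ := FiniteField.isSquare_of_char_two (ringChar.eq F 2) y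
    exact ⟨s, 0, by rw [hs]; ring⟩
  · have hodd : Fintype.card F % 2 = 1 := FiniteField.odd_card_of_char_ne_two (by
      intro hch
      have : CharP F 2 := ringChar.eq_iff.mp hch
      exact h2 (CharTwo.two_eq_zero))
    have hf : (Polynomial.X ^ 2 : Polynomial F).degree = 2 := Polynomial.degree_X_pow 2
    have hg : (Polynomial.X ^ 2 - Polynomial.C y : Polynomial F).degree = 2 := by
      rw [Polynomial.degree_sub_C (by rw [hf]; decide), hf]
    obtain ⟨a, b, hab⟩ := FiniteField.exists_root_sum_quadratic hf hg hodd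
    refine ⟨a, b, ?_⟩
    simp only [Polynomial.eval_pow, Polynomial.eval_X, Polynomial.eval_sub, Polynomial.eval_C] at hab
    linear_combination hab

theorem nn_mul_inv (a c : F) (ha : a ≠ 0) (hc : c ≠ 0) :
    nn a ha * (nn c hc)⁻¹ = hh (a / c) (div_ne_zero ha hc) := by
  apply Subtype.ext
  rw [Matrix.SpecialLinearGroup.coe_mul, Matrix.SpecialLinearGroup.coe_inv, nn_coe, nn_coe, hh_coe,
    Matrix.adjugate_fin_two]
  ext i j
  fin_cases i <;> fin_cases j <;> simp [Matrix.mul_apply, Fin.sum_univ_two, div_eq_mul_inv]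
  rw [mul_comm]

theorem nn_conj_uu (x : F) (hx : x ≠ 0) :
    nn x hx * uu 1 * (nn x hx)⁻¹ = ll (-(x⁻¹) ^ 2) := by
  apply Subtype.ext
  rw [conj_uu, ll_coe, nn_coe]
  ext i j
  fin_cases i <;> fin_cases j <;> simp

theorem uu_ll_uu_00 (a b : F) : (uu a * ll b * uu a : SL2' F) 0 0 = 1 + a * b := by
  show ((uu a * ll b * uu a : SL2' F) : Matrix (Fin 2) (Fin 2) F) 0 0 = 1 + a * b
  rw [Matrix.SpecialLinearGroup.coe_mul, Matrix.SpecialLinearGroup.coe_mul, uu_coe, ll_coe]
  simp [Matrix.mul_apply, Fin.sum_univ_two]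

/-- an automorphism stabilising the two unitriangular subgroups is a diagonal automorphism times
a field automorphism -/
theorem aut_of_fix [Fintype F] (β : MulAut (PSL2' F))
    (hU : ∀ x : F, ∃ y : F, β (QuotientGroup.mk (uu x)) = QuotientGroup.mk (uu y))
    (hL : ∀ x : F, ∃ y : F, β (QuotientGroup.mk (ll x)) = QuotientGroup.mk (ll y)) :
    ∃ (c : F) (hc : c ≠ 0) (τ : F ≃+* F), β = conjAut (dg c hc) * fieldAut τ := by
  classical
  choose σ₁ hσ₁ using hU
  choose σ₂ hσ₂ using hL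
  have s1_add : ∀ x y, σ₁ (x + y) = σ₁ x + σ₁ y := by
    intro x y
    apply mk_uu_inj
    rw [← hσ₁, uu_add, QuotientGroup.mk_mul, map_mul, hσ₁, hσ₁, ← QuotientGroup.mk_mul, ← uu_add]
  have s1_inj : ∀ x y, σ₁ x = σ₁ y → x = y := by
    intro x y h
    apply mk_uu_inj
    apply β.injective
    rw [hσ₁, hσ₁, h]
  have s1_zero : σ₁ 0 = 0 := by
    have := s1_add 0 0
    rw [add_zero] at this
    linear_combination -this
  have s2_add : ∀ x y, σ₂ (x + y) = σ₂ x + σ₂ y := by
    intro x y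
    apply mk_ll_inj
    rw [← hσ₂, ll_add, QuotientGroup.mk_mul, map_mul, hσ₂, hσ₂, ← QuotientGroup.mk_mul, ← ll_add]
  have s2_zero : σ₂ 0 = 0 := by
    have := s2_add 0 0
    rw [add_zero] at this
    linear_combination -this
  have s1_ne : ∀ x, x ≠ 0 → σ₁ x ≠ 0 := fun x hx h => hx (s1_inj x 0 (h.trans s1_zero.symm))
  have step4 : ∀ x (hx : x ≠ 0), 1 + σ₁ x * σ₂ (-x⁻¹) = 0 := by
    intro x hx
    have hm : β (QuotientGroup.mk (nn x hx)) =
        QuotientGroup.mk (uu (σ₁ x) * ll (σ₂ (-x⁻¹)) * uu (σ₁ x)) := by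
      rw [← nn_eq x hx, QuotientGroup.mk_mul, QuotientGroup.mk_mul, map_mul, map_mul, hσ₁, hσ₂]
      rfl
    have e1 : β (QuotientGroup.mk (nn x hx * uu 1 * (nn x hx)⁻¹)) =
        QuotientGroup.mk ((uu (σ₁ x) * ll (σ₂ (-x⁻¹)) * uu (σ₁ x)) * uu (σ₁ 1) *
        (uu (σ₁ x) * ll (σ₂ (-x⁻¹)) * uu (σ₁ x))⁻¹) := by
      rw [QuotientGroup.mk_mul, QuotientGroup.mk_mul, QuotientGroup.mk_inv, map_mul, map_mul,
        map_inv, hm, hσ₁]
      rfl
    have h1 : (QuotientGroup.mk ((uu (σ₁ x) * ll (σ₂ (-x⁻¹)) * uu (σ₁ x)) * uu (σ₁ 1) *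
        (uu (σ₁ x) * ll (σ₂ (-x⁻¹)) * uu (σ₁ x))⁻¹) : PSL2' F) =
        QuotientGroup.mk (ll (σ₂ (-(x⁻¹) ^ 2))) := by
      rw [← e1, nn_conj_uu, hσ₂]
    obtain ⟨r, hr, h2⟩ := (mk_eq_iff _ _).mp h1
    rw [conj_uu, ll_coe] at h2
    have e01 := congrFun (congrFun h2 0) 1
    rw [uu_ll_uu_00] at e01
    simp at e01
    have hr0 : r ≠ 0 := by
      intro h0
      rw [h0] at hr
      simp at hr
    rcases e01 with h | h
    · exact absurd h hr0
    · rcases h with h | h
      · exact h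
      · exact absurd h (s1_ne 1 one_ne_zero)
  have hnn : ∀ x (hx : x ≠ 0), β (QuotientGroup.mk (nn x hx)) =
      QuotientGroup.mk (nn (σ₁ x) (s1_ne x hx)) := by
    intro x hx
    have h4 : σ₂ (-x⁻¹) = -(σ₁ x)⁻¹ := by
      have h := step4 x hx
      have hne := s1_ne x hx
      have h' : σ₁ x * σ₂ (-x⁻¹) = -1 := by linear_combination h
      calc σ₂ (-x⁻¹) = (σ₁ x)⁻¹ * (σ₁ x * σ₂ (-x⁻¹)) := by
            rw [← mul_assoc, inv_mul_cancel₀ hne, one_mul]
        _ = -(σ₁ x)⁻¹ := by rw [h', mul_neg_one]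
    rw [← nn_eq x hx, QuotientGroup.mk_mul, QuotientGroup.mk_mul, map_mul, map_mul, hσ₁, hσ₂,
      ← nn_eq (σ₁ x) (s1_ne x hx), h4]
    rfl
  have hc : σ₁ 1 ≠ 0 := s1_ne 1 one_ne_zero
  have hhh : ∀ x (hx : x ≠ 0), β (QuotientGroup.mk (hh x hx)) =
      QuotientGroup.mk (hh (σ₁ x / σ₁ 1) (div_ne_zero (s1_ne x hx) hc)) := by
    intro x hx
    rw [← hh_eq x hx, QuotientGroup.mk_mul, QuotientGroup.mk_inv, map_mul, map_inv, hnn, hnn,
      ← QuotientGroup.mk_inv, ← QuotientGroup.mk_mul, nn_mul_inv]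
  have key : ∀ x t, x ≠ 0 → σ₁ (x ^ 2 * t) = (σ₁ x / σ₁ 1) ^ 2 * σ₁ t := by
    intro x t hx
    apply mk_uu_inj
    rw [← hσ₁, ← hh_conj x hx t, QuotientGroup.mk_mul, QuotientGroup.mk_mul, QuotientGroup.mk_inv,
      map_mul, map_mul, map_inv, hhh x hx, hσ₁, ← QuotientGroup.mk_inv, ← QuotientGroup.mk_mul,
      ← QuotientGroup.mk_mul, hh_conj]
  let τf : F → F := fun x => σ₁ x / σ₁ 1
  have τ_one : τf 1 = 1 := div_self hc
  have τ_add : ∀ x y, τf (x + y) = τf x + τf y := by
    intro x y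
    show σ₁ (x + y) / σ₁ 1 = σ₁ x / σ₁ 1 + σ₁ y / σ₁ 1
    rw [s1_add, add_div]
  have τ_zero : τf 0 = 0 := by
    show σ₁ 0 / σ₁ 1 = 0
    rw [s1_zero, zero_div]
  have τ_sq_mul : ∀ x t, τf (x ^ 2 * t) = τf x ^ 2 * τf t := by
    intro x t
    by_cases hx : x = 0
    · subst hx
      rw [τ_zero]
      simp only [ne_eq, OfNat.ofNat_ne_zero, not_false_eq_true, zero_pow, zero_mul]
      exact τ_zero
    · show σ₁ (x ^ 2 * t) / σ₁ 1 = (σ₁ x / σ₁ 1) ^ 2 * (σ₁ t / σ₁ 1)
      rw [key x t hx]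
      ring
  have τ_sq : ∀ x, τf (x ^ 2) = τf x ^ 2 := by
    intro x
    have := τ_sq_mul x 1
    rwa [mul_one, τ_one, mul_one] at this
  have τ_mul : ∀ y t, τf (y * t) = τf y * τf t := by
    intro y t
    obtain ⟨a, b, hab⟩ := sum_two_sq y
    rw [← hab, add_mul, τ_add, τ_sq_mul, τ_sq_mul, τ_add, τ_sq, τ_sq]
    ring
  let τh : F →+* F :=
    { toFun := τf, map_one' := τ_one, map_mul' := τ_mul, map_zero' := τ_zero, map_add' := τ_add }
  have τ_inj : Function.Injective τh := τh.injective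
  have τ_bij : Function.Bijective τh := ⟨τ_inj, Finite.injective_iff_surjective.mp τ_inj⟩
  let τ : F ≃+* F := RingEquiv.ofBijective τh τ_bij
  have hτ : ∀ x, τ x = σ₁ x / σ₁ 1 := fun x => rfl
  refine ⟨σ₁ 1, hc, τ, ?_⟩
  apply aut_ext
  · intro x
    rw [MulAut.mul_apply, fieldAut_mk, fieldSL_uu, conjAut_mk, conjSL_dg_uu, hσ₁, hτ,
      mul_div_cancel₀ _ hc]
  · intro y
    rw [MulAut.mul_apply, fieldAut_mk, fieldSL_ll, conjAut_mk, conjSL_dg_ll, hσ₂]
    have hσ₂y : σ₂ y = τ y / σ₁ 1 := by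
      by_cases hy : y = 0
      · subst hy
        rw [s2_zero, map_zero, zero_div]
      · have h := step4 (-y⁻¹) (neg_ne_zero.mpr (inv_ne_zero hy))
        have e : -(-y⁻¹)⁻¹ = y := by
          rw [inv_neg, neg_neg, inv_inv]
        rw [e] at h
        have h1 : τ (-y⁻¹) = -(τ y)⁻¹ := by rw [map_neg, map_inv₀]
        rw [hτ] at h1
        have hτy : τ y ≠ 0 := by
          intro h0
          exact hy (τ.injective (h0.trans (map_zero τ).symm))
        have h2 : σ₁ (-y⁻¹) = -(τ y)⁻¹ * σ₁ 1 := by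
          rw [← h1, div_mul_cancel₀ _ hc]
        rw [h2] at h
        generalize σ₂ y = b at h ⊢
        generalize τ y = a at h hτy ⊢
        generalize σ₁ 1 = c at h hc ⊢
        field_simp
        field_simp at h
        linear_combination -h
    rw [hσ₂y]

section SylowPart

open scoped Pointwise

/-- the image of the upper unitriangular group -/
def Usub (F : Type*) [Field F] : Subgroup (PSL2' F) where
  carrier := {g | ∃ x : F, g = QuotientGroup.mk (uu x)}
  one_mem' := ⟨0, by rw [uu_zero]; rfl⟩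
  mul_mem' := by
    rintro _ _ ⟨x, rfl⟩ ⟨y, rfl⟩
    exact ⟨x + y, by rw [uu_add]; rfl⟩
  inv_mem' := by
    rintro _ ⟨x, rfl⟩
    exact ⟨-x, by rw [← uu_inv]; rfl⟩

/-- the image of the lower unitriangular group -/
def Lsub (F : Type*) [Field F] : Subgroup (PSL2' F) where
  carrier := {g | ∃ x : F, g = QuotientGroup.mk (ll x)}
  one_mem' := ⟨0, by rw [ll_zero]; rfl⟩
  mul_mem' := by
    rintro _ _ ⟨x, rfl⟩ ⟨y, rfl⟩
    exact ⟨x + y, by rw [ll_add]; rfl⟩
  inv_mem' := by
    rintro _ ⟨x, rfl⟩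
    exact ⟨-x, by rw [← ll_inv]; rfl⟩

theorem mem_Usub (g : PSL2' F) : g ∈ Usub F ↔ ∃ x : F, g = QuotientGroup.mk (uu x) := Iff.rfl
theorem mem_Lsub (g : PSL2' F) : g ∈ Lsub F ↔ ∃ x : F, g = QuotientGroup.mk (ll x) := Iff.rfl

theorem conj_mk (M N : SL2' F) :
    MulAut.conj (QuotientGroup.mk M : PSL2' F) • (QuotientGroup.mk N : PSL2' F) =
      QuotientGroup.mk (M * N * M⁻¹) := by
  rw [MulAut.smul_def, MulAut.conj_apply]
  rfl

theorem conj_uu_zero (M : SL2' F) (h : M 1 0 = 0) (x : F) :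
    M * uu x * M⁻¹ = uu (M 0 0 ^ 2 * x) := by
  apply Subtype.ext
  rw [conj_uu, uu_coe, h]
  ext i j
  fin_cases i <;> fin_cases j <;> simp

theorem conj_uu_ne (M : SL2' F) (h : M 1 0 ≠ 0) (x : F) :
    M * uu x * M⁻¹ = uu (M 0 0 / M 1 0) * ll (-(M 1 0 ^ 2 * x)) * (uu (M 0 0 / M 1 0))⁻¹ := by
  apply Subtype.ext
  rw [conj_uu, uu_inv, Matrix.SpecialLinearGroup.coe_mul, Matrix.SpecialLinearGroup.coe_mul,
    uu_coe, uu_coe, ll_coe]
  ext i j
  fin_cases i <;> fin_cases j <;> simp [Matrix.mul_apply, Fin.sum_univ_two] <;> field_simp <;> ring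

theorem a_ne_zero_of (M : SL2' F) (h : M 1 0 = 0) : M 0 0 ≠ 0 := by
  have hdet := M.2
  rw [Matrix.det_fin_two, h, mul_zero, sub_zero] at hdet
  intro h0
  rw [h0, zero_mul] at hdet
  exact zero_ne_one hdet

theorem conj_U_of_zero (M : SL2' F) (h : M 1 0 = 0) :
    MulAut.conj (QuotientGroup.mk M : PSL2' F) • Usub F = Usub F := by
  have ha := a_ne_zero_of M h
  ext g
  rw [Subgroup.mem_smul_pointwise_iff_exists]
  constructor
  · rintro ⟨_, ⟨x, rfl⟩, rfl⟩
    rw [conj_mk, conj_uu_zero M h]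
    exact ⟨_, rfl⟩
  · rintro ⟨y, rfl⟩
    refine ⟨QuotientGroup.mk (uu (y / M 0 0 ^ 2)), ⟨_, rfl⟩, ?_⟩
    rw [conj_mk, conj_uu_zero M h]
    congr 2
    field_simp

theorem conj_U_of_ne (M : SL2' F) (h : M 1 0 ≠ 0) :
    MulAut.conj (QuotientGroup.mk M : PSL2' F) • Usub F =
      MulAut.conj (QuotientGroup.mk (uu (M 0 0 / M 1 0)) : PSL2' F) • Lsub F := by
  ext g
  rw [Subgroup.mem_smul_pointwise_iff_exists, Subgroup.mem_smul_pointwise_iff_exists]
  constructor
  · rintro ⟨_, ⟨x, rfl⟩, rfl⟩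
    refine ⟨QuotientGroup.mk (ll (-(M 1 0 ^ 2 * x))), ⟨_, rfl⟩, ?_⟩
    rw [conj_mk, conj_mk, conj_uu_ne M h]
  · rintro ⟨_, ⟨y, rfl⟩, rfl⟩
    refine ⟨QuotientGroup.mk (uu (-(y / M 1 0 ^ 2))), ⟨_, rfl⟩, ?_⟩
    rw [conj_mk, conj_mk, conj_uu_ne M h]
    congr 4
    field_simp

theorem L_eq_conj : Lsub F =
    MulAut.conj (QuotientGroup.mk (nn (1 : F) one_ne_zero) : PSL2' F) • Usub F := by
  have h10 : (nn (1 : F) one_ne_zero) 1 0 ≠ 0 := by
    show ((nn (1 : F) one_ne_zero : SL2' F) : Matrix (Fin 2) (Fin 2) F) 1 0 ≠ 0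
    rw [nn_coe]
    simp
  have h00 : (nn (1 : F) one_ne_zero) 0 0 = 0 := by
    show ((nn (1 : F) one_ne_zero : SL2' F) : Matrix (Fin 2) (Fin 2) F) 0 0 = 0
    rw [nn_coe]
    simp
  rw [conj_U_of_ne _ h10, h00, zero_div, uu_zero]
  ext g
  rw [Subgroup.mem_smul_pointwise_iff_exists]
  constructor
  · intro hg
    refine ⟨g, hg, ?_⟩
    rw [MulAut.smul_def, MulAut.conj_apply]
    show (QuotientGroup.mk (1 : SL2' F) : PSL2' F) * g * (QuotientGroup.mk (1 : SL2' F))⁻¹ = g
    rw [QuotientGroup.mk_one, one_mul, inv_one, mul_one]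
  · rintro ⟨s, hs, rfl⟩
    rw [MulAut.smul_def, MulAut.conj_apply]
    show (QuotientGroup.mk (1 : SL2' F) : PSL2' F) * s * (QuotientGroup.mk (1 : SL2' F))⁻¹ ∈ Lsub F
    rw [QuotientGroup.mk_one, one_mul, inv_one, mul_one]
    exact hs

theorem ll_one_not_mem : (QuotientGroup.mk (ll (1 : F)) : PSL2' F) ∉ Usub F := by
  rintro ⟨x, hx⟩
  obtain ⟨r, hr, h⟩ := (mk_eq_iff _ _).mp hx
  rw [uu_coe, ll_coe] at h
  have h10 := congrFun (congrFun h 1) 0
  simp at h10
  rw [← h10] at hr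
  simp at hr

variable [Fintype F]

theorem card_Usub : Nat.card (Usub F) = Fintype.card F := by
  rw [← Nat.card_eq_fintype_card]
  symm
  apply Nat.card_eq_of_bijective (fun x : F => (⟨QuotientGroup.mk (uu x), ⟨x, rfl⟩⟩ : Usub F))
  constructor
  · intro x y h
    exact mk_uu_inj x y (congrArg Subtype.val h)
  · rintro ⟨_, ⟨x, rfl⟩⟩
    exact ⟨x, rfl⟩

theorem card_GL_eq' (F : Type*) [Field F] [Fintype F] (n : ℕ) (hn : 1 ≤ n) :
    Nat.card (GL (Fin n) F) = (Fintype.card F - 1) * Nat.card (SpecialLinearGroup (Fin n) F) := by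
  classical
  have : Nonempty (Fin n) := ⟨⟨0, hn⟩⟩
  have h1 := Subgroup.card_mul_index (Matrix.GeneralLinearGroup.det (n := Fin n) (R := F)).ker
  rw [Subgroup.index_ker, MonoidHom.range_eq_top.2 Matrix.GeneralLinearGroup.det_surjective,
    Subgroup.card_top, Nat.card_units, Nat.card_eq_fintype_card (α := F)] at h1
  have h2 : Nat.card (Matrix.GeneralLinearGroup.det (n := Fin n) (R := F)).ker
      = Nat.card (SpecialLinearGroup (Fin n) F) := by
    symm
    apply Nat.card_eq_of_bijective (fun A : SpecialLinearGroup (Fin n) F =>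
      (⟨Matrix.SpecialLinearGroup.toGL A, by simp [MonoidHom.mem_ker]⟩ :
        (Matrix.GeneralLinearGroup.det (n := Fin n) (R := F)).ker))
    constructor
    · intro A B h
      exact Matrix.SpecialLinearGroup.toGL_injective (congrArg Subtype.val h)
    · rintro ⟨g, hg⟩
      have hdet : (g : Matrix (Fin n) (Fin n) F).det = 1 := by
        have := congrArg Units.val (MonoidHom.mem_ker.1 hg)
        simpa using this
      exact ⟨⟨g.1, hdet⟩, Subtype.ext (Units.ext rfl)⟩
  rw [h2] at h1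
  rw [← h1, mul_comm]

theorem card_PSL' (F : Type*) [Field F] [Fintype F] (n : ℕ) (hn : 1 ≤ n) :
    Nat.gcd n (Fintype.card F - 1) * ((Fintype.card F - 1)
      * Nat.card (ProjectiveSpecialLinearGroup (Fin n) F))
      = ∏ i : Fin n, (Fintype.card F ^ n - Fintype.card F ^ (i : ℕ)) := by
  classical
  have hSL : (Fintype.card F - 1) * Nat.card (SpecialLinearGroup (Fin n) F)
      = ∏ i : Fin n, (Fintype.card F ^ n - Fintype.card F ^ (i : ℕ)) := by
    rw [← card_GL_eq' F n hn, Matrix.card_GL_field]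
  have hZ : Nat.card (Subgroup.center (SpecialLinearGroup (Fin n) F))
      = Nat.gcd n (Fintype.card F - 1) := by
    have e := Matrix.SpecialLinearGroup.center_equiv_rootsOfUnity' (n := Fin n) (R := F) ⟨0, hn⟩
    rw [Nat.card_congr e.toEquiv, Fintype.card_fin, rootsOfUnity_eq_ker,
      IsCyclic.card_powMonoidHom_ker, Nat.card_units, Nat.card_eq_fintype_card (α := F),
      Nat.gcd_comm]
  rw [← hSL, ← hZ]
  have h := Subgroup.card_eq_card_quotient_mul_card_subgroup
    (Subgroup.center (SpecialLinearGroup (Fin n) F))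
  rw [h]
  ring

theorem index_Usub {p f : ℕ} [Fact p.Prime] (hF : Fintype.card F = p ^ f) (hf : 1 ≤ f) :
    ¬ p ∣ (Usub F).index := by
  classical
  have hp := (Fact.out : p.Prime)
  intro hdvd
  have hmul := (Usub F).index_mul_card
  rw [card_Usub] at hmul
  have hcard := card_PSL' F 2 (by norm_num)
  rw [Fin.prod_univ_two] at hcard
  simp only [Fin.val_zero, Fin.val_one, pow_zero, pow_one] at hcard
  have hq2 : 2 ≤ Fintype.card F := by
    rw [hF]
    calc 2 ≤ p := hp.two_le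
      _ = p ^ 1 := (pow_one p).symm
      _ ≤ p ^ f := Nat.pow_le_pow_right hp.pos hf
  obtain ⟨m, hm⟩ : ∃ m, Fintype.card F = m + 1 := ⟨Fintype.card F - 1, by omega⟩
  have hpq : p ∣ m + 1 := by
    rw [← hm, hF]
    exact dvd_pow_self p (by omega)
  rw [hm] at hcard hmul
  have e1 : (m + 1) ^ 2 - 1 = m * (m + 2) := by
    have : (m + 1) ^ 2 = m * (m + 2) + 1 := by ring
    omega
  have e2 : (m + 1) ^ 2 - (m + 1) = (m + 1) * m := by
    have : (m + 1) ^ 2 = (m + 1) * m + (m + 1) := by ring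
    omega
  rw [e1, e2, Nat.add_sub_cancel, ← hmul] at hcard
  have hm0 : 0 < m := by omega
  have h3 : Nat.gcd 2 m * (Usub F).index = m * (m + 2) := by
    have h4 : (m * (m + 1)) * (Nat.gcd 2 m * (Usub F).index) = (m * (m + 1)) * (m * (m + 2)) := by
      have e3 : (m * (m + 1)) * (Nat.gcd 2 m * (Usub F).index) =
          Nat.gcd 2 m * (m * ((Usub F).index * (m + 1))) := by ring
      rw [e3, hcard]; ring
    exact Nat.eq_of_mul_eq_mul_left (by positivity) h4
  have h5 : p ∣ m * (m + 2) := by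
    rw [← h3]
    exact Dvd.dvd.mul_left hdvd _
  rcases (Nat.Prime.dvd_mul hp).mp h5 with h | h
  · have := (Nat.dvd_sub hpq h)
    rw [Nat.add_sub_cancel_left] at this
    exact hp.one_lt.ne' (Nat.dvd_one.mp this)
  · have := (Nat.dvd_sub h hpq)
    have e : m + 2 - (m + 1) = 1 := by omega
    rw [e] at this
    exact hp.one_lt.ne' (Nat.dvd_one.mp this)

/-- reduction of an automorphism to one stabilising both unitriangular subgroups -/
theorem exists_fix {p f : ℕ} [Fact p.Prime] (hF : Fintype.card F = p ^ f) (hf : 1 ≤ f)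
    (α : MulAut (PSL2' F)) :
    ∃ (g : SL2' F) (t : F) (β : MulAut (PSL2' F)),
      α = MulAut.conj (QuotientGroup.mk g) * MulAut.conj (QuotientGroup.mk (uu t)) * β ∧
      (∀ x : F, ∃ y : F, β (QuotientGroup.mk (uu x)) = QuotientGroup.mk (uu y)) ∧
      (∀ x : F, ∃ y : F, β (QuotientGroup.mk (ll x)) = QuotientGroup.mk (ll y)) := by
  classical
  have hPG : IsPGroup p (Usub F) := IsPGroup.of_card (n := f) (by rw [card_Usub, hF])
  have hidx := index_Usub (F := F) hF hf
  let PU : Sylow p (PSL2' F) := hPG.toSylow hidx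
  have hPU : (PU : Subgroup (PSL2' F)) = Usub F := IsPGroup.toSylow_coe hPG hidx
  obtain ⟨g₀, hg₀⟩ := MulAction.exists_smul_eq (PSL2' F) PU (α • PU)
  have hg₀' : MulAut.conj g₀ • Usub F = α • Usub F := by
    have := congrArg (fun P : Sylow p (PSL2' F) => (P : Subgroup (PSL2' F))) hg₀
    simp only [Sylow.coe_subgroup_smul, Sylow.pointwise_smul_def, hPU] at this
    exact this
  set α₁ : MulAut (PSL2' F) := (MulAut.conj g₀)⁻¹ * α with hα₁
  have hα₁U : α₁ • Usub F = Usub F := by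
    rw [hα₁, mul_smul, ← hg₀', inv_smul_smul]
  obtain ⟨g₁, hg₁⟩ := MulAction.exists_smul_eq (PSL2' F) PU
    ((α₁ * MulAut.conj (QuotientGroup.mk (nn (1 : F) one_ne_zero))) • PU)
  have hg₁' : MulAut.conj g₁ • Usub F = α₁ • Lsub F := by
    have := congrArg (fun P : Sylow p (PSL2' F) => (P : Subgroup (PSL2' F))) hg₁
    simp only [Sylow.coe_subgroup_smul, Sylow.pointwise_smul_def, hPU] at this
    rw [this, mul_smul, ← L_eq_conj]
  obtain ⟨M, rfl⟩ := QuotientGroup.mk_surjective g₁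
  obtain ⟨g, rfl⟩ := QuotientGroup.mk_surjective g₀
  by_cases hc : M 1 0 = 0
  · exfalso
    rw [conj_U_of_zero M hc] at hg₁'
    have h1 : α₁ • Usub F = α₁ • Lsub F := by rw [hα₁U, hg₁']
    have h2 : Usub F = Lsub F := by
      have := congrArg (fun S : Subgroup (PSL2' F) => α₁⁻¹ • S) h1
      simpa using this
    apply ll_one_not_mem (F := F)
    rw [h2]
    exact ⟨1, rfl⟩
  · rw [conj_U_of_ne M hc] at hg₁'
    set t := M 0 0 / M 1 0 with ht
    refine ⟨g, t, (MulAut.conj (QuotientGroup.mk (uu t)))⁻¹ * α₁, ?_, ?_, ?_⟩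
    · rw [hα₁]
      group
    · have hU : ((MulAut.conj (QuotientGroup.mk (uu t)))⁻¹ * α₁) • Usub F = Usub F := by
        rw [mul_smul, hα₁U, inv_smul_eq_iff]
        exact (conj_U_of_zero (uu t) (by
          show ((uu t : SL2' F) : Matrix (Fin 2) (Fin 2) F) 1 0 = 0
          rw [uu_coe]; simp)).symm
      intro x
      have h1 := Subgroup.smul_mem_pointwise_smul (QuotientGroup.mk (uu x))
        ((MulAut.conj (QuotientGroup.mk (uu t)))⁻¹ * α₁) (Usub F) ⟨x, rfl⟩
      rw [hU] at h1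
      exact h1
    · have hL : ((MulAut.conj (QuotientGroup.mk (uu t)))⁻¹ * α₁) • Lsub F = Lsub F := by
        rw [mul_smul, ← hg₁', inv_smul_smul]
      intro x
      have h1 := Subgroup.smul_mem_pointwise_smul (QuotientGroup.mk (ll x))
        ((MulAut.conj (QuotientGroup.mk (uu t)))⁻¹ * α₁) (Lsub F) ⟨x, rfl⟩
      rw [hL] at h1
      exact h1

/-- **every automorphism of `PSL₂(F)` is a `GL₂`-conjugation times a field automorphism** -/
theorem aut_decomp {p f : ℕ} [Fact p.Prime] (hF : Fintype.card F = p ^ f) (hf : 1 ≤ f)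
    (α : MulAut (PSL2' F)) :
    ∃ (A : GL (Fin 2) F) (τ : F ≃+* F), α = conjAut A * fieldAut τ := by
  obtain ⟨g, t, β, hα, hU, hL⟩ := exists_fix hF hf α
  obtain ⟨c, hc, τ, hβ⟩ := aut_of_fix β hU hL
  refine ⟨Matrix.SpecialLinearGroup.toGL g * Matrix.SpecialLinearGroup.toGL (uu t) * dg c hc, τ, ?_⟩
  rw [hα, hβ, inn_eq, inn_eq, map_mul, map_mul]
  group

end SylowPart

section Final

/-- `diag(c, 1)` as a homomorphism -/
def dgHom : Fˣ →* GL (Fin 2) F where
  toFun c := dg (c : F) c.ne_zero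
  map_one' := by
    apply Units.ext
    rw [dg_coe]
    ext i j
    fin_cases i <;> fin_cases j <;> simp
  map_mul' c c' := by
    apply Units.ext
    show (!![((c * c' : Fˣ) : F), 0; 0, 1] : Matrix (Fin 2) (Fin 2) F) =
      !![(c : F), 0; 0, 1] * !![(c' : F), 0; 0, 1]
    ext i j
    fin_cases i <;> fin_cases j <;> simp [Matrix.mul_apply, Fin.sum_univ_two]

theorem conjAut_eq_inn_iff (c : Fˣ) :
    (∃ g : PSL2' F, MulAut.conj g = conjAut (dgHom c)) ↔ ∃ a : Fˣ, a ^ 2 = c := by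
  constructor
  · rintro ⟨g, hg⟩
    obtain ⟨M, rfl⟩ := QuotientGroup.mk_surjective g
    rw [inn_eq] at hg
    have h1 : conjAut ((Matrix.SpecialLinearGroup.toGL M)⁻¹ * dgHom c) = 1 := by
      rw [map_mul, map_inv, hg, inv_mul_cancel]
    obtain ⟨a, ha⟩ := scalar_of_fix _ (by rw [h1]; rfl) (by rw [h1]; rfl)
    have h2 : ((dgHom c : GL (Fin 2) F) : Matrix (Fin 2) (Fin 2) F) =
        a • (M : Matrix (Fin 2) (Fin 2) F) := by
      have h3 : ((Matrix.SpecialLinearGroup.toGL M : GL (Fin 2) F) : Matrix (Fin 2) (Fin 2) F) *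
          (((Matrix.SpecialLinearGroup.toGL M)⁻¹ * dgHom c : GL (Fin 2) F) :
            Matrix (Fin 2) (Fin 2) F) =
          ((Matrix.SpecialLinearGroup.toGL M : GL (Fin 2) F) : Matrix (Fin 2) (Fin 2) F) *
          (a • (1 : Matrix (Fin 2) (Fin 2) F)) := by rw [ha]
      rw [← Units.val_mul, mul_inv_cancel_left, Matrix.mul_smul, mul_one] at h3
      exact h3
    have h4 := congrArg Matrix.det h2
    rw [Matrix.det_smul, M.2, mul_one] at h4
    have h5 : ((dgHom c : GL (Fin 2) F) : Matrix (Fin 2) (Fin 2) F).det = (c : F) := by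
      show ((dg (c : F) c.ne_zero : GL (Fin 2) F) : Matrix (Fin 2) (Fin 2) F).det = (c : F)
      rw [dg_coe, Matrix.det_fin_two]
      simp
    rw [h5] at h4
    simp only [Fintype.card_fin] at h4
    have ha0 : a ≠ 0 := by
      intro h0
      rw [h0] at h4
      simp at h4
    exact ⟨Units.mk0 a ha0, Units.ext (by simpa using h4.symm)⟩
  · rintro ⟨a, rfl⟩
    refine ⟨QuotientGroup.mk (hh (a : F) a.ne_zero), ?_⟩
    rw [inn_eq]
    have h1 : conjAut ((Matrix.SpecialLinearGroup.toGL (hh (a : F) a.ne_zero))⁻¹ * dgHom (a ^ 2)) = 1 := by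
      apply conjAut_scalar _ (a : F)
      have h2 : ((dgHom (a ^ 2) : GL (Fin 2) F) : Matrix (Fin 2) (Fin 2) F) =
          (a : F) • ((hh (a : F) a.ne_zero : SL2' F) : Matrix (Fin 2) (Fin 2) F) := by
        show ((dg ((a ^ 2 : Fˣ) : F) (a ^ 2).ne_zero : GL (Fin 2) F) : Matrix (Fin 2) (Fin 2) F) = _
        rw [dg_coe, hh_coe]
        ext i j
        fin_cases i <;> fin_cases j <;> simp [pow_two]
      rw [Units.val_mul, h2, Matrix.mul_smul]
      congr 1
      have h3 : ((Matrix.SpecialLinearGroup.toGL (hh (a : F) a.ne_zero))⁻¹ *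
          Matrix.SpecialLinearGroup.toGL (hh (a : F) a.ne_zero) : GL (Fin 2) F) = 1 :=
        inv_mul_cancel _
      exact congrArg (fun u : GL (Fin 2) F => (u : Matrix (Fin 2) (Fin 2) F)) h3
    rw [map_mul, map_inv, inv_mul_eq_one] at h1
    exact h1

variable [Fintype F]

theorem ringAut_equiv {p f : ℕ} [Fact p.Prime] (hF : Fintype.card F = p ^ f) (hf : 1 ≤ f) :
    Nonempty ((F ≃+* F) ≃* Multiplicative (ZMod f)) := by
  classical
  have hp := (Fact.out : p.Prime)
  obtain ⟨p', hp'⟩ := CharP.exists F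
  obtain ⟨n, hp'prime, hcard⟩ := FiniteField.card F p'
  have hpp : p = p' := by
    have h1 : p ∣ p' ^ (n : ℕ) := by
      rw [← hcard, hF]
      exact dvd_pow_self p (by omega)
    exact (Nat.prime_dvd_prime_iff_eq hp hp'prime).mp (hp.dvd_of_dvd_pow h1)
  subst hpp
  let _ : Algebra (ZMod p) F := ZMod.algebra F p
  have hfr : Module.finrank (ZMod p) F = f := by
    have h1 := Module.card_eq_pow_finrank (K := ZMod p) (V := F)
    rw [hF, ZMod.card] at h1
    exact (Nat.pow_right_injective hp.two_le h1).symm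
  have hcardG : Nat.card (F ≃ₐ[ZMod p] F) = f := by
    have h1 := Nat.card_eq_of_bijective _
      (FiniteField.bijective_frobeniusAlgEquivOfAlgebraic_pow (ZMod p) F)
    rw [← h1, Nat.card_eq_fintype_card, Fintype.card_fin, hfr]
  have hcomm : ∀ (σ : F ≃+* F) (x : ZMod p),
      σ (algebraMap (ZMod p) F x) = algebraMap (ZMod p) F x := by
    intro σ x
    exact DFunLike.congr_fun (Subsingleton.elim ((σ : F →+* F).comp (algebraMap (ZMod p) F))
      (algebraMap (ZMod p) F)) x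
  let e₁ : (F ≃+* F) ≃* (F ≃ₐ[ZMod p] F) :=
    { toFun := fun σ => AlgEquiv.ofRingEquiv (f := σ) (hcomm σ)
      invFun := fun τ => τ.toRingEquiv
      left_inv := fun σ => by ext x; rfl
      right_inv := fun τ => by ext x; rfl
      map_mul' := fun σ τ => by ext x; rfl }
  have e₂ := zmodCyclicMulEquiv (inferInstance : IsCyclic (F ≃ₐ[ZMod p] F))
  rw [hcardG] at e₂
  exact ⟨e₁.trans e₂.symm⟩

end Final

end Cfsg.Agent.Lib.helper13.PSL2Aut
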