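import Mathlib
import Cfsg.Agent.Lib.helper13.SLSimple

set_option autoImplicit false

/-!
General `PSL_n` infrastructure: automorphisms induced by `GL_n`, by field automorphisms and by
inverse-transpose; transvections `1 + t • v φᵀ` and their images in `PSL_n`.
-/

namespace Cfsg.Agent.Lib.helper13.PN

open Matrix

variable {F : Type*} [Field F] {n : ℕ}

abbrev SLn (n : ℕ) (F : Type*) [Field F] := Matrix.SpecialLinearGroup (Fin n) F
abbrev PSLn (n : ℕ) (F : Type*) [Field F] := Matrix.ProjectiveSpecialLinearGroup (Fin n) F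

theorem mk_eq_iff (M M' : SLn n F) : (QuotientGroup.mk M : PSLn n F) = QuotientGroup.mk M' ↔
    ∃ r : F, r ^ n = 1 ∧ (M' : Matrix (Fin n) (Fin n) F) = r • (M : Matrix (Fin n) (Fin n) F) := by
  rw [QuotientGroup.eq, Matrix.SpecialLinearGroup.mem_center_iff]
  have key : ∀ r : F, (Matrix.scalar (Fin n) r = ((M⁻¹ * M' : SLn n F) : Matrix (Fin n) (Fin n) F)) ↔
      (M' : Matrix (Fin n) (Fin n) F) = r • (M : Matrix (Fin n) (Fin n) F) := by
    intro r
    have hs : Matrix.scalar (Fin n) r = r • (1 : Matrix (Fin n) (Fin n) F) := by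
      ext i j
      simp [Matrix.scalar_apply, Matrix.diagonal_apply, Matrix.one_apply]
    rw [hs]
    constructor
    · intro h
      have h1 : (M : Matrix (Fin n) (Fin n) F) * (r • (1 : Matrix (Fin n) (Fin n) F)) =
          (M : Matrix (Fin n) (Fin n) F) * ((M⁻¹ * M' : SLn n F) : Matrix (Fin n) (Fin n) F) := by
        rw [h]
      rw [← Matrix.SpecialLinearGroup.coe_mul, mul_inv_cancel_left, Matrix.mul_smul, mul_one] at h1
      exact h1.symm
    · intro h
      rw [Matrix.SpecialLinearGroup.coe_mul, h, Matrix.mul_smul, ← Matrix.SpecialLinearGroup.coe_mul,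
        inv_mul_cancel, Matrix.SpecialLinearGroup.coe_one]
  constructor
  · rintro ⟨r, hr, h⟩
    exact ⟨r, by simpa using hr, (key r).mp h⟩
  · rintro ⟨r, hr, h⟩
    exact ⟨r, by simpa using hr, (key r).mpr h⟩

theorem map_center_eq {H : Type*} [Group H] (e : H ≃* H) :
    (Subgroup.center H).map (e : H →* H) = Subgroup.center H := by
  ext x
  constructor
  · rintro ⟨y, hy, rfl⟩
    have hy' : y ∈ Subgroup.center H := hy
    rw [Subgroup.mem_center_iff] at hy'
    show e y ∈ Subgroup.center H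
    rw [Subgroup.mem_center_iff]
    intro g
    obtain ⟨g', rfl⟩ := e.surjective g
    rw [← map_mul, ← map_mul, hy' g']
  · intro hx
    rw [Subgroup.mem_center_iff] at hx
    refine ⟨e.symm x, ?_, by simp⟩
    show e.symm x ∈ Subgroup.center H
    rw [Subgroup.mem_center_iff]
    intro g
    apply e.injective
    rw [map_mul, map_mul, e.apply_symm_apply]
    exact hx (e g)

/-- an automorphism of `SL_n` induces an automorphism of `PSL_n` -/
def liftAut (e : SLn n F ≃* SLn n F) : MulAut (PSLn n F) :=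
  QuotientGroup.congr _ _ e (map_center_eq e)

theorem liftAut_mk (e : SLn n F ≃* SLn n F) (M : SLn n F) :
    liftAut e (QuotientGroup.mk M) = QuotientGroup.mk (e M) := rfl

/-- conjugation by an element of `GL_n` on `SL_n` -/
def conjSL (A : GL (Fin n) F) : SLn n F ≃* SLn n F where
  toFun M := ⟨(A : Matrix (Fin n) (Fin n) F) * M * ((A⁻¹ : GL (Fin n) F) : Matrix (Fin n) (Fin n) F), by
    rw [Matrix.det_mul, Matrix.det_mul, M.2, mul_one, ← Matrix.det_mul, Units.mul_inv, Matrix.det_one]⟩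
  invFun M := ⟨((A⁻¹ : GL (Fin n) F) : Matrix (Fin n) (Fin n) F) * M * (A : Matrix (Fin n) (Fin n) F), by
    rw [Matrix.det_mul, Matrix.det_mul, M.2, mul_one, ← Matrix.det_mul, Units.inv_mul, Matrix.det_one]⟩
  left_inv M := by
    apply Subtype.ext
    show ((A⁻¹ : GL (Fin n) F) : Matrix (Fin n) (Fin n) F) * ((A : Matrix (Fin n) (Fin n) F) * M *
      ((A⁻¹ : GL (Fin n) F) : Matrix (Fin n) (Fin n) F)) * (A : Matrix (Fin n) (Fin n) F) = M
    rw [← mul_assoc, ← mul_assoc, Units.inv_mul, one_mul, mul_assoc, Units.inv_mul, mul_one]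
  right_inv M := by
    apply Subtype.ext
    show (A : Matrix (Fin n) (Fin n) F) * (((A⁻¹ : GL (Fin n) F) : Matrix (Fin n) (Fin n) F) * M *
      (A : Matrix (Fin n) (Fin n) F)) * ((A⁻¹ : GL (Fin n) F) : Matrix (Fin n) (Fin n) F) = M
    rw [← mul_assoc, ← mul_assoc, Units.mul_inv, one_mul, mul_assoc, Units.mul_inv, mul_one]
  map_mul' M N := by
    apply Subtype.ext
    show (A : Matrix (Fin n) (Fin n) F) * ((M : Matrix (Fin n) (Fin n) F) * N) *
      ((A⁻¹ : GL (Fin n) F) : Matrix (Fin n) (Fin n) F) =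
      (A : Matrix (Fin n) (Fin n) F) * M * ((A⁻¹ : GL (Fin n) F) : Matrix (Fin n) (Fin n) F) *
      ((A : Matrix (Fin n) (Fin n) F) * N * ((A⁻¹ : GL (Fin n) F) : Matrix (Fin n) (Fin n) F))
    have h : ((A⁻¹ : GL (Fin n) F) : Matrix (Fin n) (Fin n) F) * (A : Matrix (Fin n) (Fin n) F) = 1 :=
      Units.inv_mul A
    calc (A : Matrix (Fin n) (Fin n) F) * ((M : Matrix (Fin n) (Fin n) F) * N) *
          ((A⁻¹ : GL (Fin n) F) : Matrix (Fin n) (Fin n) F)
        = (A : Matrix (Fin n) (Fin n) F) * M * 1 * N *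
          ((A⁻¹ : GL (Fin n) F) : Matrix (Fin n) (Fin n) F) := by simp only [mul_assoc, one_mul]
      _ = _ := by rw [← h]; simp only [mul_assoc]

theorem conjSL_coe (A : GL (Fin n) F) (M : SLn n F) :
    ((conjSL A M : SLn n F) : Matrix (Fin n) (Fin n) F) =
      (A : Matrix (Fin n) (Fin n) F) * M * ((A⁻¹ : GL (Fin n) F) : Matrix (Fin n) (Fin n) F) := rfl

/-- conjugation by `GL_n` on `PSL_n` -/
def conjAut : GL (Fin n) F →* MulAut (PSLn n F) where
  toFun A := liftAut (conjSL A)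
  map_one' := by
    apply MulEquiv.ext
    intro x
    induction x using QuotientGroup.induction_on with
    | H M =>
      rw [liftAut_mk]
      congr 1
      apply Subtype.ext
      rw [conjSL_coe]
      simp
  map_mul' A B := by
    apply MulEquiv.ext
    intro x
    induction x using QuotientGroup.induction_on with
    | H M =>
      rw [MulAut.mul_apply, liftAut_mk, liftAut_mk, liftAut_mk]
      congr 1
      apply Subtype.ext
      rw [conjSL_coe, conjSL_coe, conjSL_coe, _root_.mul_inv_rev, Units.val_mul, Units.val_mul]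
      simp only [mul_assoc]

theorem conjAut_mk (A : GL (Fin n) F) (M : SLn n F) :
    conjAut A (QuotientGroup.mk M) = QuotientGroup.mk (conjSL A M) := rfl

/-- a field automorphism acting on `SL_n` -/
def fieldSL (σ : F ≃+* F) : SLn n F ≃* SLn n F where
  toFun := Matrix.SpecialLinearGroup.map (σ : F →+* F)
  invFun := Matrix.SpecialLinearGroup.map (σ.symm : F →+* F)
  left_inv M := by
    apply Subtype.ext
    ext i j
    show σ.symm (σ (M i j)) = M i j
    simp
  right_inv M := by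
    apply Subtype.ext
    ext i j
    show σ (σ.symm (M i j)) = M i j
    simp
  map_mul' M N := map_mul _ M N

theorem fieldSL_apply (σ : F ≃+* F) (M : SLn n F) (i j : Fin n) :
    (fieldSL σ M) i j = σ (M i j) := rfl

theorem fieldSL_coe (σ : F ≃+* F) (M : SLn n F) :
    ((fieldSL σ M : SLn n F) : Matrix (Fin n) (Fin n) F) =
      (M : Matrix (Fin n) (Fin n) F).map σ := rfl

/-- a field automorphism acting on `PSL_n` -/
def fieldAut : (F ≃+* F) →* MulAut (PSLn n F) where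
  toFun σ := liftAut (fieldSL σ)
  map_one' := by
    apply MulEquiv.ext
    intro x
    induction x using QuotientGroup.induction_on with
    | H M =>
      rw [liftAut_mk]
      congr 1
  map_mul' σ τ := by
    apply MulEquiv.ext
    intro x
    induction x using QuotientGroup.induction_on with
    | H M =>
      rw [MulAut.mul_apply, liftAut_mk, liftAut_mk, liftAut_mk]
      congr 1

theorem fieldAut_mk (σ : F ≃+* F) (M : SLn n F) :
    fieldAut σ (QuotientGroup.mk M) = QuotientGroup.mk (fieldSL σ M) := rfl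

theorem conjSL_toGL (M N : SLn n F) :
    conjSL (Matrix.SpecialLinearGroup.toGL M) N = M * N * M⁻¹ := by
  apply Subtype.ext
  rw [conjSL_coe, ← map_inv]
  rfl

theorem inn_eq (M : SLn n F) :
    MulAut.conj (QuotientGroup.mk M : PSLn n F) = conjAut (Matrix.SpecialLinearGroup.toGL M) := by
  apply MulEquiv.ext
  intro x
  induction x using QuotientGroup.induction_on with
  | H N =>
    rw [conjAut_mk, conjSL_toGL, MulAut.conj_apply]
    rfl

theorem trSL_mul (A B : SLn n F) :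
    (A * B).transpose = B.transpose * A.transpose := by
  apply Subtype.ext
  show ((A * B : SLn n F) : Matrix (Fin n) (Fin n) F).transpose = _
  rw [Matrix.SpecialLinearGroup.coe_mul, Matrix.transpose_mul]
  rfl

theorem trSL_one : (1 : SLn n F).transpose = 1 := by
  apply Subtype.ext
  show ((1 : SLn n F) : Matrix (Fin n) (Fin n) F).transpose = _
  simp

theorem trSL_inv (A : SLn n F) : (A.transpose)⁻¹ = (A⁻¹).transpose := by
  apply inv_eq_of_mul_eq_one_right
  rw [← trSL_mul, inv_mul_cancel, trSL_one]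

theorem trSL_tr (A : SLn n F) : A.transpose.transpose = A := by
  apply Subtype.ext
  show ((A : Matrix (Fin n) (Fin n) F).transpose).transpose = _
  rw [Matrix.transpose_transpose]

/-- inverse-transpose on `SL_n` -/
def itSL : SLn n F ≃* SLn n F where
  toFun M := (M⁻¹).transpose
  invFun M := (M⁻¹).transpose
  left_inv M := by
    show (((M⁻¹).transpose)⁻¹).transpose = M
    rw [trSL_inv, inv_inv, trSL_tr]
  right_inv M := by
    show (((M⁻¹).transpose)⁻¹).transpose = M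
    rw [trSL_inv, inv_inv, trSL_tr]
  map_mul' M N := by
    show ((M * N)⁻¹).transpose = (M⁻¹).transpose * (N⁻¹).transpose
    rw [_root_.mul_inv_rev, trSL_mul]

theorem itSL_apply (M : SLn n F) : itSL M = (M⁻¹).transpose := rfl

/-- the inverse-transpose automorphism of `PSL_n` -/
def itAut : MulAut (PSLn n F) := liftAut itSL

theorem itAut_mk (M : SLn n F) :
    itAut (QuotientGroup.mk M : PSLn n F) = QuotientGroup.mk (itSL M) := rfl

theorem itAut_sq : (itAut : MulAut (PSLn n F)) * itAut = 1 := by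
  apply MulEquiv.ext
  intro x
  induction x using QuotientGroup.induction_on with
  | H M =>
    rw [MulAut.mul_apply, itAut_mk, itAut_mk]
    show _ = QuotientGroup.mk M
    congr 1
    show (((M⁻¹).transpose)⁻¹).transpose = M
    rw [trSL_inv, inv_inv, trSL_tr]


/-! ### transvections -/

/-- the transvection `1 + t • v φᵀ` -/
def tv (v φ : Fin n → F) (h : φ ⬝ᵥ v = 0) (t : F) : SLn n F :=
  ⟨1 + t • vecMulVec v φ, by
    rw [← smul_vecMulVec, vecMulVec_eq (Fin 1), det_one_add_replicateCol_mul_replicateRow,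
      dotProduct_smul, h, smul_zero, add_zero]⟩

theorem tv_coe (v φ : Fin n → F) (h : φ ⬝ᵥ v = 0) (t : F) :
    ((tv v φ h t : SLn n F) : Matrix (Fin n) (Fin n) F) = 1 + t • vecMulVec v φ := rfl

theorem vv_mul (v φ w ψ : Fin n → F) :
    vecMulVec v φ * vecMulVec w ψ = (φ ⬝ᵥ w) • vecMulVec v ψ := by
  rw [vecMulVec_mul_vecMulVec, vecMulVec_smul]

theorem tv_mul_coe (v φ w ψ : Fin n → F) (h : φ ⬝ᵥ v = 0) (h' : ψ ⬝ᵥ w = 0) (s t : F) :
    ((tv v φ h s * tv w ψ h' t : SLn n F) : Matrix (Fin n) (Fin n) F) =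
      1 + s • vecMulVec v φ + t • vecMulVec w ψ + (s * t * (φ ⬝ᵥ w)) • vecMulVec v ψ := by
  rw [Matrix.SpecialLinearGroup.coe_mul, tv_coe, tv_coe]
  simp only [mul_add, add_mul, mul_one, one_mul, smul_mul_assoc, mul_smul_comm, vv_mul, smul_smul]
  module

theorem tv_zero (v φ : Fin n → F) (h : φ ⬝ᵥ v = 0) : tv v φ h 0 = 1 := by
  apply Subtype.ext
  rw [tv_coe]
  simp

theorem tv_add (v φ : Fin n → F) (h : φ ⬝ᵥ v = 0) (s t : F) :
    tv v φ h (s + t) = tv v φ h s * tv v φ h t := by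
  apply Subtype.ext
  rw [tv_mul_coe, h, tv_coe]
  module

theorem tv_inv (v φ : Fin n → F) (h : φ ⬝ᵥ v = 0) (t : F) :
    (tv v φ h t)⁻¹ = tv v φ h (-t) := by
  apply inv_eq_of_mul_eq_one_right
  rw [← tv_add, add_neg_cancel, tv_zero]

theorem tv_smul (v φ : Fin n → F) (h : φ ⬝ᵥ v = 0) (c d t : F)
    (h' : (d • φ) ⬝ᵥ (c • v) = 0) :
    tv (c • v) (d • φ) h' t = tv v φ h (c * d * t) := by
  apply Subtype.ext
  rw [tv_coe, tv_coe, smul_vecMulVec, vecMulVec_smul, smul_smul, smul_smul]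
  congr 2
  ring

theorem dot_conj (g : GL (Fin n) F) (v φ : Fin n → F) :
    (φ ᵥ* ((g⁻¹ : GL (Fin n) F) : Matrix (Fin n) (Fin n) F)) ⬝ᵥ
      ((g : Matrix (Fin n) (Fin n) F) *ᵥ v) = φ ⬝ᵥ v := by
  rw [← dotProduct_mulVec, mulVec_mulVec, Units.inv_mul, one_mulVec]

theorem conjSL_tv (g : GL (Fin n) F) (v φ : Fin n → F) (h : φ ⬝ᵥ v = 0) (t : F) :
    conjSL g (tv v φ h t) = tv ((g : Matrix (Fin n) (Fin n) F) *ᵥ v)
      (φ ᵥ* ((g⁻¹ : GL (Fin n) F) : Matrix (Fin n) (Fin n) F))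
      (by rw [dot_conj, h]) t := by
  apply Subtype.ext
  rw [conjSL_coe, tv_coe, tv_coe, mul_add, add_mul, mul_one, Units.mul_inv, Matrix.mul_smul,
    Matrix.smul_mul, mul_vecMulVec, vecMulVec_mul]

theorem fieldSL_tv (σ : F ≃+* F) (v φ : Fin n → F) (h : φ ⬝ᵥ v = 0) (t : F)
    (h' : (fun a => σ (φ a)) ⬝ᵥ (fun a => σ (v a)) = 0) :
    fieldSL σ (tv v φ h t) = tv (fun a => σ (v a)) (fun a => σ (φ a)) h' (σ t) := by
  apply Subtype.ext
  ext a b
  rw [fieldSL_coe, tv_coe, tv_coe]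
  by_cases hab : a = b
  · simp [Matrix.one_apply, vecMulVec_apply, hab]
  · simp [Matrix.one_apply, vecMulVec_apply, hab]

theorem field_dot (σ : F ≃+* F) (v φ : Fin n → F) (h : φ ⬝ᵥ v = 0) :
    (fun a => σ (φ a)) ⬝ᵥ (fun a => σ (v a)) = 0 := by
  have h1 := congrArg σ h
  rw [map_zero] at h1
  rw [← h1]
  simp [dotProduct, map_sum]

theorem itSL_tv (v φ : Fin n → F) (h : φ ⬝ᵥ v = 0) (t : F) (h' : v ⬝ᵥ φ = 0) :
    itSL (tv v φ h t) = tv φ v h' (-t) := by
  rw [itSL_apply, tv_inv]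
  apply Subtype.ext
  show ((tv v φ h (-t) : SLn n F) : Matrix (Fin n) (Fin n) F).transpose = _
  rw [tv_coe, tv_coe, transpose_add, transpose_one, transpose_smul, transpose_vecMulVec]

open Classical in
/-- image in `PSL_n` of a transvection (junk value `1` when `φ ⬝ᵥ v ≠ 0`) -/
noncomputable def tvb (v φ : Fin n → F) (t : F) : PSLn n F :=
  if h : φ ⬝ᵥ v = 0 then QuotientGroup.mk (tv v φ h t) else 1

theorem tvb_of (v φ : Fin n → F) (h : φ ⬝ᵥ v = 0) (t : F) :
    tvb v φ t = QuotientGroup.mk (tv v φ h t) := dif_pos h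

theorem tvb_zero (v φ : Fin n → F) : tvb v φ 0 = 1 := by
  by_cases h : φ ⬝ᵥ v = 0
  · rw [tvb_of v φ h, tv_zero]; rfl
  · exact dif_neg h

theorem tvb_add (v φ : Fin n → F) (s t : F) : tvb v φ (s + t) = tvb v φ s * tvb v φ t := by
  by_cases h : φ ⬝ᵥ v = 0
  · rw [tvb_of v φ h, tvb_of v φ h, tvb_of v φ h, tv_add]; rfl
  · simp [tvb, h]

theorem tvb_smul (v φ : Fin n → F) (h : φ ⬝ᵥ v = 0) (c d t : F) :
    tvb (c • v) (d • φ) t = tvb v φ (c * d * t) := by
  have h' : (d • φ) ⬝ᵥ (c • v) = 0 := by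
    rw [smul_dotProduct, dotProduct_smul, h, smul_zero, smul_zero]
  rw [tvb_of _ _ h', tvb_of _ _ h, tv_smul v φ h]

theorem conjAut_tvb (g : GL (Fin n) F) (v φ : Fin n → F) (h : φ ⬝ᵥ v = 0) (t : F) :
    conjAut g (tvb v φ t) = tvb ((g : Matrix (Fin n) (Fin n) F) *ᵥ v)
      (φ ᵥ* ((g⁻¹ : GL (Fin n) F) : Matrix (Fin n) (Fin n) F)) t := by
  rw [tvb_of v φ h, tvb_of _ _ (by rw [dot_conj, h]), conjAut_mk, conjSL_tv]

theorem fieldAut_tvb (σ : F ≃+* F) (v φ : Fin n → F) (h : φ ⬝ᵥ v = 0) (t : F) :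
    fieldAut σ (tvb v φ t) = tvb (fun a => σ (v a)) (fun a => σ (φ a)) (σ t) := by
  rw [tvb_of v φ h, tvb_of _ _ (field_dot σ v φ h), fieldAut_mk, fieldSL_tv]

theorem itAut_tvb (v φ : Fin n → F) (h : φ ⬝ᵥ v = 0) (t : F) :
    itAut (tvb v φ t) = tvb φ v (-t) := by
  have h' : v ⬝ᵥ φ = 0 := by rw [dotProduct_comm]; exact h
  rw [tvb_of v φ h, tvb_of _ _ h', itAut_mk, itSL_tv v φ h t h']

theorem scalar_one_of_fix (M M' : Matrix (Fin n) (Fin n) F) (r : F) (x : Fin n → F) (hx : x ≠ 0)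
    (h1 : M *ᵥ x = x) (h2 : M' *ᵥ x = x) (h : M' = r • M) : r = 1 := by
  rw [h, smul_mulVec, h1] at h2
  obtain ⟨a, ha⟩ : ∃ a, x a ≠ 0 := by
    by_contra hc
    push Not at hc
    exact hx (funext hc)
  have h3 := congrFun h2 a
  simp only [Pi.smul_apply, smul_eq_mul] at h3
  have h4 : (r - 1) * x a = 0 := by linear_combination h3
  rcases mul_eq_zero.1 h4 with h5 | h5
  · linear_combination h5
  · exact absurd h5 ha

theorem tv_mulVec (v φ : Fin n → F) (h : φ ⬝ᵥ v = 0) (t : F) (x : Fin n → F) :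
    ((tv v φ h t : SLn n F) : Matrix (Fin n) (Fin n) F) *ᵥ x = x + (t * (φ ⬝ᵥ x)) • v := by
  rw [tv_coe, add_mulVec, one_mulVec, smul_mulVec, vecMulVec_mulVec]
  ext a
  simp only [Pi.add_apply, Pi.smul_apply, MulOpposite.smul_eq_mul_unop, MulOpposite.unop_op,
    smul_eq_mul]
  ring

theorem scalar_one_of_tv (u χ : Fin n → F) (hu : χ ⬝ᵥ u = 0) (t : F)
    (M' : Matrix (Fin n) (Fin n) F) (r : F) (x : Fin n → F) (hx : x ≠ 0) (h2 : M' *ᵥ x = x)
    (h : M' = r • ((tv u χ hu t : SLn n F) : Matrix (Fin n) (Fin n) F)) : r = 1 := by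
  rw [h, smul_mulVec, tv_mulVec] at h2
  have h3 := congrArg (fun y => χ ⬝ᵥ y) h2
  simp only [dotProduct_smul, dotProduct_add, hu, smul_eq_mul, mul_zero, add_zero] at h3
  by_contra hr
  have h4 : χ ⬝ᵥ x = 0 := by
    have : (r - 1) * (χ ⬝ᵥ x) = 0 := by linear_combination h3
    rcases mul_eq_zero.1 this with h5 | h5
    · exact absurd (by linear_combination h5) hr
    · exact h5
  rw [h4, mul_zero, zero_smul, add_zero] at h2
  obtain ⟨a, ha⟩ : ∃ a, x a ≠ 0 := by
    by_contra hc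
    push Not at hc
    exact hx (funext hc)
  have h6 := congrFun h2 a
  simp only [Pi.smul_apply, smul_eq_mul] at h6
  have h7 : (r - 1) * x a = 0 := by linear_combination h6
  rcases mul_eq_zero.1 h7 with h5 | h5
  · exact hr (by linear_combination h5)
  · exact ha h5

theorem tvb_inj (v φ : Fin n → F) (h : φ ⬝ᵥ v = 0) (hv : v ≠ 0) (hφ : φ ≠ 0) (s t : F)
    (hst : tvb v φ s = tvb v φ t) : s = t := by
  rw [tvb_of v φ h, tvb_of v φ h, mk_eq_iff] at hst
  obtain ⟨r, -, hr⟩ := hst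
  have h1 : r = 1 := scalar_one_of_fix _ _ r v hv (by rw [tv_mulVec, h]; simp)
    (by rw [tv_mulVec, h]; simp) hr
  rw [h1, one_smul, tv_coe, tv_coe] at hr
  have h2 : (t - s) • vecMulVec v φ = 0 := by
    rw [sub_smul]
    have := add_left_cancel hr
    rw [this, sub_self]
  rcases smul_eq_zero.1 h2 with h3 | h3
  · linear_combination -h3
  · rcases vecMulVec_eq_zero.1 h3 with h4 | h4
    · exact absurd h4 hv
    · exact absurd h4 hφ

theorem tvb_eq_one (v φ : Fin n → F) (h : φ ⬝ᵥ v = 0) (hv : v ≠ 0) (hφ : φ ≠ 0) (t : F)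
    (ht : tvb v φ t = 1) : t = 0 :=
  tvb_inj v φ h hv hφ t 0 (by rw [ht, tvb_zero])

/-! ### parallel vectors -/

/-- two vectors are proportional (all `2 × 2` minors vanish) -/
def Par (v w : Fin n → F) : Prop := ∀ a c, v a * w c = v c * w a

theorem Par.refl (v : Fin n → F) : Par v v := fun a c => mul_comm _ _

theorem Par.symm {v w : Fin n → F} (h : Par v w) : Par w v := fun a c => by
  have := h c a
  linear_combination this

theorem exists_ne_of_ne_zero {v : Fin n → F} (hv : v ≠ 0) : ∃ a, v a ≠ 0 := by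
  by_contra hc
  push Not at hc
  exact hv (funext hc)

theorem Par.exists_smul {v w : Fin n → F} (h : Par v w) (hv : v ≠ 0) (hw : w ≠ 0) :
    ∃ c : F, c ≠ 0 ∧ w = c • v := by
  obtain ⟨b, hb⟩ := exists_ne_of_ne_zero hv
  have hw' : w = (w b / v b) • v := by
    funext a
    simp only [Pi.smul_apply, smul_eq_mul]
    have := h b a
    field_simp
    linear_combination this
  refine ⟨w b / v b, ?_, hw'⟩
  intro hc
  rw [hc, zero_smul] at hw'
  exact hw hw'

theorem Par.trans {u v w : Fin n → F} (h1 : Par u v) (h2 : Par v w) (hv : v ≠ 0) : Par u w := by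
  obtain ⟨b, hb⟩ := exists_ne_of_ne_zero hv
  intro a c
  have e1 := h1 a b
  have e2 := h1 c b
  have e3 := h2 b c
  have e4 := h2 b a
  have : v b * v b * (u a * w c - u c * w a) = 0 := by
    linear_combination (v b * w c) * e1 - (v b * w a) * e2 + (u b * v a) * e3 - (u b * v c) * e4
  rcases mul_eq_zero.1 this with h5 | h5
  · exact absurd (mul_self_eq_zero.1 h5) hb
  · linear_combination h5

theorem Par.dot {v w : Fin n → F} (h : Par v w) (hv : v ≠ 0) (φ : Fin n → F)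
    (hφ : φ ⬝ᵥ v = 0) : φ ⬝ᵥ w = 0 := by
  by_cases hw : w = 0
  · rw [hw, dotProduct_zero]
  · obtain ⟨c, -, hc⟩ := h.exists_smul hv hw
    rw [hc, dotProduct_smul, hφ, smul_zero]

theorem Par.dot' {φ ψ : Fin n → F} (h : Par φ ψ) (hφ : φ ≠ 0) (v : Fin n → F)
    (hv : φ ⬝ᵥ v = 0) : ψ ⬝ᵥ v = 0 := by
  rw [dotProduct_comm] at hv ⊢
  exact h.dot hφ v hv

theorem tvb_par {v w φ ψ : Fin n → F} (h : φ ⬝ᵥ v = 0) (hv : v ≠ 0) (hw : w ≠ 0) (hφ : φ ≠ 0)
    (hψ : ψ ≠ 0) (h1 : Par v w) (h2 : Par φ ψ) (t : F) : ∃ t', tvb v φ t = tvb w ψ t' := by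
  obtain ⟨c, hc0, hc⟩ := h1.exists_smul hv hw
  obtain ⟨d, hd0, hd⟩ := h2.exists_smul hφ hψ
  refine ⟨t / (c * d), ?_⟩
  rw [hc, hd, tvb_smul v φ h]
  congr 1
  field_simp

/-! ### relations between root elements -/

theorem tvb_comm (v φ w ψ : Fin n → F) (hφw : φ ⬝ᵥ w = 0) (hψv : ψ ⬝ᵥ v = 0) (s t : F) :
    tvb v φ s * tvb w ψ t = tvb w ψ t * tvb v φ s := by
  by_cases h : φ ⬝ᵥ v = 0
  · by_cases h' : ψ ⬝ᵥ w = 0
    · rw [tvb_of v φ h, tvb_of w ψ h', ← QuotientGroup.mk_mul, ← QuotientGroup.mk_mul]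
      congr 1
      apply Subtype.ext
      rw [tv_mul_coe, tv_mul_coe, hφw, hψv]
      module
    · simp [tvb, h']
  · simp [tvb, h]

theorem exists_ker2 (hn : 3 ≤ n) (φ ψ : Fin n → F) :
    ∃ x : Fin n → F, x ≠ 0 ∧ φ ⬝ᵥ x = 0 ∧ ψ ⬝ᵥ x = 0 := by
  let L : (Fin n → F) →ₗ[F] (F × F) :=
    { toFun := fun x => (φ ⬝ᵥ x, ψ ⬝ᵥ x)
      map_add' := by intro x y; simp [dotProduct_add]
      map_smul' := by intro c x; simp [dotProduct_smul] }
  have h1 : Module.finrank F (F × F) < Module.finrank F (Fin n → F) := by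
    rw [Module.finrank_prod, Module.finrank_self, Module.finrank_fin_fun]
    omega
  have h2 := LinearMap.ker_ne_bot_of_finrank_lt (f := L) h1
  obtain ⟨x, hx, hx0⟩ := (Submodule.ne_bot_iff _).1 h2
  rw [LinearMap.mem_ker] at hx
  have hx' : (φ ⬝ᵥ x, ψ ⬝ᵥ x) = 0 := hx
  rw [Prod.mk_eq_zero] at hx'
  exact ⟨x, hx0, hx'.1, hx'.2⟩

theorem comm_dot (hn : 3 ≤ n) (v φ w ψ : Fin n → F) (h : φ ⬝ᵥ v = 0) (h' : ψ ⬝ᵥ w = 0)
    (hv : v ≠ 0) (hw : w ≠ 0) (hφ : φ ≠ 0) (hψ : ψ ≠ 0) (s t : F) (hs : s ≠ 0) (ht : t ≠ 0)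
    (hc : tvb v φ s * tvb w ψ t = tvb w ψ t * tvb v φ s) : φ ⬝ᵥ w = 0 ∧ ψ ⬝ᵥ v = 0 := by
  rw [tvb_of v φ h, tvb_of w ψ h', ← QuotientGroup.mk_mul, ← QuotientGroup.mk_mul, mk_eq_iff] at hc
  obtain ⟨r, -, hr⟩ := hc
  obtain ⟨x, hx0, hx1, hx2⟩ := exists_ker2 hn φ ψ
  have f1 : ((tv v φ h s * tv w ψ h' t : SLn n F) : Matrix (Fin n) (Fin n) F) *ᵥ x = x := by
    rw [Matrix.SpecialLinearGroup.coe_mul, ← mulVec_mulVec, tv_mulVec w ψ h' t x, hx2, mul_zero,
      zero_smul, add_zero, tv_mulVec, hx1, mul_zero, zero_smul, add_zero]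
  have f2 : ((tv w ψ h' t * tv v φ h s : SLn n F) : Matrix (Fin n) (Fin n) F) *ᵥ x = x := by
    rw [Matrix.SpecialLinearGroup.coe_mul, ← mulVec_mulVec, tv_mulVec v φ h s x, hx1, mul_zero,
      zero_smul, add_zero, tv_mulVec, hx2, mul_zero, zero_smul, add_zero]
  have hr1 : r = 1 := scalar_one_of_fix _ _ r x hx0 f1 f2 hr
  rw [hr1, one_smul, tv_mul_coe, tv_mul_coe] at hr
  have key : (t * s * (ψ ⬝ᵥ v)) • vecMulVec w φ = (s * t * (φ ⬝ᵥ w)) • vecMulVec v ψ := by
    have e : (1 : Matrix (Fin n) (Fin n) F) + t • vecMulVec w ψ + s • vecMulVec v φ =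
        1 + s • vecMulVec v φ + t • vecMulVec w ψ := by abel
    rw [e] at hr
    exact add_left_cancel hr
  have k1 := congrArg (fun M : Matrix (Fin n) (Fin n) F => M *ᵥ w) key
  simp only [smul_mulVec, vecMulVec_mulVec, h', MulOpposite.op_zero, zero_smul, smul_zero] at k1
  have k2 : (t * s * (ψ ⬝ᵥ v) * (φ ⬝ᵥ w)) • w = 0 := by
    rw [← k1]
    ext a
    simp only [Pi.smul_apply, MulOpposite.smul_eq_mul_unop, MulOpposite.unop_op, smul_eq_mul]
    ring
  have k3 : (ψ ⬝ᵥ v) * (φ ⬝ᵥ w) = 0 := by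
    rcases smul_eq_zero.1 k2 with h5 | h5
    · have : t * s ≠ 0 := mul_ne_zero ht hs
      have h6 : t * s * ((ψ ⬝ᵥ v) * (φ ⬝ᵥ w)) = 0 := by linear_combination h5
      exact (mul_eq_zero.1 h6).resolve_left this
    · exact absurd h5 hw
  have hφw : φ ⬝ᵥ w = 0 := by
    by_contra hne
    have hψv : ψ ⬝ᵥ v = 0 := (mul_eq_zero.1 k3).resolve_right hne
    rw [hψv, mul_zero, zero_smul] at key
    have h7 := key.symm
    rcases smul_eq_zero.1 h7 with h5 | h5
    · exact (mul_ne_zero (mul_ne_zero hs ht) hne) h5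
    · rcases vecMulVec_eq_zero.1 h5 with h8 | h8
      · exact hv h8
      · exact hψ h8
  refine ⟨hφw, ?_⟩
  rw [hφw, mul_zero, zero_smul] at key
  rcases smul_eq_zero.1 key with h5 | h5
  · exact (mul_eq_zero.1 h5).resolve_left (mul_ne_zero ht hs)
  · rcases vecMulVec_eq_zero.1 h5 with h8 | h8
    · exact absurd h8 hw
    · exact absurd h8 hφ

theorem same_of_third (hn : 3 ≤ n) (v φ w ψ u χ : Fin n → F) (h : φ ⬝ᵥ v = 0) (h' : ψ ⬝ᵥ w = 0)
    (hu : χ ⬝ᵥ u = 0) (hφw : φ ⬝ᵥ w = 0) (s t r : F) (hs : s ≠ 0) (ht : t ≠ 0)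
    (hc : tvb v φ s * tvb w ψ t = tvb u χ r) : Par v w ∨ Par φ ψ := by
  rw [tvb_of v φ h, tvb_of w ψ h', tvb_of u χ hu, ← QuotientGroup.mk_mul] at hc
  have hc' := hc.symm
  rw [mk_eq_iff] at hc'
  obtain ⟨r₀, -, hr⟩ := hc'
  obtain ⟨x, hx0, hx1, hx2⟩ := exists_ker2 hn φ ψ
  have f1 : ((tv v φ h s * tv w ψ h' t : SLn n F) : Matrix (Fin n) (Fin n) F) *ᵥ x = x := by
    rw [Matrix.SpecialLinearGroup.coe_mul, ← mulVec_mulVec, tv_mulVec w ψ h' t x, hx2, mul_zero,
      zero_smul, add_zero, tv_mulVec, hx1, mul_zero, zero_smul, add_zero]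
  have hr1 : r₀ = 1 := scalar_one_of_tv u χ hu r _ r₀ x hx0 f1 hr
  rw [hr1, one_smul, tv_mul_coe, hφw, mul_zero, zero_smul, add_zero, tv_coe, add_assoc] at hr
  have key := add_left_cancel hr
  have e : ∀ a b, s * (v a * φ b) + t * (w a * ψ b) = r * (u a * χ b) := by
    intro a b
    have := congrFun (congrFun key a) b
    simpa [vecMulVec_apply] using this
  have minor : ∀ a b c d, (v a * w c - v c * w a) * (φ b * ψ d - φ d * ψ b) = 0 := by
    intro a b c d
    have h1 : (s * (v a * φ b) + t * (w a * ψ b)) * (s * (v c * φ d) + t * (w c * ψ d)) =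
        (s * (v a * φ d) + t * (w a * ψ d)) * (s * (v c * φ b) + t * (w c * ψ b)) := by
      rw [e a b, e c d, e a d, e c b]
      ring
    have h2 : s * t * ((v a * w c - v c * w a) * (φ b * ψ d - φ d * ψ b)) = 0 := by
      linear_combination h1
    exact (mul_eq_zero.1 h2).resolve_left (mul_ne_zero hs ht)
  by_cases hp : Par v w
  · exact Or.inl hp
  · right
    unfold Par at hp
    push Not at hp
    obtain ⟨a, c, hac⟩ := hp
    intro b d
    have h3 := minor a b c d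
    have h4 : φ b * ψ d - φ d * ψ b = 0 :=
      (mul_eq_zero.1 h3).resolve_left (sub_ne_zero.2 hac)
    linear_combination h4

/-! ### the standard frame -/

/-- the standard basis vector -/
def E (i : Fin n) : Fin n → F := Pi.single i 1

theorem E_ne_zero (i : Fin n) : (E i : Fin n → F) ≠ 0 := by
  intro h
  have := congrFun h i
  simp [E] at this

theorem E_dot (i j : Fin n) : (E i : Fin n → F) ⬝ᵥ E j = if i = j then 1 else 0 := by
  by_cases h : i = j
  · simp [E, h]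
  · simp [E, h, Ne.symm h]

theorem E_dot_ne {i j : Fin n} (h : i ≠ j) : (E j : Fin n → F) ⬝ᵥ E i = 0 := by
  rw [E_dot, if_neg (Ne.symm h)]

theorem dot_E (φ : Fin n → F) (i : Fin n) : φ ⬝ᵥ E i = φ i := by
  simp [E]

theorem E_dot' (φ : Fin n → F) (i : Fin n) : (E i : Fin n → F) ⬝ᵥ φ = φ i := by
  simp [E]

/-- the frame root elements `x_ij(t)` in `PSL_n` -/
noncomputable def xb (i j : Fin n) (t : F) : PSLn n F := tvb (E i) (E j) t

theorem tv_E_eq {i j : Fin n} (hij : i ≠ j) (t : F) :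
    tv (E i) (E j) (E_dot_ne hij) t = Matrix.SpecialLinearGroup.transvection hij t := by
  apply Subtype.ext
  rw [tv_coe, Matrix.SpecialLinearGroup.transvection_coe]
  congr 1
  ext a b
  simp only [Matrix.smul_apply, vecMulVec_apply, E, Pi.single_apply, Matrix.single_apply,
    smul_eq_mul]
  by_cases ha : i = a
  · by_cases hb : j = b
    · simp [ha, hb]
    · have hb' : ¬ b = j := fun h => hb h.symm
      simp [ha, hb, hb']
  · have ha' : ¬ a = i := fun h => ha h.symm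
    simp [ha, ha']

theorem xb_eq {i j : Fin n} (hij : i ≠ j) (t : F) :
    (xb i j t : PSLn n F) = QuotientGroup.mk (Matrix.SpecialLinearGroup.transvection hij t) := by
  rw [xb, tvb_of _ _ (E_dot_ne hij), tv_E_eq]

theorem xb_inj {i j : Fin n} (hij : i ≠ j) (s t : F) (h : (xb i j s : PSLn n F) = xb i j t) :
    s = t :=
  tvb_inj _ _ (E_dot_ne hij) (E_ne_zero i) (E_ne_zero j) s t h

theorem xb_add (i j : Fin n) (s t : F) : (xb i j (s + t) : PSLn n F) = xb i j s * xb i j t :=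
  tvb_add _ _ s t

theorem xb_zero (i j : Fin n) : (xb i j 0 : PSLn n F) = 1 := tvb_zero _ _

/-- two automorphisms agreeing on all frame root elements are equal -/
theorem aut_ext (hn : 2 ≤ n) (α β : MulAut (PSLn n F))
    (h : ∀ i j : Fin n, i ≠ j → ∀ t : F, α (xb i j t) = β (xb i j t)) : α = β := by
  have : Nontrivial (Fin n) := Fin.nontrivial_iff_two_le.2 hn
  apply MulEquiv.ext
  intro x
  induction x using QuotientGroup.induction_on with
  | H M =>
    refine SLSimple.transvection_induction (fun M : Matrix.SpecialLinearGroup (Fin n) F =>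
      α (QuotientGroup.mk M) = β (QuotientGroup.mk M)) ?_ ?_ M
    · intro i j hij a
      have := h i j hij a
      rw [xb_eq hij] at this
      exact this
    · intro A B hA hB
      show α (QuotientGroup.mk (A * B)) = β (QuotientGroup.mk (A * B))
      rw [QuotientGroup.mk_mul, map_mul, map_mul, hA, hB]

/-- the diagonal element of `GL_n` -/
def diagGL (d : Fin n → F) (hd : ∀ i, d i ≠ 0) : GL (Fin n) F :=
  ⟨Matrix.diagonal d, Matrix.diagonal (fun i => (d i)⁻¹), by
    rw [Matrix.diagonal_mul_diagonal, ← Matrix.diagonal_one]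
    congr 1
    funext i
    exact mul_inv_cancel₀ (hd i), by
    rw [Matrix.diagonal_mul_diagonal, ← Matrix.diagonal_one]
    congr 1
    funext i
    exact inv_mul_cancel₀ (hd i)⟩

theorem conjAut_diag_xb (d : Fin n → F) (hd : ∀ i, d i ≠ 0) {i j : Fin n} (hij : i ≠ j) (t : F) :
    conjAut (diagGL d hd) (xb i j t) = xb i j (d i * (d j)⁻¹ * t) := by
  rw [xb, conjAut_tvb _ _ _ (E_dot_ne hij)]
  have h1 : ((diagGL d hd : GL (Fin n) F) : Matrix (Fin n) (Fin n) F) *ᵥ (E i) = d i • E i := by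
    show Matrix.diagonal d *ᵥ (E i) = d i • E i
    ext a
    simp only [E, Matrix.mulVec_diagonal, Pi.single_apply, Pi.smul_apply, smul_eq_mul]
    split_ifs with h
    · rw [h]
    · simp
  have h2 : (E j : Fin n → F) ᵥ* (((diagGL d hd)⁻¹ : GL (Fin n) F) : Matrix (Fin n) (Fin n) F) =
      (d j)⁻¹ • E j := by
    show (E j : Fin n → F) ᵥ* Matrix.diagonal (fun i => (d i)⁻¹) = (d j)⁻¹ • E j
    ext a
    simp only [E, Matrix.vecMul_diagonal, Pi.single_apply, Pi.smul_apply, smul_eq_mul]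
    split_ifs with h
    · rw [h]; ring
    · simp
  rw [h1, h2, tvb_smul _ _ (E_dot_ne hij)]
  rfl

theorem fieldAut_xb (σ : F ≃+* F) {i j : Fin n} (hij : i ≠ j) (t : F) :
    fieldAut σ (xb i j t) = xb i j (σ t) := by
  rw [xb, fieldAut_tvb _ _ _ (E_dot_ne hij)]
  have h1 : (fun a => σ ((E i : Fin n → F) a)) = E i := by
    funext a
    simp only [E, Pi.single_apply]
    split_ifs <;> simp
  have h2 : (fun a => σ ((E j : Fin n → F) a)) = E j := by
    funext a
    simp only [E, Pi.single_apply]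
    split_ifs <;> simp
  rw [h1, h2]
  rfl

theorem itAut_xb {i j : Fin n} (hij : i ≠ j) (t : F) :
    itAut (xb i j t) = (xb j i (-t) : PSLn n F) := by
  rw [xb, itAut_tvb _ _ (E_dot_ne hij)]
  rfl

/-! ### frame relations -/

theorem xb_center_mul {i j k : Fin n} (hij : i ≠ j) (hik : i ≠ k) (s t : F) :
    (xb i j s * xb i k t : PSLn n F) = tvb (E i) (s • E j + t • E k) 1 := by
  have h3 : (s • (E j : Fin n → F) + t • E k) ⬝ᵥ E i = 0 := by
    rw [add_dotProduct, smul_dotProduct, smul_dotProduct, E_dot_ne hij, E_dot_ne hik]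
    simp
  rw [xb, xb, tvb_of _ _ (E_dot_ne hij), tvb_of _ _ (E_dot_ne hik), tvb_of _ _ h3,
    ← QuotientGroup.mk_mul]
  congr 1
  apply Subtype.ext
  rw [tv_mul_coe, E_dot_ne hij, tv_coe, vecMulVec_add, vecMulVec_smul, vecMulVec_smul]
  module

theorem xb_axis_mul {i j k : Fin n} (hij : i ≠ j) (hkj : k ≠ j) (s t : F) :
    (xb i j s * xb k j t : PSLn n F) = tvb (s • E i + t • E k) (E j) 1 := by
  have h3 : (E j : Fin n → F) ⬝ᵥ (s • E i + t • E k) = 0 := by
    rw [dotProduct_add, dotProduct_smul, dotProduct_smul, E_dot_ne hij, E_dot_ne hkj]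
    simp
  rw [xb, xb, tvb_of _ _ (E_dot_ne hij), tvb_of _ _ (E_dot_ne hkj), tvb_of _ _ h3,
    ← QuotientGroup.mk_mul]
  congr 1
  apply Subtype.ext
  rw [tv_mul_coe, E_dot_ne hkj, tv_coe, add_vecMulVec, smul_vecMulVec, smul_vecMulVec]
  module

theorem xb_center_comm {i j k : Fin n} (hij : i ≠ j) (hik : i ≠ k) (s t : F) :
    (xb i j s * xb i k t : PSLn n F) = xb i k t * xb i j s :=
  tvb_comm _ _ _ _ (E_dot_ne hij) (E_dot_ne hik) s t

theorem xb_axis_comm {i j k : Fin n} (hij : i ≠ j) (hkj : k ≠ j) (s t : F) :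
    (xb i j s * xb k j t : PSLn n F) = xb k j t * xb i j s :=
  tvb_comm _ _ _ _ (E_dot_ne hkj) (E_dot_ne hij) s t

theorem xb_not_comm (hn : 3 ≤ n) {i j k : Fin n} (hij : i ≠ j) (hjk : j ≠ k) (s t : F)
    (hs : s ≠ 0) (ht : t ≠ 0) :
    (xb i j s * xb j k t : PSLn n F) ≠ xb j k t * xb i j s := by
  intro h
  have := comm_dot hn (E i) (E j) (E j) (E k) (E_dot_ne hij) (E_dot_ne hjk) (E_ne_zero i)
    (E_ne_zero j) (E_ne_zero j) (E_ne_zero k) s t hs ht h
  rw [E_dot, if_pos rfl] at this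
  exact one_ne_zero this.1

theorem xb_ne {i j k l : Fin n} (hij : i ≠ j) (hkl : k ≠ l) (hne : ¬ (i = k ∧ j = l)) (s t : F)
    (h : (xb i j s : PSLn n F) = xb k l t) : s = 0 := by
  rw [xb, xb, tvb_of _ _ (E_dot_ne hij), tvb_of _ _ (E_dot_ne hkl), mk_eq_iff] at h
  obtain ⟨r, hr, h⟩ := h
  have h1 := congrFun (congrFun h i) j
  rw [tv_coe, tv_coe] at h1
  simp only [Matrix.add_apply, Matrix.one_apply, if_neg hij, Matrix.smul_apply, vecMulVec_apply,
    E, Pi.single_apply, smul_eq_mul, zero_add] at h1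
  have hr0 : r ≠ 0 := by
    rintro rfl
    rcases Nat.eq_zero_or_pos n with h0 | h0
    · subst h0
      exact i.elim0
    · rw [zero_pow (by omega)] at hr
      exact zero_ne_one hr
  have h2 : r * s = 0 := by
    by_cases h3 : i = k
    · have h4 : ¬ j = l := fun h4 => hne ⟨h3, h4⟩
      simp [h4] at h1
      rcases h1 with h1 | h1
      · exact absurd h1 hr0
      · rw [h1, mul_zero]
    · simp [h3] at h1
      rcases h1 with h1 | h1
      · exact absurd h1 hr0
      · rw [h1, mul_zero]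
  exact (mul_eq_zero.1 h2).resolve_left hr0

theorem xb_comm_rel {i j k : Fin n} (hij : i ≠ j) (hjk : j ≠ k) (hik : i ≠ k) (s t : F) :
    (xb i j s * xb j k t : PSLn n F) = xb i k (s * t) * xb j k t * xb i j s := by
  rw [xb, xb, xb, tvb_of _ _ (E_dot_ne hij), tvb_of _ _ (E_dot_ne hjk), tvb_of _ _ (E_dot_ne hik),
    ← QuotientGroup.mk_mul, ← QuotientGroup.mk_mul, ← QuotientGroup.mk_mul]
  congr 1
  apply Subtype.ext
  rw [Matrix.SpecialLinearGroup.coe_mul (tv (E i) (E k) _ _ * tv (E j) (E k) _ _), tv_mul_coe,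
    tv_mul_coe, E_dot, E_dot, if_pos rfl, if_neg (Ne.symm hjk), tv_coe]
  simp only [mul_add, add_mul, mul_one, one_mul, smul_mul_assoc, mul_smul_comm, vv_mul, E_dot,
    if_neg (Ne.symm hik), smul_smul, mul_zero, zero_smul, smul_zero, add_zero]
  module

/-! ### root sets that every automorphism maps to a root set -/

/-- every automorphism maps the root set of `(v, φ)` onto a root set -/
def Good (v φ : Fin n → F) : Prop :=
  ∀ α : MulAut (PSLn n F), ∃ u χ : Fin n → F, χ ⬝ᵥ u = 0 ∧ u ≠ 0 ∧ χ ≠ 0 ∧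
    α '' Set.range (tvb v φ) = Set.range (tvb u χ)

theorem good_conj {v φ : Fin n → F} (hg : Good v φ) (h : φ ⬝ᵥ v = 0) (g : GL (Fin n) F) :
    Good ((g : Matrix (Fin n) (Fin n) F) *ᵥ v)
      (φ ᵥ* ((g⁻¹ : GL (Fin n) F) : Matrix (Fin n) (Fin n) F)) := by
  intro α
  obtain ⟨u, χ, h1, h2, h3, h4⟩ := hg (α * conjAut g)
  refine ⟨u, χ, h1, h2, h3, ?_⟩
  rw [← h4]
  ext x
  constructor
  · rintro ⟨_, ⟨t, rfl⟩, rfl⟩
    exact ⟨tvb v φ t, ⟨t, rfl⟩, by rw [MulAut.mul_apply, conjAut_tvb g v φ h]⟩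
  · rintro ⟨_, ⟨t, rfl⟩, rfl⟩
    exact ⟨_, ⟨t, rfl⟩, by rw [MulAut.mul_apply, conjAut_tvb g v φ h]⟩

theorem exists_perm {α : Type*} [DecidableEq α] (a b i j : α) (hab : a ≠ b) (hij : i ≠ j) :
    ∃ σ : Equiv.Perm α, σ a = i ∧ σ b = j := by
  have hk : Equiv.swap a i b ≠ i := by
    intro h
    have h1 : Equiv.swap a i b = Equiv.swap a i a := by rw [h, Equiv.swap_apply_left]
    exact hab ((Equiv.swap a i).injective h1).symm
  refine ⟨Equiv.swap (Equiv.swap a i b) j * Equiv.swap a i, ?_, ?_⟩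
  · rw [Equiv.Perm.mul_apply, Equiv.swap_apply_left, Equiv.swap_apply_of_ne_of_ne (Ne.symm hk) hij]
  · rw [Equiv.Perm.mul_apply, Equiv.swap_apply_left]

/-- permutation matrices in `GL_n` -/
def permGL (σ : Equiv.Perm (Fin n)) : GL (Fin n) F :=
  ⟨Matrix.of (fun a b => if a = σ b then 1 else 0), Matrix.of (fun a b => if σ a = b then 1 else 0),
    by
      ext a b
      simp only [Matrix.mul_apply, Matrix.of_apply, Matrix.one_apply]
      rw [← Equiv.sum_comp σ.symm]
      simp, by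
      ext a b
      simp only [Matrix.mul_apply, Matrix.of_apply, Matrix.one_apply]
      simp⟩

theorem permGL_mulVec (σ : Equiv.Perm (Fin n)) (i : Fin n) :
    ((permGL σ : GL (Fin n) F) : Matrix (Fin n) (Fin n) F) *ᵥ (E i) = E (σ i) := by
  show Matrix.of (fun a b => if a = σ b then (1 : F) else 0) *ᵥ (E i) = E (σ i)
  ext a
  simp [Matrix.mulVec, dotProduct, E, Pi.single_apply]

theorem permGL_vecMul (σ : Equiv.Perm (Fin n)) (j : Fin n) :
    (E j : Fin n → F) ᵥ* (((permGL σ)⁻¹ : GL (Fin n) F) : Matrix (Fin n) (Fin n) F) = E (σ j) := by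
  show (E j : Fin n → F) ᵥ* Matrix.of (fun a b => if σ a = b then (1 : F) else 0) = E (σ j)
  ext b
  simp only [Matrix.vecMul, dotProduct, E, Pi.single_apply, Matrix.of_apply]
  rw [Finset.sum_eq_single j (fun a _ ha => by simp [ha]) (fun h => absurd (Finset.mem_univ j) h)]
  by_cases h : σ j = b
  · simp [h]
  · have h' : ¬ b = σ j := fun h' => h h'.symm
    simp [h, h']

theorem good_frame {a b : Fin n} (hab : a ≠ b) (hg : Good (E a : Fin n → F) (E b)) {i j : Fin n}
    (hij : i ≠ j) : Good (E i : Fin n → F) (E j) := by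
  obtain ⟨σ, h1, h2⟩ := exists_perm a b i j hab hij
  have := good_conj hg (E_dot_ne hab) (permGL σ)
  rw [permGL_mulVec, permGL_vecMul, h1, h2] at this
  exact this

theorem good_center {i j k : Fin n} (hij : i ≠ j) (hik : i ≠ k) (hjk : j ≠ k)
    (hg : Good (E i : Fin n → F) (E j)) : Good (E i : Fin n → F) (E j + E k) := by
  have := good_conj hg (E_dot_ne hij)
    (Matrix.SpecialLinearGroup.toGL (tv (E j) (E k) (E_dot_ne hjk) (-1)))
  have h1 : ((Matrix.SpecialLinearGroup.toGL (tv (E j) (E k) (E_dot_ne hjk) (-1)) : GL (Fin n) F) :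
      Matrix (Fin n) (Fin n) F) *ᵥ (E i) = E i := by
    show ((tv (E j) (E k) (E_dot_ne hjk) (-1) : SLn n F) : Matrix (Fin n) (Fin n) F) *ᵥ (E i) = E i
    rw [tv_mulVec, E_dot_ne hik, mul_zero, zero_smul, add_zero]
  have h2 : (E j : Fin n → F) ᵥ* (((Matrix.SpecialLinearGroup.toGL
      (tv (E j) (E k) (E_dot_ne hjk) (-1)))⁻¹ : GL (Fin n) F) : Matrix (Fin n) (Fin n) F) =
      E j + E k := by
    rw [← map_inv, tv_inv, neg_neg]
    show (E j : Fin n → F) ᵥ* ((tv (E j) (E k) (E_dot_ne hjk) 1 : SLn n F) :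
      Matrix (Fin n) (Fin n) F) = E j + E k
    rw [tv_coe, vecMul_add, vecMul_one, one_smul, vecMul_vecMulVec, E_dot, if_pos rfl, one_smul]
  rw [h1, h2] at this
  exact this

theorem good_axis {i j k : Fin n} (hij : i ≠ j) (hik : i ≠ k) (hkj : k ≠ j)
    (hg : Good (E i : Fin n → F) (E j)) : Good (E i + E k : Fin n → F) (E j) := by
  have := good_conj hg (E_dot_ne hij)
    (Matrix.SpecialLinearGroup.toGL (tv (E k) (E i) (E_dot_ne (Ne.symm hik)) 1))
  have h1 : ((Matrix.SpecialLinearGroup.toGL (tv (E k) (E i) (E_dot_ne (Ne.symm hik)) 1) :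
      GL (Fin n) F) : Matrix (Fin n) (Fin n) F) *ᵥ (E i) = E i + E k := by
    show ((tv (E k) (E i) (E_dot_ne (Ne.symm hik)) 1 : SLn n F) :
      Matrix (Fin n) (Fin n) F) *ᵥ (E i) = E i + E k
    rw [tv_mulVec, E_dot, if_pos rfl, mul_one, one_smul]
  have h2 : (E j : Fin n → F) ᵥ* (((Matrix.SpecialLinearGroup.toGL
      (tv (E k) (E i) (E_dot_ne (Ne.symm hik)) 1))⁻¹ : GL (Fin n) F) :
      Matrix (Fin n) (Fin n) F) = E j := by
    rw [← map_inv, tv_inv]
    show (E j : Fin n → F) ᵥ* ((tv (E k) (E i) (E_dot_ne (Ne.symm hik)) (-1) : SLn n F) :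
      Matrix (Fin n) (Fin n) F) = E j
    rw [tv_coe, vecMul_add, vecMul_one, vecMul_smul, vecMul_vecMulVec, E_dot,
      if_neg (Ne.symm hkj), zero_smul, smul_zero, add_zero]
  rw [h1, h2] at this
  exact this

end Cfsg.Agent.Lib.helper13.PN
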