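import Mathlib
import Cfsg.Agent.Lib.helper13.PSLn
import Cfsg.Agent.Lib.helper13.PSL2Aut

set_option autoImplicit false

/-!
The unitriangular subgroup is a Sylow `p`-subgroup of `PSL_n(q)`; its centre is a root subgroup.
Consequence: every automorphism maps the root set of `(e₀, e_last)` onto a root set.
-/

namespace Cfsg.Agent.Lib.helper13.PN

open Matrix

variable {F : Type*} [Field F] {m : ℕ}

/-- upper unitriangular matrices -/
def Umon (m : ℕ) (F : Type*) [Field F] : Submonoid (SLn (m + 2) F) where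
  carrier := {M | (∀ i j, j < i → M i j = 0) ∧ ∀ i, M i i = 1}
  one_mem' := by
    constructor
    · intro i j hij
      rw [Matrix.SpecialLinearGroup.coe_one, Matrix.one_apply_ne (ne_of_gt hij)]
    · intro i
      rw [Matrix.SpecialLinearGroup.coe_one, Matrix.one_apply_eq]
  mul_mem' := by
    rintro M M' ⟨h1, h2⟩ ⟨h1', h2'⟩
    constructor
    · intro i j hij
      rw [Matrix.SpecialLinearGroup.coe_mul, Matrix.mul_apply]
      apply Finset.sum_eq_zero
      intro k _
      by_cases hk : k < i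
      · rw [h1 i k hk, zero_mul]
      · rw [h1' k j (lt_of_lt_of_le hij (not_lt.1 hk)), mul_zero]
    · intro i
      rw [Matrix.SpecialLinearGroup.coe_mul, Matrix.mul_apply, Finset.sum_eq_single i]
      · rw [h2, h2', mul_one]
      · intro k _ hk
        rcases lt_or_gt_of_ne hk with h | h
        · rw [h1 i k h, zero_mul]
        · rw [h1' k i h, mul_zero]
      · intro h
        exact absurd (Finset.mem_univ i) h

theorem mem_Umon (M : SLn (m + 2) F) :
    M ∈ Umon m F ↔ (∀ i j, j < i → M i j = 0) ∧ ∀ i, M i i = 1 := Iff.rfl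

/-- the unitriangular subgroup of `SL_n` over a finite field -/
def Usub (m : ℕ) (F : Type*) [Field F] [Finite F] : Subgroup (SLn (m + 2) F) :=
  { Umon m F with
    inv_mem' := by
      intro M hM
      have h1 : M⁻¹ = M ^ (orderOf M - 1) := by
        apply inv_eq_of_mul_eq_one_right
        rw [← pow_succ', Nat.sub_add_cancel (orderOf_pos M), pow_orderOf_eq_one]
      rw [h1]
      exact (Umon m F).pow_mem hM _ }

theorem mem_Usub [Finite F] (M : SLn (m + 2) F) :
    M ∈ Usub m F ↔ (∀ i j, j < i → M i j = 0) ∧ ∀ i, M i i = 1 := Iff.rfl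

theorem card_lt_pairs (N : ℕ) :
    Fintype.card {p : Fin N × Fin N // p.1 < p.2} = ∑ j : Fin N, (j : ℕ) := by
  rw [Fintype.card_subtype, Finset.card_filter, Fintype.sum_prod_type, Finset.sum_comm]
  refine Finset.sum_congr rfl (fun j _ => ?_)
  rw [← Finset.card_filter]
  have : (Finset.univ.filter (fun i : Fin N => i < j)) = Finset.Iio j := by
    ext i
    simp
  rw [this, Fin.card_Iio]

/-- coordinates on the unitriangular group -/
def UEquiv (m : ℕ) (F : Type*) [Field F] [Finite F] :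
    Usub m F ≃ ({p : Fin (m + 2) × Fin (m + 2) // p.1 < p.2} → F) where
  toFun u p := u.1 p.1.1 p.1.2
  invFun c := ⟨⟨Matrix.of (fun i j => if h : i < j then c ⟨(i, j), h⟩ else if i = j then 1 else 0),
    by
      rw [Matrix.det_of_upperTriangular]
      · simp
      · intro i j hij
        have hij' : j < i := hij
        simp only [Matrix.of_apply]
        rw [dif_neg (not_lt_of_gt hij'), if_neg (ne_of_gt hij')]⟩, by
      refine ⟨fun i j hij => ?_, fun i => ?_⟩
      · show (if h : i < j then c ⟨(i, j), h⟩ else if i = j then 1 else 0) = 0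
        rw [dif_neg (not_lt_of_gt hij), if_neg (ne_of_gt hij)]
      · show (if h : i < i then c ⟨(i, i), h⟩ else if i = i then 1 else 0) = 1
        simp⟩
  left_inv u := by
    obtain ⟨u, hu⟩ := u
    rw [mem_Usub] at hu
    apply Subtype.ext
    apply Subtype.ext
    ext i j
    show (if h : i < j then u i j else if i = j then 1 else 0) = u i j
    by_cases h : i < j
    · rw [dif_pos h]
    · rw [dif_neg h]
      by_cases h' : i = j
      · rw [if_pos h', h', hu.2]
      · rw [if_neg h', hu.1 i j (lt_of_le_of_ne (not_lt.1 h) (Ne.symm h'))]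
  right_inv c := by
    funext p
    show (if h : p.1.1 < p.1.2 then c ⟨(p.1.1, p.1.2), h⟩ else if p.1.1 = p.1.2 then 1 else 0) = c p
    rw [dif_pos p.2]

theorem card_Usub [Fintype F] :
    Nat.card (Usub m F) = Fintype.card F ^ (∑ j : Fin (m + 2), (j : ℕ)) := by
  classical
  rw [Nat.card_congr (UEquiv m F), Nat.card_eq_fintype_card, Fintype.card_fun, card_lt_pairs]

/-- the image of the unitriangular subgroup in `PSL_n` -/
def Ubar (m : ℕ) (F : Type*) [Field F] [Finite F] : Subgroup (PSLn (m + 2) F) :=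
  (Usub m F).map (QuotientGroup.mk' (Subgroup.center (SLn (m + 2) F)))

theorem mk_injOn_Usub [Finite F] :
    Set.InjOn (QuotientGroup.mk' (Subgroup.center (SLn (m + 2) F))) (Usub m F : Set (SLn (m + 2) F)) := by
  intro u hu u' hu' h
  have h' : (QuotientGroup.mk u : PSLn (m + 2) F) = QuotientGroup.mk u' := h
  rw [mk_eq_iff] at h'
  obtain ⟨r, -, hr⟩ := h'
  have h1 := congrFun (congrFun hr 0) 0
  have e1 : u 0 0 = 1 := ((mem_Usub u).1 hu).2 0
  have e2 : u' 0 0 = 1 := ((mem_Usub u').1 hu').2 0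
  rw [Matrix.smul_apply, smul_eq_mul] at h1
  have e3 : (u' : Matrix (Fin (m + 2)) (Fin (m + 2)) F) 0 0 = 1 := e2
  have e4 : (u : Matrix (Fin (m + 2)) (Fin (m + 2)) F) 0 0 = 1 := e1
  rw [e3, e4, mul_one] at h1
  rw [← h1, one_smul] at hr
  exact Subtype.ext hr.symm

theorem card_Ubar [Fintype F] :
    Nat.card (Ubar m F) = Fintype.card F ^ (∑ j : Fin (m + 2), (j : ℕ)) := by
  rw [← card_Usub]
  have h := Nat.card_image_of_injOn (mk_injOn_Usub (m := m) (F := F))
  exact h

theorem prod_split (q N : ℕ) :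
    ∏ i : Fin N, (q ^ N - q ^ (i : ℕ)) =
      q ^ (∑ i : Fin N, (i : ℕ)) * ∏ i : Fin N, (q ^ (N - (i : ℕ)) - 1) := by
  rw [← Finset.prod_pow_eq_pow_sum, ← Finset.prod_mul_distrib]
  refine Finset.prod_congr rfl (fun i _ => ?_)
  have hi : (i : ℕ) ≤ N := le_of_lt i.2
  rw [Nat.mul_sub, mul_one, ← pow_add, Nat.add_sub_cancel' hi]

theorem Ubar_sylow [Fintype F] (p f : ℕ) [hp : Fact p.Prime] (hF : Fintype.card F = p ^ f)
    (hf : 1 ≤ f) : IsPGroup p (Ubar m F) ∧ ¬ p ∣ (Ubar m F).index := by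
  constructor
  · apply IsPGroup.of_card (n := f * ∑ j : Fin (m + 2), (j : ℕ))
    rw [card_Ubar, hF, pow_mul]
  · intro hdvd
    have h1 := Subgroup.card_mul_index (Ubar m F)
    have h2 := PSL2Aut.card_PSL' F (m + 2) (by omega)
    rw [prod_split, ← h1, card_Ubar] at h2
    have hq : 0 < Fintype.card F := Fintype.card_pos
    have h3 : Nat.gcd (m + 2) (Fintype.card F - 1) * ((Fintype.card F - 1) * (Ubar m F).index) =
        ∏ i : Fin (m + 2), (Fintype.card F ^ (m + 2 - (i : ℕ)) - 1) := by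
      apply Nat.eq_of_mul_eq_mul_left (pow_pos hq (∑ j : Fin (m + 2), (j : ℕ)))
      rw [← h2]
      ring
    have h4 : p ∣ ∏ i : Fin (m + 2), (Fintype.card F ^ (m + 2 - (i : ℕ)) - 1) := by
      rw [← h3]
      exact Dvd.dvd.mul_left (Dvd.dvd.mul_left hdvd _) _
    rw [Prime.dvd_finsetProd_iff (Nat.Prime.prime hp.out)] at h4
    obtain ⟨i, -, hi⟩ := h4
    have h5 : p ∣ Fintype.card F ^ (m + 2 - (i : ℕ)) := by
      rw [hF, ← pow_mul]
      apply dvd_pow_self
      have : 1 ≤ m + 2 - (i : ℕ) := by have := i.2; omega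
      have : 1 ≤ f * (m + 2 - (i : ℕ)) := Nat.mul_le_mul hf this
      omega
    have h6 : 1 ≤ Fintype.card F ^ (m + 2 - (i : ℕ)) := Nat.one_le_pow _ _ hq
    have h7 : p ∣ 1 := by
      have := Nat.dvd_sub h5 hi
      rwa [Nat.sub_sub_self h6] at this
    exact hp.out.one_lt.ne' (Nat.dvd_one.1 h7)

theorem aut_Ubar [Fintype F] (p f : ℕ) [hp : Fact p.Prime] (hF : Fintype.card F = p ^ f)
    (hf : 1 ≤ f) (α : MulAut (PSLn (m + 2) F)) :
    ∃ g : PSLn (m + 2) F, (Ubar m F).map α.toMonoidHom = (Ubar m F).map (MulAut.conj g).toMonoidHom := by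
  obtain ⟨hP, hidx⟩ := Ubar_sylow (m := m) p f hF hf
  have hP' : IsPGroup p ((Ubar m F).map α.toMonoidHom) := hP.map _
  have hc : Nat.card ((Ubar m F).map α.toMonoidHom) = Nat.card (Ubar m F) :=
    Subgroup.card_map_of_injective α.injective
  have hidx' : ¬ p ∣ ((Ubar m F).map α.toMonoidHom).index := by
    have h1 := Subgroup.card_mul_index (Ubar m F)
    have h2 := Subgroup.card_mul_index ((Ubar m F).map α.toMonoidHom)
    rw [hc, ← h1] at h2
    have hpos : 0 < Nat.card (Ubar m F) := Nat.card_pos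
    rw [Nat.eq_of_mul_eq_mul_left hpos h2]
    exact hidx
  obtain ⟨g, hg⟩ := MulAction.exists_smul_eq (PSLn (m + 2) F) (hP.toSylow hidx) (hP'.toSylow hidx')
  refine ⟨g, ?_⟩
  have h3 := congrArg (fun S : Sylow p (PSLn (m + 2) F) => (S : Subgroup (PSLn (m + 2) F))) hg
  simp only [Sylow.coe_subgroup_smul, IsPGroup.toSylow_coe] at h3
  rw [← h3]
  ext x
  rw [Subgroup.mem_pointwise_smul_iff_inv_smul_mem]
  constructor
  · intro hx
    refine ⟨(MulAut.conj g)⁻¹ • x, hx, ?_⟩
    simp only [MulAut.smul_def, MulEquiv.coe_toMonoidHom, MulAut.conj_inv_apply, MulAut.conj_apply]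
    group
  · rintro ⟨y, hy, rfl⟩
    have : (MulAut.conj g)⁻¹ • ((MulAut.conj g).toMonoidHom y) = y := by
      simp only [MulAut.smul_def, MulEquiv.coe_toMonoidHom, MulAut.conj_inv_apply,
        MulAut.conj_apply]
      group
    rw [this]
    exact hy

/-- centre of a subgroup, as a set -/
def Zc {G : Type*} [Group G] (H : Subgroup G) : Set G := {z | z ∈ H ∧ ∀ h ∈ H, z * h = h * z}

theorem Zc_map {G : Type*} [Group G] (H : Subgroup G) (α : MulAut G) :
    Zc (H.map α.toMonoidHom) = α '' Zc H := by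
  ext x
  constructor
  · rintro ⟨⟨y, hy, rfl⟩, hc⟩
    refine ⟨y, ⟨hy, fun h hh => ?_⟩, rfl⟩
    apply α.injective
    have := hc (α h) ⟨h, hh, rfl⟩
    rw [map_mul, map_mul]
    exact this
  · rintro ⟨y, ⟨hy, hc⟩, rfl⟩
    refine ⟨⟨y, hy, rfl⟩, ?_⟩
    rintro _ ⟨h, hh, rfl⟩
    show α y * α h = α h * α y
    rw [← map_mul, ← map_mul, hc h hh]

theorem E0_ne_last : (0 : Fin (m + 2)) ≠ Fin.last (m + 1) := by
  intro h
  have := congrArg Fin.val h
  simp at this

theorem mulVec_E {n : ℕ} (M : Matrix (Fin n) (Fin n) F) (i a : Fin n) : (M *ᵥ E i) a = M a i := by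
  simp [E, Matrix.mulVec, dotProduct, Pi.single_apply]

theorem E_vecMul {n : ℕ} (M : Matrix (Fin n) (Fin n) F) (j b : Fin n) :
    ((E j : Fin n → F) ᵥ* M) b = M j b := by
  simp [E, Matrix.vecMul, dotProduct, Pi.single_apply]

theorem tv_frame_mem [Finite F] {i j : Fin (m + 2)} (hij : i < j) (c : F) :
    tv (E i) (E j) (E_dot_ne (ne_of_lt hij)) c ∈ Usub m F := by
  rw [mem_Usub]
  constructor
  · intro a b hab
    show ((tv (E i) (E j) (E_dot_ne (ne_of_lt hij)) c : SLn (m + 2) F) :
      Matrix (Fin (m + 2)) (Fin (m + 2)) F) a b = 0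
    rw [tv_coe]
    simp only [Matrix.add_apply, Matrix.one_apply, Matrix.smul_apply, vecMulVec_apply, E,
      Pi.single_apply, smul_eq_mul]
    rw [if_neg (ne_of_gt hab)]
    by_cases ha : a = i
    · have hb : ¬ b = j := by
        rintro rfl
        subst ha
        exact absurd hab (not_lt_of_gt hij)
      simp [hb]
    · simp [ha]
  · intro a
    show ((tv (E i) (E j) (E_dot_ne (ne_of_lt hij)) c : SLn (m + 2) F) :
      Matrix (Fin (m + 2)) (Fin (m + 2)) F) a a = 1
    rw [tv_coe]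
    simp only [Matrix.add_apply, Matrix.one_apply, Matrix.smul_apply, vecMulVec_apply, E,
      Pi.single_apply, smul_eq_mul]
    by_cases ha : a = i
    · have hb : ¬ a = j := by
        rintro rfl
        exact (ne_of_lt hij) ha.symm
      simp [hb]
    · simp [ha]

theorem Zc_Ubar [Finite F] :
    Zc (Ubar m F) = Set.range (xb (0 : Fin (m + 2)) (Fin.last (m + 1)) : F → PSLn (m + 2) F) := by
  have h0l : (0 : Fin (m + 2)) < Fin.last (m + 1) :=
    lt_of_le_of_ne (Fin.zero_le _) E0_ne_last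
  ext z
  constructor
  · rintro ⟨⟨u, hu, rfl⟩, hc⟩
    have hu' := (mem_Usub u).1 hu
    have hrel : ∀ i j : Fin (m + 2), i < j → ∀ a b,
        u a i * (if b = j then 1 else 0) = (if a = i then 1 else 0) * u j b := by
      intro i j hij a b
      have hx := tv_frame_mem (F := F) hij 1
      have h1 := hc (QuotientGroup.mk (tv (E i) (E j) (E_dot_ne (ne_of_lt hij)) 1)) ⟨_, hx, rfl⟩
      have h2 : u * tv (E i) (E j) (E_dot_ne (ne_of_lt hij)) 1 =
          tv (E i) (E j) (E_dot_ne (ne_of_lt hij)) 1 * u := by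
        apply mk_injOn_Usub ((Usub m F).mul_mem hu hx) ((Usub m F).mul_mem hx hu)
        exact h1
      have h3 := congrArg (fun M : SLn (m + 2) F => (M : Matrix (Fin (m + 2)) (Fin (m + 2)) F)) h2
      simp only [Matrix.SpecialLinearGroup.coe_mul, tv_coe, mul_add, add_mul, mul_one, one_mul,
        one_smul] at h3
      have h4 := add_left_cancel h3
      rw [mul_vecMulVec, vecMulVec_mul] at h4
      have h5 := congrFun (congrFun h4 a) b
      rw [vecMulVec_apply, vecMulVec_apply, mulVec_E, E_vecMul] at h5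
      simpa [E, Pi.single_apply] using h5
    refine ⟨u 0 (Fin.last (m + 1)), ?_⟩
    rw [xb, tvb_of _ _ (E_dot_ne E0_ne_last)]
    show QuotientGroup.mk _ = QuotientGroup.mk u
    congr 1
    apply Subtype.ext
    rw [tv_coe]
    ext a b
    simp only [Matrix.add_apply, Matrix.one_apply, Matrix.smul_apply, vecMulVec_apply, E,
      Pi.single_apply, smul_eq_mul]
    rcases lt_trichotomy a b with hab | hab | hab
    · rw [if_neg (ne_of_lt hab)]
      by_cases hb : b = Fin.last (m + 1)
      · by_cases ha : a = 0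
        · subst ha hb
          simp
        · have h0a : (0 : Fin (m + 2)) < a := lt_of_le_of_ne (Fin.zero_le _) (Ne.symm ha)
          have h6 := hrel 0 a h0a 0 b
          rw [hu'.2 0, if_neg (ne_of_gt hab), if_pos rfl] at h6
          simp only [mul_zero, one_mul] at h6
          rw [if_neg ha, ← h6]
          simp
      · have hbl : b < Fin.last (m + 1) := lt_of_le_of_ne (Fin.le_last b) hb
        have h6 := hrel b (Fin.last (m + 1)) hbl a (Fin.last (m + 1))
        rw [if_pos rfl, if_neg (ne_of_lt hab), zero_mul, mul_one] at h6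
        rw [if_neg hb, h6]
        simp
    · subst hab
      rw [if_pos rfl, hu'.2 a]
      by_cases ha : a = 0
      · subst ha
        rw [if_neg E0_ne_last]
        simp
      · rw [if_neg ha]
        simp
    · rw [if_neg (ne_of_gt hab), hu'.1 a b hab]
      have ha : ¬ a = 0 := by
        rintro rfl
        exact absurd hab (Fin.not_lt_zero b)
      rw [if_neg ha]
      simp
  · rintro ⟨c, rfl⟩
    have hx := tv_frame_mem (F := F) h0l c
    refine ⟨⟨_, hx, by rw [xb, tvb_of _ _ (E_dot_ne E0_ne_last)]; rfl⟩, ?_⟩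
    rintro _ ⟨u, hu, rfl⟩
    have hu' := (mem_Usub u).1 hu
    rw [xb, tvb_of _ _ (E_dot_ne E0_ne_last)]
    show (QuotientGroup.mk _ : PSLn (m + 2) F) * QuotientGroup.mk u = QuotientGroup.mk u *
      QuotientGroup.mk _
    rw [← QuotientGroup.mk_mul, ← QuotientGroup.mk_mul]
    congr 1
    apply Subtype.ext
    rw [Matrix.SpecialLinearGroup.coe_mul, Matrix.SpecialLinearGroup.coe_mul, tv_coe, add_mul,
      mul_add, one_mul, mul_one, Matrix.smul_mul, Matrix.mul_smul, vecMulVec_mul, mul_vecMulVec]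
    have hcol : (u : Matrix (Fin (m + 2)) (Fin (m + 2)) F) *ᵥ (E 0) = E 0 := by
      funext a
      rw [mulVec_E]
      by_cases ha : a = 0
      · subst ha
        simp [E]
        exact hu'.2 0
      · have h0a : (0 : Fin (m + 2)) < a := lt_of_le_of_ne (Fin.zero_le _) (Ne.symm ha)
        have := hu'.1 a 0 h0a
        simp [E, ha]
        exact this
    have hrow : (E (Fin.last (m + 1)) : Fin (m + 2) → F) ᵥ*
        (u : Matrix (Fin (m + 2)) (Fin (m + 2)) F) = E (Fin.last (m + 1)) := by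
      funext b
      rw [E_vecMul]
      by_cases hb : b = Fin.last (m + 1)
      · subst hb
        simp [E]
        exact hu'.2 _
      · have hbl : b < Fin.last (m + 1) := lt_of_le_of_ne (Fin.le_last b) hb
        have := hu'.1 _ b hbl
        simp [E, hb]
        exact this
    rw [hcol, hrow]

theorem good_base [Fintype F] (p f : ℕ) [Fact p.Prime] (hF : Fintype.card F = p ^ f)
    (hf : 1 ≤ f) : Good (E (0 : Fin (m + 2)) : Fin (m + 2) → F) (E (Fin.last (m + 1))) := by
  intro α
  obtain ⟨g, hg⟩ := aut_Ubar p f hF hf α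
  obtain ⟨g₀, rfl⟩ := QuotientGroup.mk_surjective g
  have h1 : α '' Set.range (xb (0 : Fin (m + 2)) (Fin.last (m + 1)) : F → PSLn (m + 2) F) =
      (MulAut.conj (QuotientGroup.mk g₀ : PSLn (m + 2) F)) ''
        Set.range (xb (0 : Fin (m + 2)) (Fin.last (m + 1)) : F → PSLn (m + 2) F) := by
    rw [← Zc_Ubar, ← Zc_map, ← Zc_map, hg]
  rw [inn_eq] at h1
  have hinv1 : ((Matrix.SpecialLinearGroup.toGL g₀)⁻¹ : GL (Fin (m + 2)) F).1 *
      (Matrix.SpecialLinearGroup.toGL g₀ : GL (Fin (m + 2)) F).1 = 1 := Units.inv_mul _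
  have hinv2 : (Matrix.SpecialLinearGroup.toGL g₀ : GL (Fin (m + 2)) F).1 *
      ((Matrix.SpecialLinearGroup.toGL g₀)⁻¹ : GL (Fin (m + 2)) F).1 = 1 := Units.mul_inv _
  refine ⟨(Matrix.SpecialLinearGroup.toGL g₀ : GL (Fin (m + 2)) F).1 *ᵥ E 0,
    (E (Fin.last (m + 1)) : Fin (m + 2) → F) ᵥ*
      ((Matrix.SpecialLinearGroup.toGL g₀)⁻¹ : GL (Fin (m + 2)) F).1, ?_, ?_, ?_, ?_⟩
  · rw [dot_conj, E_dot_ne E0_ne_last]
  · intro h0
    have h2 := congrArg
      (fun v => ((Matrix.SpecialLinearGroup.toGL g₀)⁻¹ : GL (Fin (m + 2)) F).1 *ᵥ v) h0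
    simp only [mulVec_mulVec, hinv1, one_mulVec, mulVec_zero] at h2
    exact E_ne_zero _ h2
  · intro h0
    have h2 := congrArg
      (fun v => v ᵥ* (Matrix.SpecialLinearGroup.toGL g₀ : GL (Fin (m + 2)) F).1) h0
    simp only [vecMul_vecMul, hinv1, vecMul_one, zero_vecMul] at h2
    exact E_ne_zero _ h2
  · have h3 : Set.range (tvb (E (0 : Fin (m + 2)) : Fin (m + 2) → F) (E (Fin.last (m + 1)))) =
        Set.range (xb (0 : Fin (m + 2)) (Fin.last (m + 1)) : F → PSLn (m + 2) F) := rfl
    rw [h3, h1]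
    ext x
    constructor
    · rintro ⟨_, ⟨t, rfl⟩, rfl⟩
      exact ⟨t, by rw [xb, conjAut_tvb _ _ _ (E_dot_ne E0_ne_last)]⟩
    · rintro ⟨t, rfl⟩
      exact ⟨_, ⟨t, rfl⟩, by rw [xb, conjAut_tvb _ _ _ (E_dot_ne E0_ne_last)]⟩

end Cfsg.Agent.Lib.helper13.PN
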