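import Mathlib
import Cfsg.Prelude.Def_LieTypeDatum
import Cfsg.Agent.Lib.helper4.SpTv
import Cfsg.Agent.Lib.helper13.PSLnSylow

set_option autoImplicit false
set_option linter.unusedSectionVars false
set_option linter.unusedVariables false
set_option linter.style.longLine false

namespace Cfsg.Agent.Lib.helper13.PS

open Matrix
open Cfsg.Agent.S0766 Cfsg.Agent.S0765 Cfsg.Agent.Lib.helper4

variable {F : Type*} [Field F] {m : ℕ}

abbrev Spm (m : ℕ) (F : Type*) [Field F] : Type _ := ↥(Matrix.symplecticGroup (Fin m) F)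
abbrev Vm (m : ℕ) (F : Type*) : Type _ := Fin m ⊕ Fin m → F
abbrev Mm (m : ℕ) (F : Type*) : Type _ := Matrix (Fin m ⊕ Fin m) (Fin m ⊕ Fin m) F
abbrev GLm (m : ℕ) (F : Type*) [Field F] : Type _ := GL (Fin m ⊕ Fin m) F

theorem inv_val_mul (A : Spm m F) : (A⁻¹ : Spm m F).1 * A.1 = 1 :=
  congrArg Subtype.val (inv_mul_cancel A)

theorem val_mul_inv (A : Spm m F) : A.1 * (A⁻¹ : Spm m F).1 = 1 :=
  congrArg Subtype.val (mul_inv_cancel A)

theorem mk_eq_iff (hm : 1 ≤ m) (A B : Spm m F) :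
    (QuotientGroup.mk A : Cfsg.PSp m F) = QuotientGroup.mk B ↔ (A.1 = B.1 ∨ A.1 = -B.1) := by
  rw [QuotientGroup.eq, mem_center_sp_iff hm]
  have hB : A.1 * (A⁻¹ * B : Spm m F).1 = B.1 := congrArg Subtype.val (mul_inv_cancel_left A B)
  constructor
  · rintro (h | h)
    · left
      rw [← hB]
      have h' : (A⁻¹ * B : Spm m F).1 = 1 := h
      rw [h', mul_one]
    · right
      rw [← hB]
      have h' : (A⁻¹ * B : Spm m F).1 = -1 := h
      rw [h', mul_neg, mul_one, neg_neg]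
  · rintro (h | h)
    · left
      show (A⁻¹ : Spm m F).1 * B.1 = 1
      rw [← h, inv_val_mul]
    · right
      show (A⁻¹ : Spm m F).1 * B.1 = -1
      have h2 : B.1 = -A.1 := by rw [h, neg_neg]
      rw [h2, mul_neg, inv_val_mul]

/-- every element of `PSp` is a class -/
theorem exists_rep (x : Cfsg.PSp m F) : ∃ A : Spm m F, x = QuotientGroup.mk A := by
  induction x using QuotientGroup.induction_on with
  | H A => exact ⟨A, rfl⟩

/-- an automorphism of `Sp` induces an automorphism of `PSp` -/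
def liftAut (e : Spm m F ≃* Spm m F) : MulAut (Cfsg.PSp m F) :=
  QuotientGroup.congr _ _ e (PN.map_center_eq e)

theorem liftAut_mk (e : Spm m F ≃* Spm m F) (M : Spm m F) :
    liftAut e (QuotientGroup.mk M) = QuotientGroup.mk (e M) := rfl

theorem gsp_conj_mem (g : GLm m F) (hg : g ∈ Cfsg.GSp m F) (s : Spm m F) :
    (g : Mm m F) * s.1 * ((g⁻¹ : GLm m F) : Mm m F) ∈ Matrix.symplecticGroup (Fin m) F := by
  obtain ⟨c, hc⟩ := hg
  apply mem_sp_of_pres
  intro u v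
  rw [← Matrix.mulVec_mulVec, ← Matrix.mulVec_mulVec, ← Matrix.mulVec_mulVec,
    ← Matrix.mulVec_mulVec, hc, sp_pres]
  have h := hc (((g⁻¹ : GLm m F) : Mm m F) *ᵥ u) (((g⁻¹ : GLm m F) : Mm m F) *ᵥ v)
  rw [Matrix.mulVec_mulVec, Matrix.mulVec_mulVec, Units.mul_inv, Matrix.one_mulVec,
    Matrix.one_mulVec] at h
  exact h.symm

/-- conjugation by a similitude on `Sp` -/
def conjSp (g : ↥(Cfsg.GSp m F)) : Spm m F ≃* Spm m F where
  toFun s := ⟨((g : GLm m F) : Mm m F) * s.1 * (((g : GLm m F)⁻¹ : GLm m F) : Mm m F),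
    gsp_conj_mem _ g.2 s⟩
  invFun s := ⟨(((g : GLm m F)⁻¹ : GLm m F) : Mm m F) * s.1 * ((g : GLm m F) : Mm m F), by
    have h := gsp_conj_mem (g : GLm m F)⁻¹ (inv_mem g.2) s
    rwa [inv_inv] at h⟩
  left_inv M := by
    apply Subtype.ext
    show (((g : GLm m F)⁻¹ : GLm m F) : Mm m F) * (((g : GLm m F) : Mm m F) * M.1 *
      (((g : GLm m F)⁻¹ : GLm m F) : Mm m F)) * ((g : GLm m F) : Mm m F) = M.1
    rw [← mul_assoc, ← mul_assoc, Units.inv_mul, one_mul, mul_assoc, Units.inv_mul, mul_one]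
  right_inv M := by
    apply Subtype.ext
    show ((g : GLm m F) : Mm m F) * ((((g : GLm m F)⁻¹ : GLm m F) : Mm m F) * M.1 *
      ((g : GLm m F) : Mm m F)) * (((g : GLm m F)⁻¹ : GLm m F) : Mm m F) = M.1
    rw [← mul_assoc, ← mul_assoc, Units.mul_inv, one_mul, mul_assoc, Units.mul_inv, mul_one]
  map_mul' M N := by
    apply Subtype.ext
    show ((g : GLm m F) : Mm m F) * (M.1 * N.1) * (((g : GLm m F)⁻¹ : GLm m F) : Mm m F) =
      ((g : GLm m F) : Mm m F) * M.1 * (((g : GLm m F)⁻¹ : GLm m F) : Mm m F) *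
      (((g : GLm m F) : Mm m F) * N.1 * (((g : GLm m F)⁻¹ : GLm m F) : Mm m F))
    have h : (((g : GLm m F)⁻¹ : GLm m F) : Mm m F) * ((g : GLm m F) : Mm m F) = 1 :=
      Units.inv_mul _
    calc ((g : GLm m F) : Mm m F) * (M.1 * N.1) * (((g : GLm m F)⁻¹ : GLm m F) : Mm m F)
        = ((g : GLm m F) : Mm m F) * M.1 * 1 * N.1 * (((g : GLm m F)⁻¹ : GLm m F) : Mm m F) := by
          simp only [mul_assoc, one_mul]
      _ = _ := by rw [← h]; simp only [mul_assoc]

theorem conjSp_coe (g : ↥(Cfsg.GSp m F)) (M : Spm m F) :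
    (conjSp g M).1 = ((g : GLm m F) : Mm m F) * M.1 * (((g : GLm m F)⁻¹ : GLm m F) : Mm m F) := rfl

/-- conjugation by similitudes on `PSp` -/
def conjAut : ↥(Cfsg.GSp m F) →* MulAut (Cfsg.PSp m F) where
  toFun A := liftAut (conjSp A)
  map_one' := by
    apply MulEquiv.ext
    intro x
    induction x using QuotientGroup.induction_on with
    | H M =>
      rw [liftAut_mk]
      congr 1
      apply Subtype.ext
      rw [conjSp_coe]
      simp
  map_mul' A B := by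
    apply MulEquiv.ext
    intro x
    induction x using QuotientGroup.induction_on with
    | H M =>
      rw [MulAut.mul_apply, liftAut_mk, liftAut_mk, liftAut_mk]
      congr 1
      apply Subtype.ext
      rw [conjSp_coe, conjSp_coe, conjSp_coe]
      have e1 : ((A * B : ↥(Cfsg.GSp m F)) : GLm m F) = (A : GLm m F) * (B : GLm m F) := rfl
      rw [e1, _root_.mul_inv_rev, Units.val_mul, Units.val_mul]
      simp only [mul_assoc]

theorem conjAut_mk (A : ↥(Cfsg.GSp m F)) (M : Spm m F) :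
    conjAut A (QuotientGroup.mk M) = QuotientGroup.mk (conjSp A M) := rfl

/-- a field automorphism acting on `Sp` -/
def fieldSp (σ : F ≃+* F) : Spm m F ≃* Spm m F where
  toFun s := ⟨s.1.map σ, SymplecticGroup.map_mem s.2 σ⟩
  invFun s := ⟨s.1.map σ.symm, SymplecticGroup.map_mem s.2 σ.symm⟩
  left_inv M := by
    apply Subtype.ext
    ext i j
    show σ.symm (σ (M.1 i j)) = M.1 i j
    simp
  right_inv M := by
    apply Subtype.ext
    ext i j
    show σ (σ.symm (M.1 i j)) = M.1 i j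
    simp
  map_mul' M N := by
    apply Subtype.ext
    show (M.1 * N.1).map σ = M.1.map σ * N.1.map σ
    exact Matrix.map_mul

theorem fieldSp_coe (σ : F ≃+* F) (M : Spm m F) : (fieldSp σ M).1 = M.1.map σ := rfl

/-- a field automorphism acting on `PSp` -/
def fieldAut : (F ≃+* F) →* MulAut (Cfsg.PSp m F) where
  toFun σ := liftAut (fieldSp σ)
  map_one' := by
    apply MulEquiv.ext
    intro x
    induction x using QuotientGroup.induction_on with
    | H M =>
      rw [liftAut_mk]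
      congr 1
  map_mul' σ τ := by
    apply MulEquiv.ext
    intro x
    induction x using QuotientGroup.induction_on with
    | H M =>
      rw [MulAut.mul_apply, liftAut_mk, liftAut_mk, liftAut_mk]
      congr 1

theorem fieldAut_mk (σ : F ≃+* F) (M : Spm m F) :
    fieldAut σ (QuotientGroup.mk M) = QuotientGroup.mk (fieldSp σ M) := rfl


/-! ### transvections in `PSp` -/

/-- the class of a symplectic transvection -/
noncomputable def tvb (v : Vm m F) (c : F) : Cfsg.PSp m F := QuotientGroup.mk (tv v c)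

theorem tvb_zero (v : Vm m F) : tvb v (0 : F) = 1 := by
  show (QuotientGroup.mk (tv v (0 : F)) : Cfsg.PSp m F) = 1
  rw [tv_zero_right]
  rfl

theorem tvb_add (v : Vm m F) (a b : F) : tvb v (a + b) = tvb v a * tvb v b := by
  show (QuotientGroup.mk (tv v (a + b)) : Cfsg.PSp m F) = QuotientGroup.mk (tv v a) * QuotientGroup.mk (tv v b)
  rw [← tv_add]
  rfl

theorem tvb_inv (v : Vm m F) (a : F) : (tvb v a)⁻¹ = tvb v (-a) := by
  rw [inv_eq_iff_mul_eq_one, ← tvb_add, add_neg_cancel, tvb_zero]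

theorem tv_mulVec (w : Vm m F) (c : F) (x : Vm m F) :
    (tv w c).1 *ᵥ x = x + (c * Cfsg.sympForm m F x w) • w := tv_apply w c x

theorem exists_coord_ne {v : Vm m F} (hv : v ≠ 0) : ∃ k, v k ≠ 0 := by
  by_contra h
  push Not at h
  exact hv (funext h)

theorem smul_eq_zero_vec {v : Vm m F} (hv : v ≠ 0) {c : F} (h : c • v = 0) : c = 0 := by
  obtain ⟨k, hk⟩ := exists_coord_ne hv
  have := congrFun h k
  rw [Pi.smul_apply, smul_eq_mul, Pi.zero_apply] at this
  rcases mul_eq_zero.1 this with h1 | h1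
  · exact h1
  · exact absurd h1 hk

theorem tv_ne_neg {v w : Vm m F} {a b : F} (hv : v ≠ 0) (h : (tv v a).1 = -(tv w b).1) :
    (2 : F) = 0 := by
  have h1 := congrArg (fun M : Mm m F => M *ᵥ v) h
  simp only [Matrix.neg_mulVec] at h1
  rw [tv_mulVec, tv_mulVec, sf_self, mul_zero, zero_smul, add_zero] at h1
  have h2 : (2 : F) • v = -(b * Cfsg.sympForm m F v w) • w := by
    rw [two_smul, neg_smul]
    nth_rewrite 1 [h1]
    abel
  have h3 := congrArg (fun y => Cfsg.sympForm m F v y) h2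
  simp only [sf_smul_right, sf_self, mul_zero] at h3
  have h4 : b * Cfsg.sympForm m F v w = 0 := by
    rcases mul_eq_zero.1 h3.symm with h5 | h5
    · exact neg_eq_zero.1 h5
    · rw [h5, mul_zero]
  rw [h4, neg_zero, zero_smul] at h2
  exact smul_eq_zero_vec hv h2

theorem tvb_eq_iff (hm : 1 ≤ m) {v w : Vm m F} {a b : F} (hv : v ≠ 0) :
    tvb v a = tvb w b ↔ tv v a = tv w b := by
  constructor
  · intro h
    rcases (mk_eq_iff hm _ _).1 h with h1 | h1
    · exact Subtype.ext h1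
    · have h2 := tv_ne_neg hv h1
      have h3 : ∀ y : F, -y = y := by
        intro y
        have : y + y = 0 := by rw [← two_mul, h2, zero_mul]
        exact neg_eq_of_add_eq_zero_left this
      apply Subtype.ext
      rw [h1]
      ext i j
      rw [Matrix.neg_apply, h3]
  · intro h
    show (QuotientGroup.mk (tv v a) : Cfsg.PSp m F) = QuotientGroup.mk (tv w b)
    rw [h]

theorem tv_par {v w : Vm m F} {a b : F} (hv : v ≠ 0) (ha : a ≠ 0) (h : tv v a = tv w b) :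
    ∃ d : F, d ≠ 0 ∧ w = d • v := by
  obtain ⟨x, hx⟩ := exists_sf_eq_one v hv
  have h1 := congrArg (fun M : Spm m F => M.1 *ᵥ x) h
  simp only [tv_mulVec, hx, mul_one] at h1
  have h2 : a • v = (b * Cfsg.sympForm m F x w) • w := add_left_cancel h1
  have hk : b * Cfsg.sympForm m F x w ≠ 0 := by
    intro h0
    rw [h0, zero_smul] at h2
    exact ha (smul_eq_zero_vec hv h2)
  refine ⟨(b * Cfsg.sympForm m F x w)⁻¹ * a, mul_ne_zero (inv_ne_zero hk) ha, ?_⟩
  rw [mul_smul, h2, smul_smul, inv_mul_cancel₀ hk, one_smul]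

theorem tvb_inj (hm : 1 ≤ m) {v : Vm m F} (hv : v ≠ 0) {a b : F} (h : tvb v a = tvb v b) : a = b := by
  rw [tvb_eq_iff hm hv] at h
  obtain ⟨x, hx⟩ := exists_sf_eq_one v hv
  have h1 := congrArg (fun M : Spm m F => M.1 *ᵥ x) h
  simp only [tv_mulVec, hx, mul_one] at h1
  have h2 : (a - b) • v = 0 := by
    rw [sub_smul, add_left_cancel h1, sub_self]
  exact sub_eq_zero.1 (smul_eq_zero_vec hv h2)

theorem tvb_eq_one (hm : 1 ≤ m) {v : Vm m F} (hv : v ≠ 0) {a : F} (h : tvb v a = 1) : a = 0 := by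
  rw [← tvb_zero v] at h
  exact tvb_inj hm hv h

theorem range_tvb_smul (v : Vm m F) {d : F} (hd : d ≠ 0) :
    Set.range (tvb (d • v)) = Set.range (tvb v) := by
  ext x
  constructor
  · rintro ⟨c, rfl⟩
    refine ⟨d * d * c, ?_⟩
    show (QuotientGroup.mk (tv v (d * d * c)) : Cfsg.PSp m F) = QuotientGroup.mk (tv (d • v) c)
    rw [tv_smul]
  · rintro ⟨c, rfl⟩
    refine ⟨c / (d * d), ?_⟩
    show (QuotientGroup.mk (tv (d • v) (c / (d * d))) : Cfsg.PSp m F) = QuotientGroup.mk (tv v c)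
    rw [tv_smul, mul_div_cancel₀ _ (mul_ne_zero hd hd)]

theorem conj_tvb (g : Spm m F) (v : Vm m F) (c : F) :
    (QuotientGroup.mk g : Cfsg.PSp m F) * tvb v c * (QuotientGroup.mk g)⁻¹ = tvb (g.1 *ᵥ v) c := by
  show (QuotientGroup.mk g : Cfsg.PSp m F) * QuotientGroup.mk (tv v c) * (QuotientGroup.mk g)⁻¹ =
    QuotientGroup.mk (tv (g.1 *ᵥ v) c)
  rw [← QuotientGroup.mk_mul, tv_conj, QuotientGroup.mk_mul, mul_inv_cancel_right]

theorem tvb_comm_iff (hm : 1 ≤ m) {v w : Vm m F} {a b : F} (hv : v ≠ 0) (hw : w ≠ 0)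
    (ha : a ≠ 0) (hb : b ≠ 0) :
    tvb v a * tvb w b = tvb w b * tvb v a ↔ Cfsg.sympForm m F v w = 0 := by
  have key : tvb v a * tvb w b * (tvb v a)⁻¹ = tvb ((tv v a).1 *ᵥ w) b := conj_tvb (tv v a) w b
  rw [tv_mulVec] at key
  constructor
  · intro h
    rw [h, mul_inv_cancel_right] at key
    rw [tvb_eq_iff hm hw] at key
    have h1 := congrArg (fun M : Spm m F => M.1 *ᵥ v) key
    simp only [tv_mulVec, sf_add_right, sf_smul_right, sf_self, mul_zero, add_zero] at h1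
    have h2 := add_left_cancel h1
    rw [smul_add, smul_smul] at h2
    have h3 : (b * Cfsg.sympForm m F v w * (a * Cfsg.sympForm m F w v)) • v = 0 := by
      have := h2
      nth_rewrite 1 [← add_zero ((b * Cfsg.sympForm m F v w) • w)] at this
      exact (add_left_cancel this).symm
    have h4 := smul_eq_zero_vec hv h3
    have h5 : Cfsg.sympForm m F w v = -Cfsg.sympForm m F v w := sf_anti w v
    rw [h5] at h4
    have h6 : Cfsg.sympForm m F v w * Cfsg.sympForm m F v w = 0 := by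
      have : b * a * -(Cfsg.sympForm m F v w * Cfsg.sympForm m F v w) = 0 := by linear_combination h4
      rcases mul_eq_zero.1 this with h7 | h7
      · exact absurd h7 (mul_ne_zero hb ha)
      · exact neg_eq_zero.1 h7
    exact mul_self_eq_zero.1 h6
  · intro h
    have h1 : Cfsg.sympForm m F w v = 0 := by rw [sf_anti, h, neg_zero]
    rw [h1, mul_zero, zero_smul, add_zero] at key
    exact mul_inv_eq_iff_eq_mul.1 key

/-! ### action of the standard automorphisms on transvections -/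

theorem gsp_inv_mulVec (g : ↥(Cfsg.GSp m F)) (x : Vm m F) :
    ((g : GLm m F) : Mm m F) *ᵥ ((((g : GLm m F)⁻¹ : GLm m F) : Mm m F) *ᵥ x) = x := by
  rw [Matrix.mulVec_mulVec, Units.mul_inv, Matrix.one_mulVec]

theorem gsp_mulVec_ne (g : ↥(Cfsg.GSp m F)) {x : Vm m F} (hx : x ≠ 0) :
    ((g : GLm m F) : Mm m F) *ᵥ x ≠ 0 := by
  intro h
  apply hx
  have h1 := congrArg (fun y => (((g : GLm m F)⁻¹ : GLm m F) : Mm m F) *ᵥ y) h
  simp only [Matrix.mulVec_mulVec, Units.inv_mul, Matrix.one_mulVec, Matrix.mulVec_zero] at h1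
  exact h1

theorem conjSp_tv (g : ↥(Cfsg.GSp m F)) (μ : F) (hμ0 : μ ≠ 0)
    (hμ : ∀ u v : Vm m F, Cfsg.sympForm m F (((g : GLm m F) : Mm m F) *ᵥ u)
      (((g : GLm m F) : Mm m F) *ᵥ v) = μ * Cfsg.sympForm m F u v) (v : Vm m F) (c : F) :
    conjSp g (tv v c) = tv (((g : GLm m F) : Mm m F) *ᵥ v) (c / μ) := by
  apply sp_ext
  intro x
  rw [conjSp_coe, ← Matrix.mulVec_mulVec, ← Matrix.mulVec_mulVec, tv_mulVec, tv_mulVec,
    Matrix.mulVec_add, Matrix.mulVec_smul, gsp_inv_mulVec]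
  congr 2
  have h := hμ ((((g : GLm m F)⁻¹ : GLm m F) : Mm m F) *ᵥ x) v
  rw [gsp_inv_mulVec] at h
  rw [h]
  field_simp

theorem map_mulVec (σ : F ≃+* F) (M : Mm m F) (x : Vm m F) :
    (M.map σ) *ᵥ x = fun i => σ ((M *ᵥ (fun j => σ.symm (x j))) i) := by
  ext i
  simp only [Matrix.mulVec, dotProduct, Matrix.map_apply, map_sum, map_mul, RingEquiv.apply_symm_apply]

theorem sf_map (σ : F ≃+* F) (u v : Vm m F) :
    Cfsg.sympForm m F (fun i => σ (u i)) (fun i => σ (v i)) = σ (Cfsg.sympForm m F u v) := by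
  rw [symp_eq, symp_eq, map_sum]
  apply Finset.sum_congr rfl
  intro i _
  rw [map_sub, map_mul, map_mul]

theorem fieldSp_tv (σ : F ≃+* F) (v : Vm m F) (c : F) :
    fieldSp σ (tv v c) = tv (fun i => σ (v i)) (σ c) := by
  apply sp_ext
  intro x
  rw [fieldSp_coe, map_mulVec, tv_mulVec, tv_mulVec]
  ext i
  have h := sf_map σ (fun j => σ.symm (x j)) v
  simp only [RingEquiv.apply_symm_apply] at h
  simp only [Pi.add_apply, Pi.smul_apply, smul_eq_mul, map_add, map_mul,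
    RingEquiv.apply_symm_apply]
  rw [h]


/-- the multiplier of a similitude -/
noncomputable def mult (g : ↥(Cfsg.GSp m F)) : F :=
  ((Classical.choose (show ∃ c : Fˣ, ∀ u v : Vm m F,
    Cfsg.sympForm m F (((g : GLm m F) : Mm m F) *ᵥ u) (((g : GLm m F) : Mm m F) *ᵥ v) =
      (c : F) * Cfsg.sympForm m F u v from g.2) : Fˣ) : F)

theorem mult_ne (g : ↥(Cfsg.GSp m F)) : mult g ≠ 0 := Units.ne_zero _

theorem mult_spec (g : ↥(Cfsg.GSp m F)) (u v : Vm m F) :
    Cfsg.sympForm m F (((g : GLm m F) : Mm m F) *ᵥ u) (((g : GLm m F) : Mm m F) *ᵥ v) =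
      mult g * Cfsg.sympForm m F u v :=
  Classical.choose_spec (show ∃ c : Fˣ, ∀ u v : Vm m F,
    Cfsg.sympForm m F (((g : GLm m F) : Mm m F) *ᵥ u) (((g : GLm m F) : Mm m F) *ᵥ v) =
      (c : F) * Cfsg.sympForm m F u v from g.2) u v

theorem conjAut_tvb (g : ↥(Cfsg.GSp m F)) (v : Vm m F) (c : F) :
    conjAut g (tvb v c) = tvb (((g : GLm m F) : Mm m F) *ᵥ v) (c / mult g) := by
  show conjAut g (QuotientGroup.mk (tv v c)) = QuotientGroup.mk (tv _ _)
  rw [conjAut_mk, conjSp_tv g (mult g) (mult_ne g) (mult_spec g)]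

theorem fieldAut_tvb (σ : F ≃+* F) (v : Vm m F) (c : F) :
    fieldAut σ (tvb v c) = tvb (fun i => σ (v i)) (σ c) := by
  show fieldAut σ (QuotientGroup.mk (tv v c)) = QuotientGroup.mk (tv _ _)
  rw [fieldAut_mk, fieldSp_tv]

/-! ### transvection groups under automorphisms -/

/-- `α` maps the transvection group of `v` onto that of `w` -/
def TG (α : MulAut (Cfsg.PSp m F)) (v w : Vm m F) : Prop :=
  v ≠ 0 ∧ w ≠ 0 ∧ α '' Set.range (tvb v) = Set.range (tvb w)

theorem TG.elt {α : MulAut (Cfsg.PSp m F)} {v w : Vm m F} (h : TG α v w) (a : F) :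
    ∃ b : F, α (tvb v a) = tvb w b := by
  have h1 : α (tvb v a) ∈ α '' Set.range (tvb v) := ⟨_, ⟨a, rfl⟩, rfl⟩
  rw [h.2.2] at h1
  obtain ⟨b, hb⟩ := h1
  exact ⟨b, hb.symm⟩

theorem TG.elt_ne (hm : 1 ≤ m) {α : MulAut (Cfsg.PSp m F)} {v w : Vm m F} (h : TG α v w) {a : F}
    (ha : a ≠ 0) : ∃ b : F, b ≠ 0 ∧ α (tvb v a) = tvb w b := by
  obtain ⟨b, hb⟩ := h.elt a
  refine ⟨b, ?_, hb⟩
  rintro rfl
  rw [tvb_zero] at hb
  have h2 : α (tvb v a) = α 1 := by rw [hb, map_one]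
  exact ha (tvb_eq_one hm h.1 (α.injective h2))

theorem TG.perp (hm : 1 ≤ m) {α : MulAut (Cfsg.PSp m F)} {v v' w w' : Vm m F} (h₁ : TG α v v')
    (h₂ : TG α w w') : Cfsg.sympForm m F v w = 0 ↔ Cfsg.sympForm m F v' w' = 0 := by
  obtain ⟨a, ha, ea⟩ := h₁.elt_ne hm (one_ne_zero)
  obtain ⟨b, hb, eb⟩ := h₂.elt_ne hm (one_ne_zero)
  rw [← tvb_comm_iff hm h₁.1 h₂.1 (one_ne_zero (α := F)) (one_ne_zero (α := F)),
    ← tvb_comm_iff hm h₁.2.1 h₂.2.1 ha hb, ← ea, ← eb, ← map_mul, ← map_mul]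
  exact ⟨fun h => by rw [h], fun h => α.injective h⟩

theorem TG.par (hm : 1 ≤ m) {α : MulAut (Cfsg.PSp m F)} {v w w₂ : Vm m F} (h₁ : TG α v w)
    (h₂ : TG α v w₂) : ∃ d : F, d ≠ 0 ∧ w₂ = d • w := by
  have h3 : tvb w 1 ∈ Set.range (tvb w₂) := by
    rw [← h₂.2.2, h₁.2.2]
    exact ⟨1, rfl⟩
  obtain ⟨b, hb⟩ := h3
  rw [eq_comm, tvb_eq_iff hm h₁.2.1] at hb
  exact tv_par h₁.2.1 one_ne_zero hb

theorem TG.of_smul {α : MulAut (Cfsg.PSp m F)} {v w : Vm m F} (h : TG α v w) {d : F} (hd : d ≠ 0) :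
    TG α v (d • w) := by
  refine ⟨h.1, smul_ne_zero hd h.2.1, ?_⟩
  rw [h.2.2, range_tvb_smul w hd]

theorem TG.smul_left {α : MulAut (Cfsg.PSp m F)} {v w : Vm m F} (h : TG α v w) {d : F} (hd : d ≠ 0) :
    TG α (d • v) w := by
  refine ⟨smul_ne_zero hd h.1, h.2.1, ?_⟩
  rw [range_tvb_smul v hd, h.2.2]

theorem sp_mulVec_ne (g : Spm m F) {x : Vm m F} (hx : x ≠ 0) : g.1 *ᵥ x ≠ 0 := by
  intro h
  apply hx
  apply mulVec_injective g
  rw [h, Matrix.mulVec_zero]

theorem range_conj (g : Spm m F) (v : Vm m F) :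
    Set.range (tvb (g.1 *ᵥ v)) =
      (fun x => (QuotientGroup.mk g : Cfsg.PSp m F) * x * (QuotientGroup.mk g)⁻¹) '' Set.range (tvb v) := by
  ext x
  constructor
  · rintro ⟨c, rfl⟩
    exact ⟨tvb v c, ⟨c, rfl⟩, conj_tvb g v c⟩
  · rintro ⟨_, ⟨c, rfl⟩, rfl⟩
    exact ⟨c, (conj_tvb g v c).symm⟩

theorem TG.conj {α : MulAut (Cfsg.PSp m F)} {v w : Vm m F} (h : TG α v w) (g g' : Spm m F)
    (hg : α (QuotientGroup.mk g) = QuotientGroup.mk g') : TG α (g.1 *ᵥ v) (g'.1 *ᵥ w) := by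
  refine ⟨sp_mulVec_ne g h.1, sp_mulVec_ne g' h.2.1, ?_⟩
  rw [range_conj, range_conj, ← h.2.2, Set.image_image, Set.image_image]
  apply Set.image_congr
  intro x _
  rw [map_mul, map_mul, map_inv, hg]

theorem TG.mul {α β : MulAut (Cfsg.PSp m F)} {v w u : Vm m F} (h₁ : TG α v w) (h₂ : TG β w u) :
    TG (β * α) v u := by
  refine ⟨h₁.1, h₂.2.1, ?_⟩
  rw [← h₂.2.2, ← h₁.2.2, Set.image_image]
  rfl

theorem TG.inv {α : MulAut (Cfsg.PSp m F)} {v w : Vm m F} (h : TG α v w) : TG α⁻¹ w v := by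
  refine ⟨h.2.1, h.1, ?_⟩
  rw [← h.2.2, Set.image_image]
  have : (fun x => α⁻¹ (α x)) = id := by
    funext x
    show α⁻¹ (α x) = x
    rw [← MulAut.mul_apply, inv_mul_cancel]
    rfl
  rw [this, Set.image_id]

theorem TG_one {v : Vm m F} (hv : v ≠ 0) : TG (1 : MulAut (Cfsg.PSp m F)) v v := by
  refine ⟨hv, hv, ?_⟩
  show (fun x => x) '' _ = _
  rw [Set.image_id']

theorem TG_conjAut (g : ↥(Cfsg.GSp m F)) {v : Vm m F} (hv : v ≠ 0) :
    TG (conjAut g) v (((g : GLm m F) : Mm m F) *ᵥ v) := by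
  refine ⟨hv, gsp_mulVec_ne g hv, ?_⟩
  ext x
  constructor
  · rintro ⟨_, ⟨c, rfl⟩, rfl⟩
    exact ⟨c / mult g, (conjAut_tvb g v c).symm⟩
  · rintro ⟨c, rfl⟩
    refine ⟨tvb v (c * mult g), ⟨_, rfl⟩, ?_⟩
    rw [conjAut_tvb, mul_div_cancel_right₀ _ (mult_ne g)]

theorem TG_fieldAut (σ : F ≃+* F) {v : Vm m F} (hv : v ≠ 0) :
    TG (fieldAut σ) v (fun i => σ (v i)) := by
  refine ⟨hv, ?_, ?_⟩
  · intro h
    apply hv
    funext i
    have := congrFun h i
    simpa using this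
  · ext x
    constructor
    · rintro ⟨_, ⟨c, rfl⟩, rfl⟩
      exact ⟨σ c, (fieldAut_tvb σ v c).symm⟩
    · rintro ⟨c, rfl⟩
      refine ⟨tvb v (σ.symm c), ⟨_, rfl⟩, ?_⟩
      rw [fieldAut_tvb, RingEquiv.apply_symm_apply]

/-- an automorphism stabilising every transvection group is trivial -/
theorem aut_eq_one_of_fix (hm : 1 ≤ m) (β : MulAut (Cfsg.PSp m F))
    (h : ∀ v : Vm m F, v ≠ 0 → TG β v v) : β = 1 := by
  apply MulEquiv.ext
  intro x
  obtain ⟨A, rfl⟩ := exists_rep x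
  obtain ⟨B, hB⟩ := exists_rep (β (QuotientGroup.mk A))
  show β (QuotientGroup.mk A) = QuotientGroup.mk A
  rw [hB]
  have key : ∀ v : Vm m F, ∃ c : F, (B⁻¹ * A : Spm m F).1 *ᵥ v = c • v := by
    intro v
    by_cases hv : v = 0
    · exact ⟨1, by rw [hv, Matrix.mulVec_zero, smul_zero]⟩
    · have h1 := (h v hv).conj A B hB
      have h2 := h (A.1 *ᵥ v) (sp_mulVec_ne A hv)
      obtain ⟨d, hd, e⟩ := h2.par hm h1
      refine ⟨d⁻¹, ?_⟩
      show ((B⁻¹ : Spm m F).1 * A.1) *ᵥ v = d⁻¹ • v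
      rw [← Matrix.mulVec_mulVec]
      have e2 : A.1 *ᵥ v = d⁻¹ • (B.1 *ᵥ v) := by
        rw [e, smul_smul, inv_mul_cancel₀ hd, one_smul]
      rw [e2, Matrix.mulVec_smul, inv_mulVec_mulVec]
  rcases scalar_of_eigen hm (B⁻¹ * A) key with h1 | h1
  · have : B⁻¹ * A = 1 := Subtype.ext h1
    rw [inv_mul_eq_one] at this
    rw [this]
  · rw [eq_comm, mk_eq_iff hm]
    right
    have h2 : B.1 * (B⁻¹ * A : Spm m F).1 = A.1 := congrArg Subtype.val (mul_inv_cancel_left B A)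
    rw [← h2, h1, mul_neg, mul_one]

end Cfsg.Agent.Lib.helper13.PS
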