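import Mathlib

set_option autoImplicit false

/-!
# The pointwise stabiliser of two independent vectors in GL_4(2) has order dividing 96
-/

namespace Cfsg.Agent.Lib.helper13.A7b

open Matrix

/-- Every element of a field with two elements is `0` or `1`. -/
theorem zero_or_one {F : Type*} [Field F] [Fintype F] (hF : Fintype.card F = 2) (a : F) :
    a = 0 ∨ a = 1 := by
  by_contra h
  rw [not_or] at h
  have : 2 < Fintype.card F :=
    Fintype.two_lt_card_iff.mpr ⟨0, 1, a, zero_ne_one, Ne.symm h.1, Ne.symm h.2⟩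
  omega

/-- A group with a homomorphism to `H` whose kernel embeds in `T` has order dividing `|H| * |T|`. -/
theorem card_dvd_of_two_homs {K H T : Type*} [Group K] [Finite K] [Group H] [Finite H] [Group T]
    [Finite T] (f : K →* H) (β : f.ker →* T) (hβ : Function.Injective β) :
    Nat.card K ∣ Nat.card H * Nat.card T := by
  have h1 : Nat.card K = Nat.card f.ker * Nat.card f.range := by
    rw [← Subgroup.index_ker, Subgroup.card_mul_index]
  have h2 : Nat.card f.range ∣ Nat.card H := Subgroup.card_subgroup_dvd_card _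
  have h3 : Nat.card f.ker ∣ Nat.card T := by
    have : Nat.card f.ker = Nat.card β.range := Nat.card_congr (MonoidHom.ofInjective hβ).toEquiv
    rw [this]
    exact Subgroup.card_subgroup_dvd_card _
  rw [h1, mul_comm]
  exact Nat.mul_dvd_mul h2 h3

/-- The upper left 2 × 2 block. -/
def blkD {F : Type*} (M : Matrix (Fin 4) (Fin 4) F) : Matrix (Fin 2) (Fin 2) F :=
  !![M 0 0, M 0 1; M 1 0, M 1 1]

/-- The lower left 2 × 2 block. -/
def blkB {F : Type*} (M : Matrix (Fin 4) (Fin 4) F) : Matrix (Fin 2) (Fin 2) F :=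
  !![M 2 0, M 2 1; M 3 0, M 3 1]

/-- The last two columns are the last two standard basis vectors. -/
def Fix23 {F : Type*} [Zero F] [One F] (M : Matrix (Fin 4) (Fin 4) F) : Prop :=
  M 0 2 = 0 ∧ M 1 2 = 0 ∧ M 2 2 = 1 ∧ M 3 2 = 0 ∧ M 0 3 = 0 ∧ M 1 3 = 0 ∧ M 2 3 = 0 ∧ M 3 3 = 1

theorem blkD_one {F : Type*} [Field F] : blkD (1 : Matrix (Fin 4) (Fin 4) F) = 1 := by
  ext i j
  fin_cases i <;> fin_cases j <;> simp [blkD]

theorem blkD_mul {F : Type*} [Field F] (g h : Matrix (Fin 4) (Fin 4) F) (hg : Fix23 g) :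
    blkD (g * h) = blkD g * blkD h := by
  obtain ⟨h1, h2, h3, h4, h5, h6, h7, h8⟩ := hg
  ext i j
  fin_cases i <;> fin_cases j <;>
    simp [blkD, Matrix.mul_apply, Fin.sum_univ_four, h1, h2, h3, h4, h5, h6, h7, h8]

theorem blkB_mul {F : Type*} [Field F] (g h : Matrix (Fin 4) (Fin 4) F) (hg : Fix23 g)
    (hh : blkD h = 1) : blkB (g * h) = blkB g + blkB h := by
  obtain ⟨h1, h2, h3, h4, h5, h6, h7, h8⟩ := hg
  have e00 : h 0 0 = 1 := by simpa [blkD] using congrFun (congrFun hh 0) 0
  have e01 : h 0 1 = 0 := by simpa [blkD] using congrFun (congrFun hh 0) 1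
  have e10 : h 1 0 = 0 := by simpa [blkD] using congrFun (congrFun hh 1) 0
  have e11 : h 1 1 = 1 := by simpa [blkD] using congrFun (congrFun hh 1) 1
  ext i j
  fin_cases i <;> fin_cases j <;>
    simp [blkB, Matrix.mul_apply, Fin.sum_univ_four, h1, h2, h3, h4, h5, h6, h7, h8,
      e00, e01, e10, e11]

theorem eq_of_blocks {F : Type*} [Field F] (g h : Matrix (Fin 4) (Fin 4) F) (hg : Fix23 g)
    (hh : Fix23 h) (hD : blkD g = blkD h) (hB : blkB g = blkB h) : g = h := by
  obtain ⟨g1, g2, g3, g4, g5, g6, g7, g8⟩ := hg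
  obtain ⟨h1, h2, h3, h4, h5, h6, h7, h8⟩ := hh
  have d00 : g 0 0 = h 0 0 := by simpa [blkD] using congrFun (congrFun hD 0) 0
  have d01 : g 0 1 = h 0 1 := by simpa [blkD] using congrFun (congrFun hD 0) 1
  have d10 : g 1 0 = h 1 0 := by simpa [blkD] using congrFun (congrFun hD 1) 0
  have d11 : g 1 1 = h 1 1 := by simpa [blkD] using congrFun (congrFun hD 1) 1
  have b00 : g 2 0 = h 2 0 := by simpa [blkB] using congrFun (congrFun hB 0) 0
  have b01 : g 2 1 = h 2 1 := by simpa [blkB] using congrFun (congrFun hB 0) 1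
  have b10 : g 3 0 = h 3 0 := by simpa [blkB] using congrFun (congrFun hB 1) 0
  have b11 : g 3 1 = h 3 1 := by simpa [blkB] using congrFun (congrFun hB 1) 1
  ext i j
  fin_cases i <;> fin_cases j <;> simp [*]

/-- A subgroup of `GL_4(F)`, `|F| = 2`, all of whose elements have the last two standard basis
vectors as last two columns, has order dividing `96`. -/
theorem card_fix_std_dvd {F : Type*} [Field F] [Fintype F] (hF : Fintype.card F = 2)
    (K : Subgroup (Matrix.GeneralLinearGroup (Fin 4) F))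
    (hK : ∀ g ∈ K, Fix23 (g : Matrix (Fin 4) (Fin 4) F)) : Nat.card K ∣ 96 := by
  classical
  let ψ : K →* Matrix (Fin 2) (Fin 2) F :=
    { toFun := fun g => blkD ((g : Matrix.GeneralLinearGroup (Fin 4) F) : Matrix (Fin 4) (Fin 4) F)
      map_one' := blkD_one
      map_mul' := fun g h => blkD_mul _ _ (hK g.1 g.2) }
  let f : K →* (Matrix (Fin 2) (Fin 2) F)ˣ := ψ.toHomUnits
  have hker : ∀ g : f.ker, blkD (((g : K) : Matrix.GeneralLinearGroup (Fin 4) F) :
      Matrix (Fin 4) (Fin 4) F) = 1 := by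
    intro g
    have h1 : f (g : K) = 1 := g.2
    have h2 : ((f (g : K) : (Matrix (Fin 2) (Fin 2) F)ˣ) : Matrix (Fin 2) (Fin 2) F) = 1 := by
      rw [h1]
      rfl
    exact h2
  let β : f.ker →* Multiplicative (Matrix (Fin 2) (Fin 2) F) :=
    { toFun := fun g => Multiplicative.ofAdd
        (blkB (((g : K) : Matrix.GeneralLinearGroup (Fin 4) F) : Matrix (Fin 4) (Fin 4) F))
      map_one' := by
        show Multiplicative.ofAdd (blkB (1 : Matrix (Fin 4) (Fin 4) F)) = 1
        have : blkB (1 : Matrix (Fin 4) (Fin 4) F) = 0 := by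
          ext i j
          fin_cases i <;> fin_cases j <;> simp [blkB]
        rw [this]
        rfl
      map_mul' := fun g h => by
        show Multiplicative.ofAdd (blkB ((((g : K) : Matrix.GeneralLinearGroup (Fin 4) F) :
          Matrix (Fin 4) (Fin 4) F) * (((h : K) : Matrix.GeneralLinearGroup (Fin 4) F) :
          Matrix (Fin 4) (Fin 4) F))) = _
        rw [blkB_mul _ _ (hK (g : K).1 (g : K).2) (hker h)]
        rfl }
  have hβ : Function.Injective β := by
    intro g h hgh
    have hB : blkB (((g : K) : Matrix.GeneralLinearGroup (Fin 4) F) : Matrix (Fin 4) (Fin 4) F)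
        = blkB (((h : K) : Matrix.GeneralLinearGroup (Fin 4) F) : Matrix (Fin 4) (Fin 4) F) :=
      Multiplicative.ofAdd.injective hgh
    have hD : blkD (((g : K) : Matrix.GeneralLinearGroup (Fin 4) F) : Matrix (Fin 4) (Fin 4) F)
        = blkD (((h : K) : Matrix.GeneralLinearGroup (Fin 4) F) : Matrix (Fin 4) (Fin 4) F) := by
      rw [hker g, hker h]
    have := eq_of_blocks _ _ (hK (g : K).1 (g : K).2) (hK (h : K).1 (h : K).2) hD hB
    apply Subtype.ext
    apply Subtype.ext
    exact Units.ext this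
  have hmain := card_dvd_of_two_homs f β hβ
  have hc1 : Nat.card (Matrix (Fin 2) (Fin 2) F)ˣ = 6 := by
    have := Matrix.card_GL_field (𝔽 := F) 2
    rw [this, hF]
    decide
  have hc2 : Nat.card (Multiplicative (Matrix (Fin 2) (Fin 2) F)) = 16 := by
    have : Nat.card (Multiplicative (Matrix (Fin 2) (Fin 2) F))
        = Nat.card (Fin 2 → Fin 2 → F) := rfl
    rw [this, Nat.card_eq_fintype_card]
    simp [hF]
  rw [hc1, hc2] at hmain
  exact hmain

/-- The pointwise stabiliser in `GL_4(F)`, `|F| = 2`, of two distinct nonzero vectors has order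
dividing `96`; so has each of its subgroups. -/
theorem card_fix_pair_dvd {F : Type*} [Field F] [Fintype F] (hF : Fintype.card F = 2)
    (v w : Fin 4 → F) (hv : v ≠ 0) (hw : w ≠ 0) (hvw : v ≠ w)
    (K : Subgroup (Matrix.GeneralLinearGroup (Fin 4) F))
    (hK : ∀ g ∈ K, (g : Matrix (Fin 4) (Fin 4) F).mulVec v = v ∧
      (g : Matrix (Fin 4) (Fin 4) F).mulVec w = w) : Nat.card K ∣ 96 := by
  classical
  have h01 := zero_or_one hF
  have h2 : (1 : F) + 1 = 0 := by
    rcases h01 (1 + 1) with h | h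
    · exact h
    · exfalso
      exact one_ne_zero (α := F) (by linear_combination h)
  have hli : LinearIndependent F ![v, w] := by
    rw [LinearIndependent.pair_iff]
    intro s t hst
    rcases h01 s with rfl | rfl <;> rcases h01 t with rfl | rfl
    · exact ⟨rfl, rfl⟩
    · exfalso
      apply hw
      simpa using hst
    · exfalso
      apply hv
      simpa using hst
    · exfalso
      apply hvw
      funext i
      have h1 : v i + w i = 0 := by
        have := congrFun hst i
        simpa using this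
      have h3 : w i + w i = 0 := by linear_combination (w i) * h2
      linear_combination h1 - h3
  have hfr : Module.finrank F (Fin 4 → F) = 4 := by simp
  obtain ⟨x, hx⟩ := exists_linearIndependent_cons_of_lt_finrank hli (by rw [hfr]; norm_num)
  obtain ⟨y, hy⟩ := exists_linearIndependent_cons_of_lt_finrank hx (by rw [hfr]; norm_num)
  let b : Fin 4 → (Fin 4 → F) := Fin.cons y (Fin.cons x ![v, w])
  have hb2 : b 2 = v := rfl
  have hb3 : b 3 = w := rfl
  let A : Matrix (Fin 4) (Fin 4) F := Matrix.of (fun i j => b j i)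
  have hA : IsUnit A := by
    rw [← Matrix.linearIndependent_cols_iff_isUnit]
    exact hy
  obtain ⟨Au, hAu⟩ := hA
  have hAv : A.mulVec (Pi.single 2 1) = v := by
    rw [Matrix.mulVec_single_one]
    exact hb2
  have hAw : A.mulVec (Pi.single 3 1) = w := by
    rw [Matrix.mulVec_single_one]
    exact hb3
  let c : Matrix.GeneralLinearGroup (Fin 4) F →* Matrix.GeneralLinearGroup (Fin 4) F :=
    (MulAut.conj Au⁻¹).toMonoidHom
  have hcard : Nat.card (K.map c) = Nat.card K :=
    (Nat.card_congr (K.equivMapOfInjective c (MulAut.conj Au⁻¹).injective).toEquiv).symm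
  rw [← hcard]
  apply card_fix_std_dvd hF
  rintro _ ⟨g, hg, rfl⟩
  have hg' := hK g hg
  have hcg : ((c g : Matrix.GeneralLinearGroup (Fin 4) F) : Matrix (Fin 4) (Fin 4) F)
      = ((Au⁻¹ : Matrix.GeneralLinearGroup (Fin 4) F) : Matrix (Fin 4) (Fin 4) F)
        * (g : Matrix (Fin 4) (Fin 4) F) * A := by
    show ((Au⁻¹ * g * Au⁻¹⁻¹ : Matrix.GeneralLinearGroup (Fin 4) F) :
      Matrix (Fin 4) (Fin 4) F) = _
    rw [inv_inv, Units.val_mul, Units.val_mul, hAu]
  have hinv : ((Au⁻¹ : Matrix.GeneralLinearGroup (Fin 4) F) : Matrix (Fin 4) (Fin 4) F) * A = 1 := by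
    rw [← hAu, ← Units.val_mul, inv_mul_cancel, Units.val_one]
  have key : ∀ (u : Fin 4 → F) (j : Fin 4), (g : Matrix (Fin 4) (Fin 4) F).mulVec u = u →
      A.mulVec (Pi.single j 1) = u →
      ((c g : Matrix.GeneralLinearGroup (Fin 4) F) : Matrix (Fin 4) (Fin 4) F).mulVec
        (Pi.single j 1) = Pi.single j 1 := by
    intro u j hgu hAu'
    rw [hcg, ← Matrix.mulVec_mulVec, hAu', ← Matrix.mulVec_mulVec, hgu]
    conv_lhs => rw [← hAu']
    rw [Matrix.mulVec_mulVec, hinv, Matrix.one_mulVec]
  have k2 := key v 2 hg'.1 hAv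
  have k3 := key w 3 hg'.2 hAw
  have e : ∀ (M : Matrix (Fin 4) (Fin 4) F) (j : Fin 4),
      M.mulVec (Pi.single j 1) = Pi.single j 1 → ∀ i, M i j = if i = j then 1 else 0 := by
    intro M j hM i
    have := congrFun hM i
    rw [Matrix.mulVec_single_one] at this
    simpa [Pi.single_apply] using this
  exact ⟨by simpa using e _ 2 k2 0, by simpa using e _ 2 k2 1, by simpa using e _ 2 k2 2,
    by simpa using e _ 2 k2 3, by simpa using e _ 3 k3 0, by simpa using e _ 3 k3 1,
    by simpa using e _ 3 k3 2, by simpa using e _ 3 k3 3⟩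

end Cfsg.Agent.Lib.helper13.A7b
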