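import Mathlib
import Cfsg.Agent.Lib.helper13.E27c

set_option autoImplicit false

/-!
# Quadratic relations and eigenvectors for 3 × 3 matrices of determinant 1 with scalar square or cube
-/

namespace Cfsg.Agent.Lib.helper13.E27

open Matrix Polynomial

variable {F : Type*} [Field F]

/-- A root of the characteristic polynomial has an eigenvector. -/
theorem exists_eig_of_root {n : ℕ} (M : Matrix (Fin n) (Fin n) F) (μ : F)
    (h : M.charpoly.eval μ = 0) : ∃ v : Fin n → F, v ≠ 0 ∧ M *ᵥ v = μ • v := by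
  rw [Matrix.eval_charpoly] at h
  obtain ⟨v, hv0, hv⟩ := Matrix.exists_mulVec_eq_zero_iff.mpr h
  refine ⟨v, hv0, ?_⟩
  rw [sub_mulVec] at hv
  have h1 : Matrix.scalar (Fin n) μ *ᵥ v = μ • v := by
    funext i
    simp [Matrix.scalar, Matrix.mulVec, dotProduct, Matrix.diagonal_apply]
  rw [h1] at hv
  exact (sub_eq_zero.mp hv).symm

/-- Non-scalar, determinant 1, scalar square: `(M - c)(M + c) = 0` with `c^3 = 1`, `z = c^2`. -/
theorem quad_of_sq (M : Matrix (Fin 3) (Fin 3) F) (hdet : M.det = 1) (z : F)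
    (hM : M ^ 2 = z • (1 : Matrix (Fin 3) (Fin 3) F)) (hns : ∀ c : F, M ≠ c • 1) :
    ∃ c : F, c ^ 3 = 1 ∧ z = c ^ 2 ∧
      (M - c • (1 : Matrix (Fin 3) (Fin 3) F)) * (M - (-c) • (1 : Matrix (Fin 3) (Fin 3) F)) = 0 ∧
      M.det = c * (-c) ^ 2 := by
  obtain ⟨c, hc3, hzc, -⟩ := charpoly_of_sq M hdet z hM hns
  refine ⟨c, hc3, hzc, ?_, ?_⟩
  · simp only [sub_mul, mul_sub, Matrix.mul_smul, Matrix.smul_mul, mul_one, one_mul]
    rw [← pow_two, hM, hzc, smul_smul, neg_smul, neg_mul, neg_smul, ← pow_two]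
    abel
  · rw [hdet]
    linear_combination -hc3

/-- Non-scalar, determinant 1, scalar cube `z`: either `z = 1` and the characteristic polynomial is
`X^3 - 1`, or `(M - l^7)(M - l) = 0` with `l` of order 9, `z = l^3` (simple eigenvalue `l^7`). -/
theorem quad_of_cube (M : Matrix (Fin 3) (Fin 3) F) (hdet : M.det = 1) (z : F)
    (hM : M ^ 3 = z • (1 : Matrix (Fin 3) (Fin 3) F)) (hns : ∀ c : F, M ≠ c • 1) :
    (z = 1 ∧ M.charpoly = X ^ 3 - C 1) ∨
    ∃ l : F, l ^ 9 = 1 ∧ l ^ 3 ≠ 1 ∧ z = l ^ 3 ∧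
      (M - (l ^ 7) • (1 : Matrix (Fin 3) (Fin 3) F)) * (M - l • (1 : Matrix (Fin 3) (Fin 3) F)) = 0 ∧
      M.det = l ^ 7 * l ^ 2 := by
  have hz3 : z ^ 3 = 1 := by
    have h := congrArg Matrix.det hM
    rw [det_pow, hdet, one_pow, det_smul, det_one, Fintype.card_fin, mul_one] at h
    exact h.symm
  have hz0 : z ≠ 0 := by
    rintro rfl
    simp at hz3
  obtain ⟨a, b, hcp, hch⟩ := Cfsg.Agent.Lib.helper13.SF.cp3 M
  rw [hdet] at hch hcp
  rw [hM] at hch
  by_cases ha : a = 0
  · left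
    subst ha
    rw [zero_smul, add_zero] at hch
    have h1 : b • M = (1 - z) • (1 : Matrix (Fin 3) (Fin 3) F) := by
      rw [sub_smul, ← sub_eq_zero, ← hch]
      abel
    have hb : b = 0 := by
      by_contra hb
      apply hns ((1 - z) / b)
      rw [div_eq_inv_mul, mul_smul, ← h1, smul_smul, inv_mul_cancel₀ hb, one_smul]
    rw [hb, zero_smul] at h1
    have hz1 : z = 1 := by
      have h4 := congrFun (congrFun h1 0) 0
      simp only [Matrix.smul_apply, Matrix.one_apply_eq, smul_eq_mul, mul_one,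
        Matrix.zero_apply] at h4
      linear_combination h4
    refine ⟨hz1, ?_⟩
    rw [hcp, hb]
    simp
  · right
    obtain ⟨s, hs⟩ : ∃ s : F, s = -b / a := ⟨_, rfl⟩
    obtain ⟨d, hd⟩ : ∃ d : F, d = (1 - z) / a := ⟨_, rfl⟩
    have R2 : a * d = 1 - z := by rw [hd]; field_simp
    have h2 : M ^ 2 = s • M + d • (1 : Matrix (Fin 3) (Fin 3) F) := by
      have h1 : a • M ^ 2 = (-b) • M + (1 - z) • (1 : Matrix (Fin 3) (Fin 3) F) := by
        rw [neg_smul, sub_smul, ← sub_eq_zero, ← hch]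
        abel
      have h3 : M ^ 2 = a⁻¹ • (a • M ^ 2) := by rw [smul_smul, inv_mul_cancel₀ ha, one_smul]
      rw [h3, h1, smul_add, smul_smul, smul_smul, hs, hd]
      congr 2 <;> field_simp
    have e1 : M ^ 3 = (s * s + d) • M + (s * d) • (1 : Matrix (Fin 3) (Fin 3) F) := by
      rw [pow_succ, h2, add_mul, smul_mul_assoc, smul_mul_assoc, one_mul, ← pow_two, h2,
        smul_add, smul_smul, smul_smul, add_smul]
      abel
    rw [hM] at e1
    have e2 : s * s + d = 0 := by
      by_contra hne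
      apply hns ((z - s * d) / (s * s + d))
      have h4 : (s * s + d) • M = (z - s * d) • (1 : Matrix (Fin 3) (Fin 3) F) := by
        rw [sub_smul, e1]
        abel
      rw [div_eq_inv_mul, mul_smul, ← h4, smul_smul, inv_mul_cancel₀ hne, one_smul]
    rw [e2, zero_smul, zero_add] at e1
    have R4 : z = s * d := by
      have h4 := congrFun (congrFun e1 0) 0
      simpa using h4
    have hs0 : s ≠ 0 := by
      rintro rfl
      rw [zero_mul] at R4
      exact hz0 R4
    have hz1 : z ≠ 1 := by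
      intro h1
      rw [h1, sub_self] at R2
      rcases mul_eq_zero.mp R2 with h | h
      · exact ha h
      · rw [h, mul_zero] at R4
        exact hz0 R4
    have R5 : z ^ 2 + z + 1 = 0 := by
      have h : (z - 1) * (z ^ 2 + z + 1) = 0 := by linear_combination hz3
      rcases mul_eq_zero.mp h with h | h
      · exact absurd (sub_eq_zero.mp h) hz1
      · exact h
    obtain ⟨l, hl'⟩ : ∃ l : F, l = (s ^ 2)⁻¹ := ⟨_, rfl⟩
    have hl : l * s ^ 2 = 1 := by rw [hl']; exact inv_mul_cancel₀ (pow_ne_zero 2 hs0)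
    have hs3 : s ^ 3 = -z := by linear_combination R4 + s * e2
    have hl3 : l ^ 3 = z := by
      have h1 : l ^ 3 * s ^ 6 = 1 := by
        have : l ^ 3 * s ^ 6 = (l * s ^ 2) ^ 3 := by ring
        rw [this, hl, one_pow]
      have h2' : z * s ^ 6 = 1 := by
        have : z * s ^ 6 = z * (s ^ 3) ^ 2 := by ring
        rw [this, hs3]
        linear_combination hz3
      have h6 : s ^ 6 ≠ 0 := pow_ne_zero 6 hs0
      exact mul_right_cancel₀ h6 (h1.trans h2'.symm)
    have hl9 : l ^ 9 = 1 := by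
      have : l ^ 9 = (l ^ 3) ^ 3 := by ring
      rw [this, hl3, hz3]
    have hl7 : l ^ 7 = l * z ^ 2 := by linear_combination l * (l ^ 3 + z) * hl3
    have hl8 : l ^ 8 = l ^ 2 * z ^ 2 := by linear_combination l ^ 2 * (l ^ 3 + z) * hl3
    have hs1 : s = -(l * z) := by linear_combination (-s) * hl + l * hs3
    have hsum : l + l ^ 7 = s := by linear_combination hl7 - hs1 + l * R5
    have hd' : d = -(l * l ^ 7) := by linear_combination e2 + hl8 - (s - l * z) * hs1
    refine ⟨l, hl9, by rw [hl3]; exact hz1, hl3.symm, ?_, ?_⟩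
    · simp only [sub_mul, mul_sub, Matrix.mul_smul, Matrix.smul_mul, mul_one, one_mul]
      rw [← pow_two, h2, ← hsum, hd', add_smul, neg_smul, mul_smul]
      abel
    · rw [hdet]
      linear_combination -hl9

end Cfsg.Agent.Lib.helper13.E27
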