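import Mathlib
import Cfsg.Prelude.Def_LieTypeDatum
import Cfsg.Agent.Lib.helper13.PSpBasic
import Cfsg.Agent.Lib.helper13.PSL2Aut
import Cfsg.Agent.Lib.helper4.SpTorus

set_option autoImplicit false
set_option linter.unusedSectionVars false
set_option linter.unusedVariables false
set_option linter.style.longLine false

namespace Cfsg.Agent.Lib.helper13.PS

open Matrix
open Cfsg.Agent.S0766 Cfsg.Agent.S0765 Cfsg.Agent.Lib.helper4

variable {F : Type*} [Field F] {m : ℕ}

/-- standard basis vector -/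
def bv (k : Fin m ⊕ Fin m) : Vm m F := Pi.single k 1

theorem bv_apply (k l : Fin m ⊕ Fin m) : (bv k : Vm m F) l = if l = k then 1 else 0 := by
  unfold bv
  rw [Pi.single_apply]

theorem bv_self (k : Fin m ⊕ Fin m) : (bv k : Vm m F) k = 1 := by
  rw [bv_apply, if_pos rfl]

theorem bv_ne (k : Fin m ⊕ Fin m) : (bv k : Vm m F) ≠ 0 := by
  intro h
  have := congrFun h k
  rw [bv_self] at this
  exact one_ne_zero this

theorem sf_e (x : Vm m F) (i : Fin m) :
    Cfsg.sympForm m F x (bv (Sum.inl i)) = x (Sum.inr i) := sf_e_right x i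

theorem sf_f (x : Vm m F) (i : Fin m) :
    Cfsg.sympForm m F x (bv (Sum.inr i)) = - x (Sum.inl i) := sf_f_right x i

theorem sf_e' (x : Vm m F) (i : Fin m) :
    Cfsg.sympForm m F (bv (Sum.inl i)) x = - x (Sum.inr i) := by rw [sf_anti, sf_e]

theorem sf_f' (x : Vm m F) (i : Fin m) :
    Cfsg.sympForm m F (bv (Sum.inr i)) x = x (Sum.inl i) := by rw [sf_anti, sf_f, neg_neg]

theorem cols_mem (u : Fin m ⊕ Fin m → Vm m F)
    (h : ∀ k l, Cfsg.sympForm m F (u k) (u l) = Cfsg.sympForm m F (bv k) (bv l)) :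
    (Matrix.of fun i k => u k i) ∈ Matrix.symplecticGroup (Fin m) F := by
  rw [SymplecticGroup.mem_iff']
  ext a b
  rw [Cfsg.Agent.S0776.gram_apply, ← sf_single]
  exact h a b

theorem cols_mulVec (u : Fin m ⊕ Fin m → Vm m F) (k : Fin m ⊕ Fin m) :
    (Matrix.of fun i k => u k i) *ᵥ (bv k : Vm m F) = u k := by
  ext i
  unfold bv
  rw [Matrix.mulVec_single_one]
  rfl

/-- a symplectic matrix as a similitude -/
def spToGSp (A : Spm m F) : ↥(Cfsg.GSp m F) :=
  ⟨⟨A.1, (A⁻¹ : Spm m F).1, val_mul_inv A, inv_val_mul A⟩,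
    ⟨1, fun u v => by rw [Units.val_one, one_mul]; exact sp_pres A u v⟩⟩

theorem spToGSp_coe (A : Spm m F) : (((spToGSp A : ↥(Cfsg.GSp m F)) : GLm m F) : Mm m F) = A.1 := rfl

theorem frame_norm (hm : 1 ≤ m) (α : MulAut (Cfsg.PSp m F))
    (hG : ∀ v : Vm m F, v ≠ 0 → ∃ w, TG α v w) :
    ∃ A : Spm m F, ∀ k, TG α (bv k) (A.1 *ᵥ bv k) := by
  classical
  choose! u hu using hG
  have hu' : ∀ k, TG α (bv k) (u (bv k)) := fun k => hu _ (bv_ne k)
  have hp : ∀ k l, Cfsg.sympForm m F (bv k : Vm m F) (bv l) = 0 →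
      Cfsg.sympForm m F (u (bv k)) (u (bv l)) = 0 := fun k l h =>
    (TG.perp hm (hu' k) (hu' l)).1 h
  have hc : ∀ i, Cfsg.sympForm m F (u (bv (Sum.inr i))) (u (bv (Sum.inl i))) ≠ 0 := by
    intro i h
    have h1 := (TG.perp hm (hu' (Sum.inr i)) (hu' (Sum.inl i))).2 h
    rw [sf_e, bv_self] at h1
    exact one_ne_zero h1
  let u' : Fin m ⊕ Fin m → Vm m F := fun k =>
    Sum.elim (fun i => u (bv (Sum.inl i)))
      (fun i => (Cfsg.sympForm m F (u (bv (Sum.inr i))) (u (bv (Sum.inl i))))⁻¹ • u (bv (Sum.inr i))) k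
  have h1 : ∀ k l, Cfsg.sympForm m F (u' k) (u' l) = Cfsg.sympForm m F (bv k : Vm m F) (bv l) := by
    intro k l
    rcases k with i | i <;> rcases l with j | j
    · show Cfsg.sympForm m F (u (bv (Sum.inl i))) (u (bv (Sum.inl j))) = _
      have h0 : Cfsg.sympForm m F (bv (Sum.inl i) : Vm m F) (bv (Sum.inl j)) = 0 := by
        rw [sf_e, bv_apply, if_neg (by simp)]
      rw [h0, hp _ _ h0]
    · show Cfsg.sympForm m F (u (bv (Sum.inl i))) (_ • u (bv (Sum.inr j))) = _
      rw [sf_smul_right]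
      by_cases hij : i = j
      · subst hij
        rw [sf_f, bv_self, sf_anti (u (bv (Sum.inl i))), mul_neg, inv_mul_cancel₀ (hc i)]
      · have h0 : Cfsg.sympForm m F (bv (Sum.inl i) : Vm m F) (bv (Sum.inr j)) = 0 := by
          rw [sf_f, bv_apply, if_neg (by simpa using Ne.symm hij), neg_zero]
        rw [h0, hp _ _ h0, mul_zero]
    · show Cfsg.sympForm m F (_ • u (bv (Sum.inr i))) (u (bv (Sum.inl j))) = _
      rw [sf_smul_left]
      by_cases hij : i = j
      · subst hij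
        rw [sf_e, bv_self, inv_mul_cancel₀ (hc i)]
      · have h0 : Cfsg.sympForm m F (bv (Sum.inr i) : Vm m F) (bv (Sum.inl j)) = 0 := by
          rw [sf_e, bv_apply, if_neg (by simpa using Ne.symm hij)]
        rw [h0, hp _ _ h0, mul_zero]
    · show Cfsg.sympForm m F (_ • u (bv (Sum.inr i))) (_ • u (bv (Sum.inr j))) = _
      have h0 : Cfsg.sympForm m F (bv (Sum.inr i) : Vm m F) (bv (Sum.inr j)) = 0 := by
        rw [sf_f, bv_apply, if_neg (by simp), neg_zero]
      rw [sf_smul_left, sf_smul_right, h0, hp _ _ h0, mul_zero, mul_zero]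
  refine ⟨⟨Matrix.of fun i k => u' k i, cols_mem u' h1⟩, fun k => ?_⟩
  show TG α (bv k) ((Matrix.of fun i k => u' k i) *ᵥ bv k)
  rw [cols_mulVec]
  rcases k with i | i
  · exact hu' _
  · exact (hu' _).of_smul (inv_ne_zero (hc i))

theorem TG_conjSp (A : Spm m F) {v : Vm m F} (hv : v ≠ 0) :
    TG (conjAut (spToGSp A)) v (A.1 *ᵥ v) := TG_conjAut (spToGSp A) hv

/-- the vector `Σ_{i ∈ I} e_i` -/
def es (I : Finset (Fin m)) : Vm m F :=
  fun k => Sum.elim (fun i => if i ∈ I then (1 : F) else 0) (fun _ => 0) k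

theorem es_inl (I : Finset (Fin m)) (i : Fin m) :
    (es I : Vm m F) (Sum.inl i) = if i ∈ I then 1 else 0 := rfl

theorem es_inr (I : Finset (Fin m)) (i : Fin m) : (es I : Vm m F) (Sum.inr i) = 0 := rfl

theorem es_univ_ne (hm : 1 ≤ m) : (es Finset.univ : Vm m F) ≠ 0 := by
  intro h
  have := congrFun h (Sum.inl ⟨0, hm⟩)
  rw [es_inl, if_pos (Finset.mem_univ _)] at this
  exact one_ne_zero this

/-- rigidity on a hyperbolic pair -/
theorem pair_rigid [Fintype F] (hm : 1 ≤ m) (β : MulAut (Cfsg.PSp m F)) (e f : Vm m F)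
    (hfe : Cfsg.sympForm m F f e = 1) (he : TG β e e) (hf : TG β f f) :
    ∃ (c : F) (τ : F ≃+* F), c ≠ 0 ∧ (∀ a, β (tvb e a) = tvb e (c * τ a)) ∧
      (∀ a, β (tvb f a) = tvb f (τ a / c)) := by
  classical
  have he0 : e ≠ 0 := he.1
  have hf0 : f ≠ 0 := hf.1
  have hef : Cfsg.sympForm m F e f = -1 := by rw [sf_anti, hfe]
  choose lam hlam using he.elt
  choose mu hmu using hf.elt
  have lam_add : ∀ x y, lam (x + y) = lam x + lam y := by
    intro x y
    apply tvb_inj hm he0
    rw [← hlam, tvb_add, map_mul, hlam, hlam, ← tvb_add]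
  have lam_inj : ∀ x y, lam x = lam y → x = y := by
    intro x y h
    apply tvb_inj hm he0
    apply β.injective
    rw [hlam, hlam, h]
  have lam_zero : lam 0 = 0 := by
    have := lam_add 0 0
    rw [add_zero] at this
    linear_combination -this
  have mu_add : ∀ x y, mu (x + y) = mu x + mu y := by
    intro x y
    apply tvb_inj hm hf0
    rw [← hmu, tvb_add, map_mul, hmu, hmu, ← tvb_add]
  have mu_zero : mu 0 = 0 := by
    have := mu_add 0 0
    rw [add_zero] at this
    linear_combination -this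
  have mu_neg : ∀ x, mu (-x) = - mu x := by
    intro x
    have := mu_add x (-x)
    rw [add_neg_cancel, mu_zero] at this
    linear_combination -this
  have lam_ne : ∀ x, x ≠ 0 → lam x ≠ 0 := fun x hx h => hx (lam_inj x 0 (h.trans lam_zero.symm))
  have key : ∀ a b : F, Cfsg.sympForm m F ((tv e a).1 *ᵥ f) ((tv f b).1 *ᵥ e) = 1 + a * b := by
    intro a b
    rw [tv_mulVec, tv_mulVec, sf_add_left, sf_add_right, sf_add_right, sf_smul_left, sf_smul_left,
      sf_smul_right, sf_smul_right, sf_self, sf_self, hfe, hef]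
    ring
  have R1 : ∀ x, x ≠ 0 → lam x * mu x⁻¹ = 1 := by
    intro x hx
    have h1 := hf.conj (tv e x) (tv e (lam x)) (hlam x)
    have h2 := he.conj (tv f (-x⁻¹)) (tv f (mu (-x⁻¹))) (hmu (-x⁻¹))
    have h3 := (TG.perp hm h1 h2).1 (by rw [key]; field_simp; ring)
    rw [key, mu_neg] at h3
    linear_combination -h3
  have hNf : ∀ a b : F, a * b = 1 → (tv e a * tv f b * tv e a : Spm m F).1 *ᵥ f = a • e := by
    intro a b hab
    show ((tv e a).1 * (tv f b).1 * (tv e a).1) *ᵥ f = a • e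
    have s1 : (tv e a).1 *ᵥ f = f + a • e := by rw [tv_mulVec, hfe, mul_one]
    have s2 : (tv f b).1 *ᵥ (f + a • e) = a • e := by
      rw [tv_mulVec, sf_add_left, sf_smul_left, sf_self, hef, zero_add]
      have : b * (a * -1) = -1 := by linear_combination -hab
      rw [this]
      module
    have s3 : (tv e a).1 *ᵥ (a • e) = a • e := by
      rw [tv_mulVec, sf_smul_left, sf_self, mul_zero, mul_zero, zero_smul, add_zero]
    rw [← Matrix.mulVec_mulVec, ← Matrix.mulVec_mulVec, s1, s2, s3]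
  have R4 : ∀ x, x ≠ 0 → ∀ t, lam (x * x * t) = lam x * lam x * mu t := by
    intro x hx t
    apply tvb_inj hm he0
    have hN : β (QuotientGroup.mk (tv e x * tv f x⁻¹ * tv e x)) =
        QuotientGroup.mk (tv e (lam x) * tv f (mu x⁻¹) * tv e (lam x)) := by
      rw [QuotientGroup.mk_mul, QuotientGroup.mk_mul, map_mul, map_mul]
      have h1 := hlam x
      have h2 := hmu x⁻¹
      unfold tvb at h1 h2
      rw [h1, h2]
      rfl
    have e1 : tvb e (x * x * t) = (QuotientGroup.mk (tv e x * tv f x⁻¹ * tv e x) : Cfsg.PSp m F) *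
        tvb f t * (QuotientGroup.mk (tv e x * tv f x⁻¹ * tv e x))⁻¹ := by
      rw [conj_tvb, hNf x x⁻¹ (mul_inv_cancel₀ hx)]
      show (QuotientGroup.mk (tv e (x * x * t)) : Cfsg.PSp m F) = QuotientGroup.mk (tv (x • e) t)
      rw [tv_smul]
    rw [← hlam, e1, map_mul, map_mul, map_inv, hN, hmu, conj_tvb, hNf _ _ (R1 x hx)]
    show (QuotientGroup.mk (tv (lam x • e) (mu t)) : Cfsg.PSp m F) = QuotientGroup.mk (tv e _)
    rw [tv_smul]
  have hc : lam 1 ≠ 0 := lam_ne 1 one_ne_zero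
  have hmu_eq : ∀ t, mu t = lam t / (lam 1 * lam 1) := by
    intro t
    have := R4 1 one_ne_zero t
    rw [one_mul, one_mul] at this
    rw [this]
    field_simp
  let τf : F → F := fun x => lam x / lam 1
  have τ_one : τf 1 = 1 := div_self hc
  have τ_add : ∀ x y, τf (x + y) = τf x + τf y := by
    intro x y
    show lam (x + y) / lam 1 = lam x / lam 1 + lam y / lam 1
    rw [lam_add, add_div]
  have τ_zero : τf 0 = 0 := by
    show lam 0 / lam 1 = 0
    rw [lam_zero, zero_div]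
  have τ_sq_mul : ∀ x t, τf (x ^ 2 * t) = τf x ^ 2 * τf t := by
    intro x t
    by_cases hx : x = 0
    · subst hx
      rw [τ_zero]
      simp only [ne_eq, OfNat.ofNat_ne_zero, not_false_eq_true, zero_pow, zero_mul]
      exact τ_zero
    · show lam (x ^ 2 * t) / lam 1 = (lam x / lam 1) ^ 2 * (lam t / lam 1)
      rw [pow_two, R4 x hx t, hmu_eq]
      field_simp
  have τ_sq : ∀ x, τf (x ^ 2) = τf x ^ 2 := by
    intro x
    have := τ_sq_mul x 1
    rwa [mul_one, τ_one, mul_one] at this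
  have τ_mul : ∀ y t, τf (y * t) = τf y * τf t := by
    intro y t
    obtain ⟨a, b, hab⟩ := PSL2Aut.sum_two_sq y
    rw [← hab, add_mul, τ_add, τ_sq_mul, τ_sq_mul, τ_add, τ_sq, τ_sq]
    ring
  let τh : F →+* F :=
    { toFun := τf, map_one' := τ_one, map_mul' := τ_mul, map_zero' := τ_zero, map_add' := τ_add }
  have τ_inj : Function.Injective τh := τh.injective
  have τ_bij : Function.Bijective τh := ⟨τ_inj, Finite.injective_iff_surjective.mp τ_inj⟩
  let τ : F ≃+* F := RingEquiv.ofBijective τh τ_bij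
  have hτ : ∀ x, τ x = lam x / lam 1 := fun x => rfl
  refine ⟨lam 1, τ, hc, fun a => ?_, fun a => ?_⟩
  · rw [hlam, hτ, mul_div_cancel₀ _ hc]
  · rw [hmu, hmu_eq, hτ, div_div]

/-- the diagonal similitude with multiplier `c` -/
def dc (c : F) (hc : c ≠ 0) : ↥(Cfsg.GSp m F) :=
  ⟨⟨Matrix.diagonal (Sum.elim (fun _ => c) (fun _ => 1)),
      Matrix.diagonal (Sum.elim (fun _ => c⁻¹) (fun _ => 1)), by
      rw [Matrix.diagonal_mul_diagonal, ← Matrix.diagonal_one]
      congr 1
      funext k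
      rcases k with i | i <;> simp [hc], by
      rw [Matrix.diagonal_mul_diagonal, ← Matrix.diagonal_one]
      congr 1
      funext k
      rcases k with i | i <;> simp [hc]⟩,
    ⟨Units.mk0 c hc, fun u v => by
      show Cfsg.sympForm m F (Matrix.diagonal (Sum.elim (fun _ => c) (fun _ => 1)) *ᵥ u)
        (Matrix.diagonal (Sum.elim (fun _ => c) (fun _ => 1)) *ᵥ v) = c * Cfsg.sympForm m F u v
      rw [symp_eq, symp_eq, Finset.mul_sum]
      apply Finset.sum_congr rfl
      intro i _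
      rw [Matrix.mulVec_diagonal, Matrix.mulVec_diagonal, Matrix.mulVec_diagonal,
        Matrix.mulVec_diagonal]
      simp only [Sum.elim_inl, Sum.elim_inr]
      ring⟩⟩

theorem dc_coe (c : F) (hc : c ≠ 0) : (((dc c hc : ↥(Cfsg.GSp m F)) : GLm m F) : Mm m F) =
    Matrix.diagonal (Sum.elim (fun _ => c) (fun _ => 1)) := rfl

theorem dc_spec (c : F) (hc : c ≠ 0) (u v : Vm m F) :
    Cfsg.sympForm m F ((((dc c hc : ↥(Cfsg.GSp m F)) : GLm m F) : Mm m F) *ᵥ u)
      ((((dc c hc : ↥(Cfsg.GSp m F)) : GLm m F) : Mm m F) *ᵥ v) = c * Cfsg.sympForm m F u v := by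
  rw [dc_coe, symp_eq, symp_eq, Finset.mul_sum]
  apply Finset.sum_congr rfl
  intro i _
  rw [Matrix.mulVec_diagonal, Matrix.mulVec_diagonal, Matrix.mulVec_diagonal,
    Matrix.mulVec_diagonal]
  simp only [Sum.elim_inl, Sum.elim_inr]
  ring

theorem conjAut_dc_tvb (c : F) (hc : c ≠ 0) (v : Vm m F) (a : F) :
    conjAut (dc c hc) (tvb v a) =
      tvb ((((dc c hc : ↥(Cfsg.GSp m F)) : GLm m F) : Mm m F) *ᵥ v) (a / c) := by
  show conjAut _ (QuotientGroup.mk (tv v a)) = QuotientGroup.mk (tv _ _)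
  rw [conjAut_mk, conjSp_tv (dc c hc) c hc (dc_spec c hc)]

theorem dc_bv_inl (c : F) (hc : c ≠ 0) (i : Fin m) :
    (((dc c hc : ↥(Cfsg.GSp m F)) : GLm m F) : Mm m F) *ᵥ (bv (Sum.inl i) : Vm m F) =
      c • bv (Sum.inl i) := by
  ext k
  rw [dc_coe, Matrix.mulVec_diagonal, Pi.smul_apply, smul_eq_mul, bv_apply]
  rcases k with j | j
  · simp
  · simp

theorem dc_bv_inr (c : F) (hc : c ≠ 0) (i : Fin m) :
    (((dc c hc : ↥(Cfsg.GSp m F)) : GLm m F) : Mm m F) *ᵥ (bv (Sum.inr i) : Vm m F) =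
      bv (Sum.inr i) := by
  ext k
  rw [dc_coe, Matrix.mulVec_diagonal, bv_apply]
  rcases k with j | j
  · simp
  · simp

theorem dc_es (c : F) (hc : c ≠ 0) (I : Finset (Fin m)) :
    (((dc c hc : ↥(Cfsg.GSp m F)) : GLm m F) : Mm m F) *ᵥ (es I : Vm m F) = c • es I := by
  ext k
  rw [dc_coe, Matrix.mulVec_diagonal, Pi.smul_apply, smul_eq_mul]
  rcases k with j | j
  · simp
  · simp [es_inr]

theorem map_bv (τ : F ≃+* F) (k : Fin m ⊕ Fin m) :
    (fun i => τ ((bv k : Vm m F) i)) = bv k := by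
  funext i
  rw [bv_apply]
  split_ifs <;> simp

theorem map_es (τ : F ≃+* F) (I : Finset (Fin m)) :
    (fun i => τ ((es I : Vm m F) i)) = es I := by
  funext k
  rcases k with i | i
  · rw [es_inl]
    split_ifs <;> simp
  · rw [es_inr, map_zero]

theorem sf_es_univ (x : Vm m F) :
    Cfsg.sympForm m F x (es Finset.univ) = ∑ i, x (Sum.inr i) := by
  rw [symp_eq]
  apply Finset.sum_congr rfl
  intro i _
  rw [es_inl, es_inr, if_pos (Finset.mem_univ _)]
  ring

theorem link (hm : 1 ≤ m) (β : MulAut (Cfsg.PSp m F))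
    (hs : TG β (es Finset.univ) (es Finset.univ)) (mu : Fin m → F → F)
    (hmu : ∀ i a, β (tvb (bv (Sum.inr i)) a) = tvb (bv (Sum.inr i)) (mu i a))
    (i j : Fin m) (a : F) : mu i a = mu j a := by
  have e1 : ∀ (i : Fin m) (a : F), (tv (bv (Sum.inr i)) a).1 *ᵥ (es Finset.univ : Vm m F) =
      es Finset.univ + (-a) • bv (Sum.inr i) := by
    intro i a
    rw [tv_mulVec, sf_f, es_inl, if_pos (Finset.mem_univ _), mul_neg, mul_one]
  have key : ∀ (i j : Fin m) (a b : F),
      Cfsg.sympForm m F ((tv (bv (Sum.inr i)) a).1 *ᵥ (es Finset.univ : Vm m F))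
        ((tv (bv (Sum.inr j)) b).1 *ᵥ (es Finset.univ : Vm m F)) = b - a := by
    intro i j a b
    rw [e1, e1]
    simp only [sf_add_left, sf_add_right, sf_smul_left, sf_smul_right, sf_self, sf_f, sf_f', es_inl,
      Finset.mem_univ, if_true, bv_apply, reduceCtorEq, if_false, Pi.add_apply, Pi.smul_apply,
      smul_eq_mul]
    ring
  have h1 := hs.conj (tv (bv (Sum.inr i)) a) (tv (bv (Sum.inr i)) (mu i a)) (hmu i a)
  have h2 := hs.conj (tv (bv (Sum.inr j)) a) (tv (bv (Sum.inr j)) (mu j a)) (hmu j a)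
  have h3 := (TG.perp hm h1 h2).1 (by rw [key]; ring)
  rw [key] at h3
  linear_combination -h3

theorem fix_all (hm : 1 ≤ m) (β : MulAut (Cfsg.PSp m F))
    (hfix : ∀ (k : Fin m ⊕ Fin m) (a : F), β (tvb (bv k) a) = tvb (bv k) a)
    (hs : TG β (es Finset.univ) (es Finset.univ))
    (hG : ∀ v : Vm m F, v ≠ 0 → ∃ w, TG β v w) : β = 1 := by
  classical
  have hb : ∀ k, TG β (bv k) (bv k) := by
    intro k
    refine ⟨bv_ne k, bv_ne k, ?_⟩
    ext x
    constructor
    · rintro ⟨_, ⟨a, rfl⟩, rfl⟩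
      exact ⟨a, (hfix k a).symm⟩
    · rintro ⟨a, rfl⟩
      exact ⟨tvb (bv k) a, ⟨a, rfl⟩, hfix k a⟩
  have move : ∀ (v : Vm m F) (k : Fin m ⊕ Fin m) (a : F), TG β v v →
      TG β ((tv (bv k) a).1 *ᵥ v) ((tv (bv k) a).1 *ᵥ v) :=
    fun v k a h => h.conj (tv (bv k) a) (tv (bv k) a) (hfix k a)
  have upd : ∀ (v : Vm m F) (k : Fin m ⊕ Fin m) (d : F),
      v + d • bv k = Function.update v k (v k + d) := by
    intro v k d
    funext l
    by_cases h : l = k
    · subst h
      simp [bv_self]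
    · simp [bv_apply, h]
  have move_e : ∀ (v : Vm m F) (j : Fin m) (c : F), TG β v v → v (Sum.inr j) ≠ 0 →
      TG β (Function.update v (Sum.inl j) c) (Function.update v (Sum.inl j) c) := by
    intro v j c hv hne
    have h := move v (Sum.inl j) ((c - v (Sum.inl j)) / v (Sum.inr j)) hv
    rw [tv_mulVec, sf_e, div_mul_cancel₀ _ hne, upd, add_sub_cancel] at h
    exact h
  have move_f : ∀ (v : Vm m F) (j : Fin m) (c : F), TG β v v → v (Sum.inl j) ≠ 0 →
      TG β (Function.update v (Sum.inr j) c) (Function.update v (Sum.inr j) c) := by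
    intro v j c hv hne
    have h := move v (Sum.inr j) (-(c - v (Sum.inr j)) / v (Sum.inl j)) hv
    have e : -(c - v (Sum.inr j)) / v (Sum.inl j) * -v (Sum.inl j) = c - v (Sum.inr j) := by
      field_simp
    rw [tv_mulVec, sf_f, e, upd, add_sub_cancel] at h
    exact h
  have supp : ∀ (v w : Vm m F), TG β v w → ∀ k, w k = 0 ↔ v k = 0 := by
    intro v w h k
    rcases k with i | i
    · have := TG.perp hm h (hb (Sum.inr i))
      rw [sf_f, sf_f, neg_eq_zero, neg_eq_zero] at this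
      exact this.symm
    · have := TG.perp hm h (hb (Sum.inl i))
      rw [sf_e, sf_e] at this
      exact this.symm
  have hes : ∀ I : Finset (Fin m), (es I : Vm m F) ≠ 0 → TG β (es I) (es I) := by
    intro I hI
    obtain ⟨w, hw⟩ := hG _ hI
    have hwr : ∀ i, w (Sum.inr i) = 0 := fun i => (supp _ _ hw _).2 (es_inr I i)
    have hwl : ∀ i j, i ∈ I → j ∈ I → w (Sum.inl i) = w (Sum.inl j) := by
      intro i j hi hj
      have hz := move _ (Sum.inr j) (-1) (move _ (Sum.inr i) 1 hs)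
      have hz' : (tv (bv (Sum.inr j)) (-1 : F)).1 *ᵥ ((tv (bv (Sum.inr i)) (1 : F)).1 *ᵥ
          (es Finset.univ : Vm m F)) = es Finset.univ + (-1 : F) • bv (Sum.inr i) + bv (Sum.inr j) := by
        have a1 : (tv (bv (Sum.inr i)) (1 : F)).1 *ᵥ (es Finset.univ : Vm m F) =
            es Finset.univ + (-1 : F) • bv (Sum.inr i) := by
          rw [tv_mulVec, sf_f, es_inl, if_pos (Finset.mem_univ _), one_mul]
        rw [a1, tv_mulVec, sf_f]
        have a2 : (-1 : F) * -((es Finset.univ + (-1 : F) • bv (Sum.inr i) : Vm m F) (Sum.inl j)) = 1 := by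
          simp [es_inl, bv_apply]
        rw [a2, one_smul]
      rw [hz'] at hz
      have h3 := TG.perp hm hw hz
      simp only [sf_add_right, sf_smul_right, sf_es_univ, sf_f, es_inr, es_inl, if_pos hi, if_pos hj,
        hwr, Finset.sum_const_zero] at h3
      have h0 := h3.1 (by ring)
      linear_combination h0
    have hI' : ∃ i₀, i₀ ∈ I := by
      by_contra hcon
      push Not at hcon
      apply hI
      funext k
      rcases k with i | i
      · rw [es_inl, if_neg (hcon i)]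
        rfl
      · rfl
    obtain ⟨i₀, hi₀⟩ := hI'
    have hd : w (Sum.inl i₀) ≠ 0 := by
      rw [Ne, supp _ _ hw, es_inl, if_pos hi₀]
      exact one_ne_zero
    obtain ⟨d, hd, hw'⟩ : ∃ d : F, d ≠ 0 ∧ w = d • es I := by
      refine ⟨w (Sum.inl i₀), hd, ?_⟩
      funext k
      rcases k with i | i
      · rw [Pi.smul_apply, es_inl, smul_eq_mul]
        by_cases hi : i ∈ I
        · rw [if_pos hi, mul_one, hwl i i₀ hi hi₀]
        · rw [if_neg hi, mul_zero, supp _ _ hw, es_inl, if_neg hi]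
      · rw [Pi.smul_apply, es_inr, smul_zero, hwr]
    rw [hw'] at hw
    have := hw.of_smul (inv_ne_zero hd)
    rwa [smul_smul, inv_mul_cancel₀ hd, one_smul] at this
  have hall : ∀ S : Finset (Fin m), ∀ v : Vm m F, v ≠ 0 →
      (∀ i, i ∉ S → v (Sum.inr i) = 0 ∧ (v (Sum.inl i) = 0 ∨ v (Sum.inl i) = 1)) → TG β v v := by
    intro S
    induction S using Finset.induction_on with
    | empty =>
      intro v hv h
      obtain ⟨I, hI⟩ : ∃ I : Finset (Fin m), v = es I := by
        refine ⟨Finset.univ.filter fun i => v (Sum.inl i) = 1, ?_⟩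
        funext k
        rcases k with i | i
        · rw [es_inl]
          by_cases h1 : v (Sum.inl i) = 1
          · rw [if_pos (by simp [h1]), h1]
          · rw [if_neg (by simp [h1])]
            rcases (h i (Finset.notMem_empty i)).2 with h2 | h2
            · exact h2
            · exact absurd h2 h1
        · rw [es_inr]
          exact (h i (Finset.notMem_empty i)).1
      subst hI
      exact hes I hv
    | insert j S hj ih =>
      intro v hv h
      by_cases hstd : v (Sum.inr j) = 0 ∧ (v (Sum.inl j) = 0 ∨ v (Sum.inl j) = 1)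
      · apply ih v hv
        intro i hi
        by_cases hij : i = j
        · subst hij
          exact hstd
        · exact h i (by simp [hij, hi])
      · obtain ⟨v₀, hv₀def⟩ : ∃ v₀ : Vm m F,
            v₀ = Function.update (Function.update v (Sum.inl j) 1) (Sum.inr j) 0 := ⟨_, rfl⟩
        have hv₀ : TG β v₀ v₀ := by
          apply ih
          · intro h0
            have := congrFun h0 (Sum.inl j)
            simp [hv₀def] at this
          · intro i hi
            by_cases hij : i = j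
            · subst hij
              simp [hv₀def]
            · have := h i (by simp [hij, hi])
              simpa [hv₀def, hij] using this
        by_cases hx : v (Sum.inl j) = 0
        · have hy : v (Sum.inr j) ≠ 0 := fun hy => hstd ⟨hy, Or.inl hx⟩
          have h1 := move_f v₀ j (v (Sum.inr j)) hv₀ (by simp [hv₀def])
          have h2 := move_e _ j 0 h1 (by simp [hy])
          have e : Function.update (Function.update v₀ (Sum.inr j) (v (Sum.inr j))) (Sum.inl j) 0
              = v := by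
            funext k
            simp only [hv₀def, Function.update_apply]
            split_ifs <;> simp_all
          rwa [e] at h2
        · have h1 := move_f v₀ j 1 hv₀ (by simp [hv₀def])
          have h2 := move_e _ j (v (Sum.inl j)) h1 (by simp)
          have h3 := move_f _ j (v (Sum.inr j)) h2 (by simp [hx])
          have e : Function.update (Function.update (Function.update v₀ (Sum.inr j) 1) (Sum.inl j)
              (v (Sum.inl j))) (Sum.inr j) (v (Sum.inr j)) = v := by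
            funext k
            simp only [hv₀def, Function.update_apply]
            split_ifs <;> simp_all
          rwa [e] at h3
  exact aut_eq_one_of_fix hm β (fun v hv => hall Finset.univ v hv
    (fun i hi => absurd (Finset.mem_univ i) hi))

/-- if every automorphism permutes the transvection groups, then every automorphism is a
similitude conjugation times a field automorphism -/
theorem aut_decomp_of_good [Fintype F] (hm : 1 ≤ m)
    (hG : ∀ (β : MulAut (Cfsg.PSp m F)) (v : Vm m F), v ≠ 0 → ∃ w, TG β v w)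
    (α : MulAut (Cfsg.PSp m F)) :
    ∃ (g : ↥(Cfsg.GSp m F)) (σ : F ≃+* F), α = conjAut g * fieldAut σ := by
  classical
  obtain ⟨A, hA⟩ := frame_norm hm α (hG α)
  obtain ⟨α₁, hα₁⟩ : ∃ α₁, α₁ = (conjAut (spToGSp A))⁻¹ * α := ⟨_, rfl⟩
  have h1 : ∀ k, TG α₁ (bv k) (bv k) := by
    intro k
    rw [hα₁]
    exact TG.mul (hA k) (TG_conjSp A (bv_ne k)).inv
  obtain ⟨w, hw⟩ := hG α₁ (es Finset.univ) (es_univ_ne hm)
  have hwl : ∀ i, w (Sum.inl i) ≠ 0 := by
    intro i h
    have := (TG.perp hm hw (h1 (Sum.inr i))).2 (by rw [sf_f, h, neg_zero])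
    rw [sf_f, es_inl, if_pos (Finset.mem_univ _)] at this
    exact one_ne_zero (neg_eq_zero.1 this)
  have hwr : ∀ i, w (Sum.inr i) = 0 := by
    intro i
    have := (TG.perp hm hw (h1 (Sum.inl i))).1 (by rw [sf_e, es_inr])
    rwa [sf_e] at this
  obtain ⟨d, hddef⟩ : ∃ d : Fin m ⊕ Fin m → F,
      d = fun k => Sum.elim (fun i => w (Sum.inl i)) (fun i => (w (Sum.inl i))⁻¹) k := ⟨_, rfl⟩
  have hd : ∀ i, d (Sum.inl i) * d (Sum.inr i) = 1 := by
    intro i
    rw [hddef]
    exact mul_inv_cancel₀ (hwl i)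
  have hdne : ∀ k, d k ≠ 0 := by
    intro k
    rw [hddef]
    rcases k with i | i
    · exact hwl i
    · exact inv_ne_zero (hwl i)
  obtain ⟨D, hDdef⟩ : ∃ D : Spm m F, D = ⟨Matrix.diagonal d, diag_mem d hd⟩ := ⟨_, rfl⟩
  have hDs : D.1 *ᵥ (es Finset.univ : Vm m F) = w := by
    rw [hDdef]
    funext k
    rw [Matrix.mulVec_diagonal]
    rcases k with i | i
    · rw [hddef, es_inl, if_pos (Finset.mem_univ _), mul_one]
      rfl
    · rw [es_inr, mul_zero, hwr]
  have hDb : ∀ k, D.1 *ᵥ (bv k : Vm m F) = d k • bv k := by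
    intro k
    rw [hDdef]
    funext l
    rw [Matrix.mulVec_diagonal, Pi.smul_apply, smul_eq_mul, bv_apply]
    split_ifs with h
    · rw [h]
    · rw [mul_zero, mul_zero]
  obtain ⟨α₂, hα₂⟩ : ∃ α₂, α₂ = (conjAut (spToGSp D))⁻¹ * α₁ := ⟨_, rfl⟩
  have h2 : ∀ k, TG α₂ (bv k) (bv k) := by
    intro k
    rw [hα₂]
    have t1 := (TG_conjSp D (bv_ne k)).inv
    rw [hDb] at t1
    exact TG.mul ((h1 k).of_smul (hdne k)) t1
  have h2s : TG α₂ (es Finset.univ) (es Finset.univ) := by
    rw [hα₂]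
    have t1 := (TG_conjSp D (es_univ_ne hm)).inv
    rw [hDs] at t1
    exact TG.mul hw t1
  have h3 : ∀ i, ∃ (c : F) (τ : F ≃+* F), c ≠ 0 ∧
      (∀ a, α₂ (tvb (bv (Sum.inl i)) a) = tvb (bv (Sum.inl i)) (c * τ a)) ∧
      (∀ a, α₂ (tvb (bv (Sum.inr i)) a) = tvb (bv (Sum.inr i)) (τ a / c)) := fun i =>
    pair_rigid hm α₂ _ _ (by rw [sf_e, bv_self]) (h2 _) (h2 _)
  choose c τ hc hce hcf using h3
  obtain ⟨i₀, -⟩ : ∃ i₀ : Fin m, i₀ = ⟨0, hm⟩ := ⟨_, rfl⟩
  have hlink : ∀ i a, τ i a / c i = τ i₀ a / c i₀ := fun i a =>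
    link hm α₂ h2s (fun i a => τ i a / c i) hcf i i₀ a
  have hceq : ∀ i, c i = c i₀ := by
    intro i
    have := hlink i 1
    rw [map_one, map_one] at this
    have h1 := hc i
    have h2 := hc i₀
    field_simp at this
    exact this.symm
  have hτeq : ∀ i a, τ i a = τ i₀ a := by
    intro i a
    have := hlink i a
    rw [hceq i] at this
    have h2 := hc i₀
    field_simp at this
    exact this
  obtain ⟨γ, hγ⟩ : ∃ γ, γ = conjAut (dc (c i₀) (hc i₀) : ↥(Cfsg.GSp m F)) * fieldAut (τ i₀) :=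
    ⟨_, rfl⟩
  have hγe : ∀ i a, γ (tvb (bv (Sum.inl i)) a) = tvb (bv (Sum.inl i)) (c i₀ * τ i₀ a) := by
    intro i a
    rw [hγ, MulAut.mul_apply, fieldAut_tvb, map_bv, conjAut_dc_tvb, dc_bv_inl]
    show (QuotientGroup.mk (tv (c i₀ • bv (Sum.inl i)) (τ i₀ a / c i₀)) : Cfsg.PSp m F) =
      QuotientGroup.mk (tv (bv (Sum.inl i)) (c i₀ * τ i₀ a))
    rw [tv_smul]
    have h2 := hc i₀
    have e : c i₀ * c i₀ * (τ i₀ a / c i₀) = c i₀ * τ i₀ a := by field_simp
    rw [e]
  have hγf : ∀ i a, γ (tvb (bv (Sum.inr i)) a) = tvb (bv (Sum.inr i)) (τ i₀ a / c i₀) := by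
    intro i a
    rw [hγ, MulAut.mul_apply, fieldAut_tvb, map_bv, conjAut_dc_tvb, dc_bv_inr]
  have hγs : TG γ (es Finset.univ) (es Finset.univ) := by
    have t1 := TG_fieldAut (m := m) (τ i₀) (es_univ_ne hm)
    rw [map_es] at t1
    have t2 := TG_conjAut (dc (c i₀) (hc i₀) : ↥(Cfsg.GSp m F)) (es_univ_ne (F := F) hm)
    rw [dc_es] at t2
    have t3 := TG.mul t1 t2
    have t4 := t3.of_smul (inv_ne_zero (hc i₀))
    rw [smul_smul, inv_mul_cancel₀ (hc i₀), one_smul] at t4
    rw [hγ]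
    exact t4
  have hinv : ∀ x, γ⁻¹ (γ x) = x := by
    intro x
    rw [← MulAut.mul_apply, inv_mul_cancel]
    rfl
  have hβfix : ∀ (k : Fin m ⊕ Fin m) (a : F), (γ⁻¹ * α₂) (tvb (bv k) a) = tvb (bv k) a := by
    intro k a
    rw [MulAut.mul_apply]
    rcases k with i | i
    · rw [hce, hceq, hτeq, ← hγe, hinv]
    · rw [hcf, hceq, hτeq, ← hγf, hinv]
  have hβs : TG (γ⁻¹ * α₂) (es Finset.univ) (es Finset.univ) := TG.mul h2s hγs.inv
  have hβ1 : γ⁻¹ * α₂ = 1 := fix_all hm _ hβfix hβs (hG _)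
  refine ⟨spToGSp A * spToGSp D * dc (c i₀) (hc i₀), τ i₀, ?_⟩
  rw [map_mul, map_mul, mul_assoc, ← hγ]
  have e1 : α₂ = γ := by
    rw [inv_mul_eq_one] at hβ1
    exact hβ1.symm
  rw [← e1, hα₂, hα₁]
  group

end Cfsg.Agent.Lib.helper13.PS
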