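import Mathlib
import Cfsg.Prelude.Def_LieTypeDatum
import Cfsg.Agent.Lib.helper13.PSpFrame
import Cfsg.Agent.Lib.helper25.SpUni4

set_option autoImplicit false
set_option linter.unusedSectionVars false
set_option linter.unusedVariables false
set_option linter.style.longLine false

namespace Cfsg.Agent.Lib.helper13.PS

open Matrix
open Cfsg.Agent.S0766 Cfsg.Agent.S0765 Cfsg.Agent.Lib.helper4
open Cfsg.Agent.Lib.helper25

/-- an automorphism maps a Sylow subgroup to a conjugate -/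
theorem aut_sylow_conj {G : Type*} [Group G] [Finite G] (p : ℕ) [hp : Fact p.Prime]
    (U : Subgroup G) (hP : IsPGroup p U) (hidx : ¬ p ∣ U.index) (α : MulAut G) :
    ∃ g : G, U.map α.toMonoidHom = U.map (MulAut.conj g).toMonoidHom := by
  have hP' : IsPGroup p (U.map α.toMonoidHom) := hP.map _
  have hc : Nat.card (U.map α.toMonoidHom) = Nat.card U :=
    Subgroup.card_map_of_injective α.injective
  have hidx' : ¬ p ∣ (U.map α.toMonoidHom).index := by
    have h1 := Subgroup.card_mul_index U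
    have h2 := Subgroup.card_mul_index (U.map α.toMonoidHom)
    rw [hc, ← h1] at h2
    have hpos : 0 < Nat.card U := Nat.card_pos
    rw [Nat.eq_of_mul_eq_mul_left hpos h2]
    exact hidx
  obtain ⟨g, hg⟩ := MulAction.exists_smul_eq G (hP.toSylow hidx) (hP'.toSylow hidx')
  refine ⟨g, ?_⟩
  have h3 := congrArg (fun S : Sylow p G => (S : Subgroup G)) hg
  simp only [Sylow.coe_subgroup_smul, IsPGroup.toSylow_coe] at h3
  rw [← h3]
  ext x
  rw [Subgroup.mem_pointwise_smul_iff_inv_smul_mem]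
  constructor
  · intro hx
    refine ⟨(MulAut.conj g)⁻¹ • x, hx, ?_⟩
    simp only [MulAut.smul_def, MulEquiv.coe_toMonoidHom, MulAut.conj_inv_apply, MulAut.conj_apply]
    group
  · rintro ⟨y, hy, rfl⟩
    have : (MulAut.conj g)⁻¹ • ((MulAut.conj g).toMonoidHom y) = y := by
      simp only [MulAut.smul_def, MulEquiv.coe_toMonoidHom, MulAut.conj_inv_apply,
        MulAut.conj_apply]
      group
    rw [this]
    exact hy

variable {F : Type*} [Field F] [Fintype F] {m : ℕ}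

/-- the image in `PSp` of the unitriangular subgroup -/
noncomputable def Ub (m : ℕ) (F : Type*) [Field F] [Finite F] : Subgroup (Cfsg.PSp m F) :=
  (Cfsg.Agent.Lib.helper25.SpUni.UUs m F).map (QuotientGroup.mk' (Subgroup.center (Spm m F)))

theorem mk_injOn_UUs (hm : 1 ≤ m) :
    Set.InjOn (QuotientGroup.mk' (Subgroup.center (Spm m F)))
      (Cfsg.Agent.Lib.helper25.SpUni.UUs m F : Set (Spm m F)) := by
  intro u hu u' hu' h
  have h' : (QuotientGroup.mk u : Cfsg.PSp m F) = QuotientGroup.mk u' := h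
  rw [QuotientGroup.eq] at h'
  have := Cfsg.Agent.Lib.helper25.SpUni.UUs_inf_center hm (u⁻¹ * u') (mul_mem (inv_mem hu) hu') h'
  exact inv_mul_eq_one.1 this

theorem card_Ub (hm : 1 ≤ m) : Nat.card (Ub m F) = Fintype.card F ^ (m ^ 2) := by
  rw [← Nat.card_eq_fintype_card, ← Cfsg.Agent.Lib.helper25.SpUni.card_UUs]
  exact Nat.card_image_of_injOn (mk_injOn_UUs hm)

theorem Ub_sylow (p : ℕ) [hp : Fact p.Prime] [CharP F p] (hm : 1 ≤ m) :
    IsPGroup p (Ub m F) ∧ ¬ p ∣ (Ub m F).index := by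
  constructor
  · exact (Cfsg.Agent.Lib.helper25.SpUni.isPGroup_UUs p).map _
  · intro hdvd
    have h1 := Subgroup.card_mul_index (Ub m F)
    rw [card_Ub hm, ← Cfsg.Agent.Lib.helper25.card_sylow_PSp p m hm] at h1
    have h2 : p ^ ((Nat.card (Cfsg.PSp m F)).factorization p + 1) ∣ Nat.card (Cfsg.PSp m F) := by
      rw [pow_succ]
      nth_rewrite 2 [← h1]
      exact Nat.mul_dvd_mul_left _ hdvd
    exact Nat.pow_succ_factorization_not_dvd (Nat.card_pos).ne' hp.out h2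

theorem uu_single_eq_tv {n : ℕ} (t : F)
    (hs : (Matrix.single (0 : Fin (n + 2)) 0 t)ᵀ = Matrix.single (0 : Fin (n + 2)) 0 t) :
    Cfsg.Agent.Lib.helper25.SpUni.uu (Matrix.single (0 : Fin (n + 2)) 0 t) hs =
      tv (bv (Sum.inl 0)) t := by
  apply sp_ext
  intro x
  rw [Cfsg.Agent.Lib.helper25.SpUni.uu_val, tv_mulVec, sf_e]
  rw [Matrix.fromBlocks_mulVec]
  funext k
  rcases k with i | i
  · show (((1 : Matrix (Fin (n + 2)) (Fin (n + 2)) F) *ᵥ (x ∘ Sum.inl) +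
        Matrix.single (0 : Fin (n + 2)) 0 t *ᵥ (x ∘ Sum.inr) : Fin (n + 2) → F)) i =
      x (Sum.inl i) + ((t * x (Sum.inr 0)) • (bv (Sum.inl 0) : Vm (n + 2) F)) (Sum.inl i)
    rw [Matrix.one_mulVec]
    by_cases hi : i = 0
    · subst hi
      simp [Matrix.mulVec, dotProduct, Matrix.single_apply, bv_apply]
    · simp [Matrix.mulVec, dotProduct, bv_apply, hi, Ne.symm hi]
  · show (((0 : Matrix (Fin (n + 2)) (Fin (n + 2)) F) *ᵥ (x ∘ Sum.inl) +
        (1 : Matrix (Fin (n + 2)) (Fin (n + 2)) F) *ᵥ (x ∘ Sum.inr) : Fin (n + 2) → F)) i =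
      x (Sum.inr i) + ((t * x (Sum.inr 0)) • (bv (Sum.inl 0) : Vm (n + 2) F)) (Sum.inr i)
    rw [Matrix.one_mulVec, Matrix.zero_mulVec]
    simp [bv_apply]

theorem tv_e0_mem {n : ℕ} (t : F) :
    tv (bv (Sum.inl (0 : Fin (n + 2)))) t ∈ SpUni.UUs (n + 2) F := by
  rw [← uu_single_eq_tv t (SpUni.sym_single 0 t)]
  exact SpUni.QQ_le_UUs (SpUni.uu_mem_QQ _ _)

theorem UUs_fix_e0 {n : ℕ} (u : Spm (n + 2) F) (hu : u ∈ SpUni.UUs (n + 2) F) :
    u.1 *ᵥ (bv (Sum.inl 0) : Vm (n + 2) F) = bv (Sum.inl 0) := by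
  funext k
  unfold bv
  rw [Matrix.mulVec_single_one]
  have := (SpUni.mem_UUs u).1 hu k (Sum.inl 0) (by rw [SpUni.rk_inl]; exact Nat.zero_le _)
  show u.1 k (Sum.inl 0) = _
  rw [this, Matrix.one_apply, Pi.single_apply]

theorem Zc_Ub (h2 : (2 : F) ≠ 0) {n : ℕ} :
    PN.Zc (Ub (n + 2) F) = Set.range (tvb (bv (Sum.inl (0 : Fin (n + 2))) : Vm (n + 2) F)) := by
  ext z
  constructor
  · rintro ⟨⟨z₀, hz₀, rfl⟩, hc⟩
    have hzc : ∀ u ∈ SpUni.UUs (n + 2) F, u * z₀ = z₀ * u := by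
      intro u hu
      have := hc (QuotientGroup.mk u) ⟨u, hu, rfl⟩
      apply mk_injOn_UUs (by omega) (mul_mem hu hz₀) (mul_mem hz₀ hu)
      show QuotientGroup.mk' _ (u * z₀) = QuotientGroup.mk' _ (z₀ * u)
      rw [map_mul, map_mul]
      exact this.symm
    obtain ⟨t, t', hs, rfl⟩ := SpUni.central_form z₀ hz₀ hzc
    have h01 : (0 : Fin (n + 2)) < 1 := by
      rw [Fin.lt_def]
      show (0 : ℕ) < ((1 : Fin (n + 2)) : ℕ)
      have : ((1 : Fin (n + 2)) : ℕ) = 1 := rfl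
      omega
    have ht' : t' = 0 := by
      have h1 := hzc (SpUni.lam (SpecialLinearGroup.transvection (ne_of_lt h01) 1))
        (SpUni.lam_mem_UUs _ (SLUni.tv_mem_UU h01 1))
      rw [SpUni.lam_tv, SpUni.lv_mul_uu] at h1
      have h2' := mul_right_cancel h1
      have h3 := congrArg Subtype.val h2'
      rw [SpUni.uu_val, SpUni.uu_val, Matrix.fromBlocks_inj] at h3
      have h5 := congrFun (congrFun h3.2.1 0) 0
      rw [Matrix.transpose_add, Matrix.transpose_one, Matrix.transpose_single] at h5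
      simp [Matrix.add_mul, Matrix.mul_add] at h5
      have h6 : (2 : F) * t' = 0 := by linear_combination h5
      exact (mul_eq_zero.1 h6).resolve_left h2
    subst ht'
    refine ⟨t, ?_⟩
    show (QuotientGroup.mk (tv (bv (Sum.inl 0)) t) : Cfsg.PSp (n + 2) F) = QuotientGroup.mk _
    rw [← uu_single_eq_tv t (SpUni.sym_single 0 t)]
    congr 1
    exact SpUni.uu_congr (by simp) _ _
  · rintro ⟨t, rfl⟩
    refine ⟨⟨tv (bv (Sum.inl 0)) t, tv_e0_mem t, rfl⟩, ?_⟩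
    rintro _ ⟨u, hu, rfl⟩
    show (QuotientGroup.mk (tv (bv (Sum.inl 0)) t) : Cfsg.PSp (n + 2) F) * QuotientGroup.mk u =
      QuotientGroup.mk u * QuotientGroup.mk (tv (bv (Sum.inl 0)) t)
    rw [← QuotientGroup.mk_mul, ← QuotientGroup.mk_mul, tv_conj u, UUs_fix_e0 u hu]

/-- if the centre of the Sylow subgroup `Ub` is the transvection group of `e₀`, every
automorphism permutes the transvection groups -/
theorem tg_of_Zc (p : ℕ) [Fact p.Prime] [CharP F p] {n : ℕ}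
    (hZ : ∀ β : MulAut (Cfsg.PSp (n + 2) F), ∃ w, TG β (bv (Sum.inl 0)) w)
    (β : MulAut (Cfsg.PSp (n + 2) F)) (v : Vm (n + 2) F) (hv : v ≠ 0) : ∃ w, TG β v w := by
  obtain ⟨w, hw⟩ := hZ β
  obtain ⟨A, hA⟩ := Cfsg.Agent.S0271.result (n + 2) (bv (Sum.inl 0) : Vm (n + 2) F) v (bv_ne _) hv
  obtain ⟨B, hB⟩ := exists_rep (β (QuotientGroup.mk A))
  refine ⟨B.1 *ᵥ w, ?_⟩
  have := hw.conj A B hB
  rw [← hA]
  exact this

theorem tg_base_odd (p : ℕ) [Fact p.Prime] [CharP F p] (h2 : (2 : F) ≠ 0) {n : ℕ}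
    (β : MulAut (Cfsg.PSp (n + 2) F)) : ∃ w, TG β (bv (Sum.inl 0)) w := by
  obtain ⟨hP, hidx⟩ := Ub_sylow (m := n + 2) (F := F) p (by omega)
  obtain ⟨g, hg⟩ := aut_sylow_conj p (Ub (n + 2) F) hP hidx β
  obtain ⟨g₀, rfl⟩ := QuotientGroup.mk_surjective g
  have h1 : β '' Set.range (tvb (bv (Sum.inl (0 : Fin (n + 2))) : Vm (n + 2) F)) =
      (MulAut.conj (QuotientGroup.mk g₀ : Cfsg.PSp (n + 2) F)) ''
        Set.range (tvb (bv (Sum.inl (0 : Fin (n + 2))) : Vm (n + 2) F)) := by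
    rw [← Zc_Ub h2, ← PN.Zc_map, ← PN.Zc_map, hg]
  refine ⟨g₀.1 *ᵥ bv (Sum.inl 0), bv_ne _, sp_mulVec_ne g₀ (bv_ne _), ?_⟩
  rw [h1, range_conj]
  rfl

/-- the automorphisms of `PSp_{2m}(q)`, `q` odd, `m ≥ 2` -/
theorem aut_decomp_odd (p : ℕ) [Fact p.Prime] [CharP F p] (h2 : (2 : F) ≠ 0) (hm : 2 ≤ m)
    (α : MulAut (Cfsg.PSp m F)) :
    ∃ (g : ↥(Cfsg.GSp m F)) (σ : F ≃+* F), α = conjAut g * fieldAut σ := by
  obtain ⟨n, rfl⟩ : ∃ n, m = n + 2 := ⟨m - 2, by omega⟩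
  exact aut_decomp_of_good (by omega) (tg_of_Zc p (tg_base_odd p h2)) α

end Cfsg.Agent.Lib.helper13.PS
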