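import Mathlib
import Cfsg.Agent.Lib.helper15.S1454E
import Cfsg.Agent.Lib.helper14.S1454AB
import Cfsg.Agent.Lib.helper3.S1454X1
import Cfsg.Agent.Lib.helper13.S1454X2
import Cfsg.Agent.Lib.helper14.S1454X3r

set_option autoImplicit false

/-!
# A non-abelian p-group of rank at most 2 with R = [R, A], |A| = q prime not dividing p (p - 1), has order p ^ 3
-/

namespace Cfsg.Agent.Lib.helper13.S1454T3b

open scoped commutatorElement

/-- Assembly of the pieces E, abelian case, X1, X2, X3r. -/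
theorem part_three_b {G : Type*} [Group G] [Finite G] (p : ℕ) [Fact p.Prime] (hp : p ≠ 2)
    (R A : Subgroup G) (hR : IsPGroup p R) (hr2 : Cfsg.PRankLE p 2 R)
    (hA : A ≤ Subgroup.normalizer (R : Set G)) (hAodd : Odd (Nat.card A))
    (hfaith : A ⊓ Subgroup.centralizer (R : Set G) = ⊥) (hq : (Nat.card A).Prime)
    (hq1 : ¬ Nat.card A ∣ p * (p - 1)) (hRA : ⁅R, A⁆ = R) (hnc : ¬ IsMulCommutative R) :
    Nat.card R = p ^ 3 := by
  classical
  obtain ⟨D, hDR, hexp, hcl, hND, hcrit, hDc⟩ :=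
    Cfsg.Agent.Lib.helper15.S1454E.exists_critical_plus p hp R hR
  have hrk : ∀ B : Subgroup G, B ≤ R → (∀ x ∈ B, ∀ y ∈ B, x * y = y * x) →
      (∀ x ∈ B, x ^ p = 1) → Nat.card B ≤ p ^ 2 :=
    fun B hB hc he => Cfsg.Agent.Lib.helper14.S1454AB.rank_le_sq p R hr2 B hB hc he
  by_cases hDab : ∀ x ∈ D, ∀ y ∈ D, x * y = y * x
  · exact absurd (Cfsg.Agent.Lib.helper14.S1454AB.abelian_case p hp R A D hR hr2 hA hq hq1 hRA
      hDR hexp hND hcrit hDab) hnc
  · have hnc' : ∃ x ∈ D, ∃ y ∈ D, x * y ≠ y * x := by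
      by_contra h
      apply hDab
      intro x hx y hy
      by_contra hxy
      exact h ⟨x, hx, y, hy, hxy⟩
    obtain ⟨hD3, hZ⟩ := Cfsg.Agent.Lib.helper3.S1454X1.extraspecial_of_rank p D hexp hcl
      (fun B hBD hBc => hrk B (hBD.trans hDR) hBc (fun x hx => hexp x (hBD hx))) hnc'
    have hDn : R ≤ Subgroup.normalizer (D : Set G) := Subgroup.le_normalizer.trans hND
    have hprod := Cfsg.Agent.Lib.helper13.S1454X2.prod_centralizer p R D hR hDR hD3 hZ hDn hDc
    have hcop : ∀ a ∈ A, (orderOf a).Coprime (p * (p - 1)) := by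
      intro a ha
      have hdvd : orderOf a ∣ Nat.card A := by
        have := orderOf_dvd_natCard (⟨a, ha⟩ : A)
        rwa [Subgroup.orderOf_mk] at this
      have hqc : (Nat.card A).Coprime (p * (p - 1)) :=
        (Nat.Prime.coprime_iff_not_dvd hq).mpr hq1
      exact Nat.Coprime.coprime_dvd_left hdvd hqc
    have hcent : ∀ a ∈ A, ∀ c ∈ R ⊓ Subgroup.centralizer (D : Set G), a * c = c * a := by
      intro a ha
      exact Cfsg.Agent.Lib.helper14.S1454X3r.cent_centralizer_rel p hp R D hR hDR hrk hexp hD3 hZ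
        a (hA ha) (hND (hA ha)) (hcop a ha)
    have hle : ⁅R, A⁆ ≤ D := by
      rw [Subgroup.commutator_le]
      intro r hr a ha
      obtain ⟨d, hd, c, hc, rfl⟩ := hprod r hr
      have hac := hcent a ha c hc
      have h1 : a * d⁻¹ * a⁻¹ ∈ D :=
        (Subgroup.mem_normalizer_iff.mp (hND (hA ha)) d⁻¹).mp (D.inv_mem hd)
      have h2 : ⁅d * c, a⁆ = d * (a * d⁻¹ * a⁻¹) := by
        rw [commutatorElement_def]
        have hca : c * a = a * c := hac.symm
        calc d * c * a * (d * c)⁻¹ * a⁻¹ = d * (c * a) * c⁻¹ * d⁻¹ * a⁻¹ := by group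
          _ = d * (a * c) * c⁻¹ * d⁻¹ * a⁻¹ := by rw [hca]
          _ = d * (a * d⁻¹ * a⁻¹) := by group
      rw [h2]
      exact D.mul_mem hd h1
    have hRD : R ≤ D := by
      calc R = ⁅R, A⁆ := hRA.symm
        _ ≤ D := hle
    have hRD' : R = D := le_antisymm hRD hDR
    rw [hRD']
    exact hD3

end Cfsg.Agent.Lib.helper13.S1454T3b
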