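import Mathlib
import Cfsg.Prelude.Def_LieTypeDatum
import Cfsg.Agent.Lib.helper13.Singer
import Cfsg.Agent.S2638
import Cfsg.Agent.S2904

set_option autoImplicit false
set_option linter.unusedSectionVars false
set_option linter.unusedVariables false
set_option linter.style.longLine false

/-! Singer cycles of `GL_n(F)` as centralizers of elements of primitive prime order, scalars,
and orders in `PSL_n(F)`. -/

namespace Cfsg.Agent.Lib.helper13.SG

open Matrix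

/-- In a finite cyclic subgroup, the solutions of `c ^ |A| = 1` are the images of an embedded
group `A`. -/
theorem cyc_pow_mem {G A : Type*} [Group G] [Group A] [Finite A] (C : Subgroup G) [Finite C]
    [IsCyclic C] (f : A →* G) (hf : Function.Injective f) (hfC : ∀ a, f a ∈ C) (c : G)
    (hc : c ∈ C) (hck : c ^ Nat.card A = 1) : ∃ a, f a = c := by
  classical
  have := Fintype.ofFinite C
  have := Fintype.ofFinite A
  let f' : A → C := fun a => ⟨f a, hfC a⟩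
  have hf' : Function.Injective f' := fun a b h => hf (congrArg Subtype.val h)
  have hk0 : 0 < Nat.card A := Nat.card_pos
  have h1 := IsCyclic.card_pow_eq_one_le (α := C) hk0
  have h2 : Finset.univ.image f' ⊆ Finset.univ.filter (fun a : C => a ^ Nat.card A = 1) := by
    intro x hx
    obtain ⟨a, -, rfl⟩ := Finset.mem_image.1 hx
    simp only [Finset.mem_filter, Finset.mem_univ, true_and]
    apply Subtype.ext
    show (f a) ^ Nat.card A = 1
    rw [← map_pow, pow_card_eq_one', map_one]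
  have h3 : (Finset.univ.image f').card = Nat.card A := by
    rw [Finset.card_image_of_injective _ hf', Finset.card_univ, Nat.card_eq_fintype_card]
  have h4 := Finset.eq_of_subset_of_card_le h2 (by rw [h3]; exact h1)
  have h5 : (⟨c, hc⟩ : C) ∈ Finset.univ.filter (fun a : C => a ^ Nat.card A = 1) := by
    simp only [Finset.mem_filter, Finset.mem_univ, true_and]
    exact Subtype.ext hck
  rw [← h4] at h5
  obtain ⟨a, -, ha⟩ := Finset.mem_image.1 h5
  exact ⟨a, congrArg Subtype.val ha⟩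

variable {F : Type*} [Field F] {n : ℕ}

/-- scalar matrices as a homomorphism -/
def sc (n : ℕ) (F : Type*) [Field F] : Fˣ →* GL (Fin n) F :=
  Units.map (Matrix.scalar (Fin n)).toMonoidHom

theorem sc_val (a : Fˣ) : (sc n F a).1 = Matrix.scalar (Fin n) (a : F) := rfl

theorem sc_inj (hn : 1 ≤ n) : Function.Injective (sc n F) := by
  intro a b h
  have : Nonempty (Fin n) := ⟨⟨0, hn⟩⟩
  have h1 := congrArg Units.val h
  rw [sc_val, sc_val, Matrix.scalar_inj] at h1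
  exact Units.ext h1

theorem sc_comm (a : Fˣ) (x : GL (Fin n) F) : x * sc n F a = sc n F a * x := by
  apply Units.ext
  rw [Units.val_mul, Units.val_mul, sc_val]
  exact ((Matrix.scalar_commute (n := Fin n) (a : F) (Commute.all _) x.1).eq).symm

theorem sc_det (a : Fˣ) : (sc n F a).1.det = (a : F) ^ n := by
  rw [sc_val]
  simp

theorem psl_pow_eq_one_iff (hn : 1 ≤ n) (s : SpecialLinearGroup (Fin n) F) (k : ℕ) :
    ((QuotientGroup.mk s : ProjectiveSpecialLinearGroup (Fin n) F)) ^ k = 1 ↔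
      ∃ a : Fˣ, sc n F a = (SpecialLinearGroup.toGL s) ^ k := by
  rw [← QuotientGroup.mk_pow, QuotientGroup.eq_one_iff, Matrix.SpecialLinearGroup.mem_center_iff]
  constructor
  · rintro ⟨r, hr, hr2⟩
    have hr0 : r ≠ 0 := by
      rintro rfl
      rw [Fintype.card_fin, zero_pow (by omega)] at hr
      exact zero_ne_one hr
    refine ⟨Units.mk0 r hr0, ?_⟩
    apply Units.ext
    rw [sc_val, Units.val_mk0, hr2, ← map_pow]
    rfl
  · rintro ⟨a, ha⟩
    have h1 : (sc n F a).1 = (s ^ k).1 := by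
      rw [ha, ← map_pow]; rfl
    refine ⟨a, ?_, ?_⟩
    · have h2 := sc_det (n := n) a
      rw [h1] at h2
      rw [Fintype.card_fin, ← h2]
      exact (s ^ k).2
    · rw [← h1, sc_val]

variable [Fintype F]

theorem exists_order {q : ℕ} (hF : Fintype.card F = q) (hn : 1 ≤ n) {r : ℕ} (hr : r.Prime)
    (hdvd : r ∣ q ^ n - 1) : ∃ x : GL (Fin n) F, orderOf x = r := by
  have : Fact r.Prime := ⟨hr⟩
  apply exists_prime_orderOf_dvd_card' (G := GL (Fin n) F) r
  rw [Matrix.card_GL_field, hF]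
  have h1 := Finset.dvd_prod_of_mem (fun i : Fin n => q ^ n - q ^ (i : ℕ)) (Finset.mem_univ ⟨0, hn⟩)
  simp only [pow_zero] at h1
  exact hdvd.trans h1

/-- Singer cycles: centralizers of elements of primitive prime order are cyclic of order
`q^n - 1`, generated by `ζ`, and the scalars are the solutions of `c^(q-1) = 1`. -/
theorem singer_data {q : ℕ} (hF : Fintype.card F = q) (hn : 3 ≤ n) (hq : 3 ≤ q) :
    ∃ r : ℕ, r.Prime ∧ r ∣ q ^ n - 1 ∧ (∀ k : ℕ, 0 < k → k < n → ¬ r ∣ q ^ k - 1) ∧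
      ∀ x : GL (Fin n) F, orderOf x = r →
        ∃ ζ : GL (Fin n) F, orderOf ζ = q ^ n - 1 ∧
          (∀ c : GL (Fin n) F, x * c = c * x → ∃ j : ℕ, ζ ^ j = c) ∧
          ∀ j : ℕ, (ζ ^ j) ^ (q - 1) = 1 → ∃ a : Fˣ, sc n F a = ζ ^ j := by
  classical
  obtain ⟨r, hr, hrd, hrk⟩ := Cfsg.Agent.S2904.result q n (by omega) (by omega) (by omega)
    (by omega)
  refine ⟨r, hr, hrd, hrk, ?_⟩
  intro x hx
  obtain ⟨p, hp⟩ := CharP.exists F
  have := hp
  have hpp : p.Prime := CharP.char_is_prime F p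
  have : Fact p.Prime := ⟨hpp⟩
  have hq1 : ∀ k : ℕ, 1 ≤ q ^ k := fun k => Nat.one_le_pow _ _ (by omega)
  have hpow : ∀ k : ℕ, (q : ZMod r) ^ k = 1 ↔ r ∣ q ^ k - 1 := by
    intro k
    rw [← Nat.cast_pow, ← Nat.cast_one (R := ZMod r), ZMod.natCast_eq_natCast_iff,
      ← Nat.modEq_iff_dvd' (hq1 k)]
    exact ⟨fun h => h.symm, fun h => h.symm⟩
  have hrp : r ≠ p := by
    rintro rfl
    obtain ⟨f, -, hf⟩ := FiniteField.card F r
    rw [hF] at hf
    have h1 : r ∣ q ^ n := by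
      rw [hf, ← pow_mul]
      exact dvd_pow_self r (by have := f.pos; positivity)
    have h2 : r ∣ 1 := by
      have h3 := (Nat.dvd_sub h1 hrd)
      rwa [Nat.sub_sub_self (hq1 n)] at h3
    exact hr.one_lt.ne' (Nat.dvd_one.1 h2)
  have hi : orderOf (q : ZMod r) = n := by
    rw [orderOf_eq_iff (by omega)]
    refine ⟨(hpow n).2 hrd, ?_⟩
    intro k hk hk0 h
    exact hrk k hk0 hk ((hpow k).1 h)
  obtain ⟨hcyc, hcard⟩ := Cfsg.Agent.S2638.result (F := F) (p := p) (q := q) hF (n := n) (r := r)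
    (by omega) hr hrp hi x hx
  have := hcyc
  obtain ⟨ζ', hζ'⟩ := IsCyclic.exists_generator (α := Subgroup.centralizer ({x} : Set (GL (Fin n) F)))
  have hord : orderOf (ζ' : GL (Fin n) F) = q ^ n - 1 := by
    rw [Subgroup.orderOf_coe, orderOf_eq_card_of_forall_mem_zpowers hζ', hcard]
  refine ⟨ζ', hord, ?_, ?_⟩
  · intro c hc
    have hcm : c ∈ Subgroup.centralizer ({x} : Set (GL (Fin n) F)) := by
      rw [Subgroup.mem_centralizer_iff]
      intro h hh
      rw [Set.mem_singleton_iff.1 hh]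
      exact hc
    have h1 := hζ' ⟨c, hcm⟩
    rw [← mem_powers_iff_mem_zpowers, Submonoid.mem_powers_iff] at h1
    obtain ⟨j, hj⟩ := h1
    refine ⟨j, ?_⟩
    have := congrArg Subtype.val hj
    simpa using this
  · intro j hj
    have hA : Nat.card Fˣ = q - 1 := by
      rw [Nat.card_eq_fintype_card, Fintype.card_units, hF]
    apply cyc_pow_mem (Subgroup.centralizer ({x} : Set (GL (Fin n) F))) (sc n F) (sc_inj (by omega))
    · intro a
      rw [Subgroup.mem_centralizer_iff]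
      intro h hh
      rw [Set.mem_singleton_iff.1 hh]
      exact sc_comm a x
    · exact pow_mem ζ'.2 j
    · rw [hA]; exact hj

theorem gl_det_ne_zero (g : GL (Fin n) F) : g.1.det ≠ 0 :=
  ((Matrix.isUnit_iff_isUnit_det _).1 g.isUnit).ne_zero

theorem two_ne_zero' {q : ℕ} (hF : Fintype.card F = q) (hodd : Odd q) : (2 : F) ≠ 0 := by
  intro h2
  have : CharP F 2 := CharTwo.of_one_ne_zero_of_two_eq_zero one_ne_zero h2
  obtain ⟨k, -, hk⟩ := FiniteField.card F 2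
  rw [hF] at hk
  have h3 : Even q := by
    rw [hk]
    exact (Nat.even_pow' k.pos.ne').2 even_two
  exact (Nat.not_even_iff_odd.2 hodd) h3

theorem sc_pow_card {q : ℕ} (hF : Fintype.card F = q) (a : Fˣ) : (sc n F a) ^ (q - 1) = 1 := by
  rw [← map_pow]
  have h1 : a ^ (q - 1) = 1 := by
    apply Units.ext
    rw [Units.val_pow_eq_pow_val, ← hF]
    exact FiniteField.pow_card_sub_one_eq_one _ a.ne_zero
  rw [h1, map_one]

theorem det_pow_card {q : ℕ} (hF : Fintype.card F = q) (g : GL (Fin n) F) :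
    (g ^ (q - 1)).1.det = 1 := by
  rw [Units.val_pow_eq_pow_val, Matrix.det_pow, ← hF]
  exact FiniteField.pow_card_sub_one_eq_one _ (gl_det_ne_zero g)

/-! ### arithmetic -/

theorem geom (q : ℕ) (hq : 1 ≤ q) (m : ℕ) :
    ∃ A, q ^ m = (q - 1) * A + 1 ∧ A ≡ m [MOD (q - 1)] := by
  induction m with
  | zero => exact ⟨0, by simp, Nat.ModEq.refl _⟩
  | succ m ih =>
    obtain ⟨A, hA, hAm⟩ := ih
    refine ⟨q * A + 1, ?_, ?_⟩
    · rw [pow_succ, hA]
      obtain ⟨t, rfl⟩ : ∃ t, q = t + 1 := ⟨q - 1, by omega⟩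
      simp only [Nat.add_sub_cancel]
      ring
    · have h1 : q ≡ 1 [MOD (q - 1)] := by
        obtain ⟨t, rfl⟩ : ∃ t, q = t + 1 := ⟨q - 1, by omega⟩
        simp [Nat.ModEq]
      have h2 : q * A + 1 ≡ 1 * m + 1 [MOD (q - 1)] := (h1.mul hAm).add_right 1
      simpa using h2

theorem cond_iff (q m : ℕ) (hm : m ≠ 0) :
    padicValNat 2 (q - 1) < padicValNat 2 (m + m) ↔ 2 ^ padicValNat 2 (q - 1) ∣ m := by
  have h1 : padicValNat 2 (m + m) = padicValNat 2 m + 1 := by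
    rw [← two_mul, padicValNat.mul (by norm_num) hm, padicValNat_self]
    ring
  rw [h1, padicValNat_dvd_iff_le hm]
  omega

theorem two_part (N : ℕ) (hN : N ≠ 0) : ∃ u, N = 2 ^ padicValNat 2 N * u ∧ Odd u := by
  obtain ⟨a, ha⟩ : ∃ a, a = padicValNat 2 N := ⟨_, rfl⟩
  have h0 : 2 ^ a ∣ N := ha ▸ pow_padicValNat_dvd
  obtain ⟨u, hu⟩ := h0
  rw [← ha]
  refine ⟨u, hu, ?_⟩
  rw [← Nat.not_even_iff_odd]
  rintro ⟨w, rfl⟩
  have h1 : 2 ^ (a + 1) ∣ N := ⟨w, by rw [hu]; ring⟩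
  rw [padicValNat_dvd_iff_le hN] at h1
  omega

theorem pow_split (q m : ℕ) (hq : 1 ≤ q) (A : ℕ) (hA : q ^ m = (q - 1) * A + 1) :
    q ^ (m + m) - 1 = (q - 1) * A * (q ^ m + 1) := by
  have h1 : q ^ (m + m) = (q - 1) * A * (q ^ m + 1) + 1 := by
    rw [pow_add, hA]; ring
  rw [h1, Nat.add_sub_cancel]

theorem arith_left (q m : ℕ) (hq : 3 ≤ q) (hqodd : Odd q) (hm : 1 ≤ m)
    (hT : 2 ^ padicValNat 2 (q - 1) ∣ m) :
    ∃ B : ℕ, ∀ k : ℕ, (q ^ (m + m) - 1) ∣ (q - 1) * B * k * (q - 1) ↔ (q ^ m + 1) ∣ k := by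
  obtain ⟨A, hA, hAm⟩ := geom q (by omega) m
  obtain ⟨u, hu, hu2⟩ := two_part (q - 1) (by omega)
  obtain ⟨T, hTdef⟩ : ∃ T, T = 2 ^ padicValNat 2 (q - 1) := ⟨_, rfl⟩
  rw [← hTdef] at hT hu
  obtain ⟨d, hd⟩ : ∃ d, d = Nat.gcd m (q - 1) := ⟨_, rfl⟩
  have hd1 : d ∣ q - 1 := hd ▸ Nat.gcd_dvd_right _ _
  have hd2 : d ∣ m := hd ▸ Nat.gcd_dvd_left _ _
  have hdA : d ∣ A := (hAm.dvd_iff hd1).2 hd2
  have hTd : T ∣ d := hd ▸ Nat.dvd_gcd hT ⟨u, hu⟩
  obtain ⟨B, hB⟩ := hdA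
  obtain ⟨e, he⟩ := hd1
  obtain ⟨t, ht⟩ := hTd
  have hT0 : 0 < T := by rw [hTdef]; positivity
  have heodd : Odd e := by
    have h1 : T * u = T * (t * e) := by rw [← hu, he, ht]; ring
    have h2 : u = t * e := Nat.eq_of_mul_eq_mul_left hT0 h1
    exact Odd.of_dvd_nat hu2 ⟨t, by rw [h2]; ring⟩
  obtain ⟨N, hN⟩ : ∃ N, N = q ^ m + 1 := ⟨_, rfl⟩
  have hN' : N = (q - 1) * A + 2 := by rw [hN, hA]
  have hcop : Nat.Coprime N e := by
    have h1 : Nat.gcd N e ∣ 2 := by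
      have h2 : Nat.gcd N e ∣ (q - 1) * A :=
        (Nat.gcd_dvd_right _ _).trans ⟨d * A, by rw [he]; ring⟩
      have h3 : Nat.gcd N e ∣ (q - 1) * A + 2 := by
        have := Nat.gcd_dvd_left N e
        exact this.trans (dvd_of_eq hN')
      exact (Nat.dvd_add_right h2).1 h3
    have h4 : Odd (Nat.gcd N e) := Odd.of_dvd_nat heodd (Nat.gcd_dvd_right _ _)
    have h5 := Nat.le_of_dvd (by norm_num) h1
    have h6 : Nat.gcd N e ≠ 2 := by
      intro h
      rw [h] at h4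
      exact absurd h4 (by decide)
    have h7 : Nat.gcd N e ≠ 0 := by
      intro h
      rw [h] at h4
      exact absurd h4 (by decide)
    show Nat.gcd N e = 1
    omega
  have hA0 : A ≠ 0 := by
    rintro rfl
    have : 3 ^ m ≤ q ^ m := Nat.pow_le_pow_left hq m
    have : 3 ^ 1 ≤ 3 ^ m := Nat.pow_le_pow_right (by norm_num) hm
    omega
  have hpos : 0 < (q - 1) * B * d := by
    have h1 : B ≠ 0 := by rintro rfl; exact hA0 (by rw [hB, mul_zero])
    have h2 : d ≠ 0 := by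
      intro h; rw [h, zero_mul] at hB; exact hA0 hB
    have h3 : q - 1 ≠ 0 := by omega
    positivity
  refine ⟨B, fun k => ?_⟩
  rw [pow_split q m (by omega) A hA, ← hN]
  have h1 : (q - 1) * A * N = (q - 1) * B * d * N := by
    rw [hB]; ring
  have h2 : (q - 1) * B * k * (q - 1) = (q - 1) * B * d * (k * e) := by
    have h3 : (q - 1) * B * k * (q - 1) = (q - 1) * B * k * (d * e) := by rw [← he]
    rw [h3]; ring
  rw [h1, h2, Nat.mul_dvd_mul_iff_left hpos, hcop.dvd_mul_right]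

theorem arith_right (q m : ℕ) (hq : 3 ≤ q) (hqodd : Odd q) (hm : 1 ≤ m)
    (hT : ¬ 2 ^ padicValNat 2 (q - 1) ∣ m) (j : ℕ)
    (h1 : (q ^ (m + m) - 1) ∣ j * (q ^ m + 1) * (q - 1))
    (h2 : ¬ (q ^ (m + m) - 1) ∣ j * ((q ^ m + 1) / 2) * (q - 1)) :
    Nat.gcd j (q - 1) ∣ (q - 1) / 2 := by
  obtain ⟨A, hA, hAm⟩ := geom q (by omega) m
  obtain ⟨u, hu, hu2⟩ := two_part (q - 1) (by omega)
  obtain ⟨T, hTdef⟩ : ∃ T, T = 2 ^ padicValNat 2 (q - 1) := ⟨_, rfl⟩
  rw [← hTdef] at hT hu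
  rw [pow_split q m (by omega) A hA] at h1 h2
  have hNeven : Even (q ^ m + 1) := (hqodd.pow).add_one
  obtain ⟨N', hN'⟩ := hNeven
  have hN2 : (q ^ m + 1) / 2 = N' := by omega
  rw [hN2] at h2
  rw [hN'] at h1 h2
  have hpos : 0 < (q - 1) * (N' + N') := by
    have : 0 < q - 1 := by omega
    have : 0 < N' + N' := by
      have := Nat.one_le_pow m q (by omega)
      omega
    positivity
  have hAj : A ∣ j := by
    have h3 : (q - 1) * (N' + N') * A ∣ (q - 1) * (N' + N') * j := by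
      have e1 : (q - 1) * (N' + N') * A = (q - 1) * A * (N' + N') := by ring
      have e2 : (q - 1) * (N' + N') * j = j * (N' + N') * (q - 1) := by ring
      rw [e1, e2]; exact h1
    exact (Nat.mul_dvd_mul_iff_left hpos).1 h3
  obtain ⟨i, hi⟩ := hAj
  have hiodd : Odd i := by
    rw [← Nat.not_even_iff_odd]
    rintro ⟨i', rfl⟩
    apply h2
    refine ⟨i', ?_⟩
    rw [hi]; ring
  obtain ⟨g, hg⟩ : ∃ g, g = Nat.gcd j (q - 1) := ⟨_, rfl⟩
  have hg1 : g ∣ q - 1 := hg ▸ Nat.gcd_dvd_right j (q - 1)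
  have hg2 : g ∣ j := hg ▸ Nat.gcd_dvd_left j (q - 1)
  rw [← hg]
  obtain ⟨t, ht⟩ := hg1
  rcases Nat.even_or_odd t with ⟨t', ht'⟩ | htodd
  · refine ⟨t', ?_⟩
    have h3 : q - 1 = 2 * (g * t') := by
      rw [ht, ht']; ring
    omega
  · exfalso
    apply hT
    have hcopt : Nat.Coprime T t := by
      rw [hTdef]
      exact Nat.Coprime.pow_left _ (Nat.coprime_two_left.2 htodd)
    have hcopi : Nat.Coprime T i := by
      rw [hTdef]
      exact Nat.Coprime.pow_left _ (Nat.coprime_two_left.2 hiodd)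
    have h4 : T ∣ g * t := by
      rw [← ht]; exact ⟨u, hu⟩
    have h5 : T ∣ g := hcopt.dvd_of_dvd_mul_right h4
    have h6 : T ∣ A * i := by
      rw [← hi]; exact h5.trans hg2
    have h7 : T ∣ A := hcopi.dvd_of_dvd_mul_right h6
    exact (hAm.dvd_iff ⟨u, hu⟩).1 h7

/-! ### the two directions -/

theorem psl_left {q : ℕ} (hF : Fintype.card F = q) (hodd : Odd q) (m : ℕ) (hm : 2 ≤ m)
    (hT : 2 ^ padicValNat 2 (q - 1) ∣ m) :
    ∃ g : ProjectiveSpecialLinearGroup (Fin (m + m)) F, orderOf g = q ^ m + 1 := by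
  classical
  have hq3 : 3 ≤ q := by
    have h1 : 1 < Fintype.card F := Fintype.one_lt_card
    obtain ⟨t, ht⟩ := hodd
    omega
  obtain ⟨r, hr, hrd, hrk, H⟩ := singer_data (F := F) (n := m + m) hF (by omega) hq3
  obtain ⟨x, hx⟩ := exists_order (F := F) (n := m + m) hF (by omega) hr hrd
  obtain ⟨ζ, hζord, hζc, hζs⟩ := H x hx
  obtain ⟨B, hB⟩ := arith_left q m hq3 hodd (by omega) hT
  have hdet : (ζ ^ ((q - 1) * B)).1.det = 1 := by
    rw [pow_mul']
    exact det_pow_card hF _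
  obtain ⟨s, hs⟩ : ∃ s : SpecialLinearGroup (Fin (m + m)) F,
      SpecialLinearGroup.toGL s = ζ ^ ((q - 1) * B) := ⟨⟨_, hdet⟩, Units.ext rfl⟩
  have key : ∀ k : ℕ, ((QuotientGroup.mk s : ProjectiveSpecialLinearGroup (Fin (m + m)) F)) ^ k = 1
      ↔ (q ^ m + 1) ∣ k := by
    intro k
    rw [psl_pow_eq_one_iff (by omega), hs, ← hB k, ← hζord, orderOf_dvd_iff_pow_eq_one]
    have e1 : ζ ^ ((q - 1) * B * k * (q - 1)) = (ζ ^ ((q - 1) * B * k)) ^ (q - 1) := pow_mul _ _ _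
    have e2 : (ζ ^ ((q - 1) * B)) ^ k = ζ ^ ((q - 1) * B * k) := (pow_mul _ _ _).symm
    rw [e1, e2]
    constructor
    · rintro ⟨a, ha⟩
      rw [← ha]
      exact sc_pow_card hF a
    · intro h
      exact hζs _ h
  refine ⟨QuotientGroup.mk s, ?_⟩
  exact Nat.dvd_antisymm (orderOf_dvd_of_pow_eq_one ((key _).2 dvd_rfl))
    ((key _).1 (pow_orderOf_eq_one _))

theorem psl_right {q : ℕ} (hF : Fintype.card F = q) (hodd : Odd q) (m : ℕ) (hm : 2 ≤ m)
    (g : ProjectiveSpecialLinearGroup (Fin (m + m)) F) (hg : orderOf g = q ^ m + 1) :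
    2 ^ padicValNat 2 (q - 1) ∣ m := by
  classical
  by_contra hT
  have hq3 : 3 ≤ q := by
    have h1 : 1 < Fintype.card F := Fintype.one_lt_card
    obtain ⟨t, ht⟩ := hodd
    omega
  obtain ⟨s, rfl⟩ := QuotientGroup.mk_surjective g
  obtain ⟨G, hG⟩ : ∃ G : GL (Fin (m + m)) F, G = SpecialLinearGroup.toGL s := ⟨_, rfl⟩
  have hGdet : G.1.det = 1 := by rw [hG]; exact s.2
  obtain ⟨N, hN⟩ : ∃ N, N = q ^ m + 1 := ⟨_, rfl⟩
  rw [← hN] at hg
  have key : ∀ k : ℕ, (∃ a : Fˣ, sc (m + m) F a = G ^ k) ↔ N ∣ k := by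
    intro k
    rw [hG, ← psl_pow_eq_one_iff (by omega), ← hg, orderOf_dvd_iff_pow_eq_one]
  obtain ⟨r, hr, hrd, hrk, H⟩ := singer_data (F := F) (n := m + m) hF (by omega) hq3
  have hq1 : 1 ≤ q ^ m := Nat.one_le_pow _ _ (by omega)
  have hrN : r ∣ N := by
    have h1 : q ^ (m + m) - 1 = (q ^ m - 1) * (q ^ m + 1) := by
      obtain ⟨Y, hY⟩ : ∃ Y, q ^ m = Y + 1 := ⟨q ^ m - 1, by omega⟩
      rw [pow_add, hY]
      have : (Y + 1) * (Y + 1) = Y * (Y + 1 + 1) + 1 := by ring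
      rw [this]; simp
    rw [h1] at hrd
    rcases (Nat.Prime.dvd_mul hr).1 hrd with h | h
    · exact absurd h (hrk m (by omega) (by omega))
    · rw [hN]; exact h
  obtain ⟨N₁, hN₁⟩ := hrN
  have hN0 : 0 < N := by rw [hN]; omega
  have hN₁0 : 0 < N₁ := by
    rcases Nat.eq_zero_or_pos N₁ with h | h
    · rw [h, mul_zero] at hN₁; omega
    · exact h
  obtain ⟨x, hxdef⟩ : ∃ x : GL (Fin (m + m)) F, x = G ^ (N₁ * (q - 1)) := ⟨_, rfl⟩
  have hxr : x ^ r = 1 := by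
    obtain ⟨a, ha⟩ := (key N).2 dvd_rfl
    have e1 : x ^ r = (G ^ N) ^ (q - 1) := by
      rw [hxdef, ← pow_mul, ← pow_mul, hN₁]; congr 1; ring
    rw [e1, ← ha]
    exact sc_pow_card hF a
  have hx1 : x ≠ 1 := by
    intro h
    have h1 : ∃ a : Fˣ, sc (m + m) F a = G ^ (N₁ * (q - 1)) :=
      ⟨1, by rw [map_one, ← hxdef, h]⟩
    have h2 := (key _).1 h1
    rw [hN₁, mul_comm r N₁] at h2
    have h3 : r ∣ q - 1 := (Nat.mul_dvd_mul_iff_left hN₁0).1 h2
    have h4 := hrk 1 (by omega) (by omega)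
    rw [pow_one] at h4
    exact h4 h3
  have : Fact r.Prime := ⟨hr⟩
  have hx : orderOf x = r := orderOf_eq_prime hxr hx1
  obtain ⟨ζ, hζord, hζc, hζs⟩ := H x hx
  obtain ⟨j, hj⟩ := hζc G (by rw [hxdef]; exact pow_mul_comm' G _)
  have h1 : (q ^ (m + m) - 1) ∣ j * (q ^ m + 1) * (q - 1) := by
    rw [← hζord, orderOf_dvd_iff_pow_eq_one, ← hN, pow_mul, pow_mul, hj]
    obtain ⟨a, ha⟩ := (key N).2 dvd_rfl
    rw [← ha]
    exact sc_pow_card hF a
  have h2 : ¬ (q ^ (m + m) - 1) ∣ j * ((q ^ m + 1) / 2) * (q - 1) := by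
    rw [← hζord, orderOf_dvd_iff_pow_eq_one, ← hN]
    intro h
    rw [pow_mul] at h
    obtain ⟨a, ha⟩ := hζs _ h
    rw [pow_mul, hj] at ha
    have h3 := (key _).1 ⟨a, ha⟩
    have h4 : 0 < N / 2 := by
      have : 2 ≤ N := by rw [hN]; omega
      omega
    have h5 := Nat.le_of_dvd h4 h3
    omega
  have h3 := arith_right q m hq3 hodd (by omega) hT j h1 h2
  obtain ⟨δ, hδ⟩ : ∃ δ : F, δ = ζ.1.det := ⟨_, rfl⟩
  have hδ0 : δ ≠ 0 := hδ ▸ gl_det_ne_zero ζ
  have hδj : δ ^ j = 1 := by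
    rw [hδ, ← Matrix.det_pow, ← Units.val_pow_eq_pow_val, hj]; exact hGdet
  have hδq : δ ^ (q - 1) = 1 := by
    rw [← hF]; exact FiniteField.pow_card_sub_one_eq_one δ hδ0
  have hδg : δ ^ Nat.gcd j (q - 1) = 1 := pow_gcd_eq_one.2 ⟨hδj, hδq⟩
  have hδh : δ ^ ((q - 1) / 2) = 1 := by
    obtain ⟨w, hw⟩ := h3
    rw [hw, pow_mul, hδg, one_pow]
  have h2F : (2 : F) ≠ 0 := two_ne_zero' hF hodd
  have hchar : ringChar F ≠ 2 := by
    intro h
    apply h2F
    have h5 : ((ringChar F : ℕ) : F) = 0 := ringChar.Nat.cast_ringChar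
    rw [h] at h5
    exact_mod_cast h5
  have hsq : IsSquare δ := by
    rw [FiniteField.isSquare_iff hchar hδ0, hF]
    have : q / 2 = (q - 1) / 2 := by obtain ⟨t, ht⟩ := hodd; omega
    rw [this]; exact hδh
  obtain ⟨Q, hQ⟩ : ∃ Q, Q = q ^ (m + m) - 1 := ⟨_, rfl⟩
  have hQ1 : q ^ (m + m) = Q + 1 := by
    have := Nat.one_le_pow (m + m) q (by omega)
    omega
  have hQeven : Even Q := by
    have h4 : Odd (q ^ (m + m)) := hodd.pow
    rw [hQ1, Nat.odd_add_one, Nat.not_odd_iff_even] at h4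
    exact h4
  have hQ0 : Q ≠ 0 := by
    have h4 : 3 ^ (m + m) ≤ q ^ (m + m) := Nat.pow_le_pow_left hq3 _
    have h5 : 3 ^ 1 ≤ 3 ^ (m + m) := Nat.pow_le_pow_right (by norm_num) (by omega)
    omega
  obtain ⟨Q', hQ', hQ'odd⟩ := two_part Q hQ0
  obtain ⟨b, hb⟩ : ∃ b, b = padicValNat 2 Q := ⟨_, rfl⟩
  rw [← hb] at hQ'
  have hb1 : 1 ≤ b := by
    rw [hb, ← padicValNat_dvd_iff_le hQ0, pow_one]; exact hQeven.two_dvd
  obtain ⟨h, hh⟩ : ∃ h, h = 2 ^ (b - 1) * Q' := ⟨_, rfl⟩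
  have hQh : Q = 2 * h := by
    rw [hh, hQ', ← mul_assoc, ← pow_succ']; congr 2; omega
  have hneg : ζ ^ h = sc (m + m) F (-1) := by
    obtain ⟨i, hi⟩ := hζc (sc (m + m) F (-1)) (sc_comm _ x)
    have hi2 : ζ ^ (i * 2) = 1 := by
      rw [pow_mul, hi, ← map_pow]; simp
    have hi1 : ζ ^ i ≠ 1 := by
      rw [hi]
      intro h
      have h5 := sc_inj (F := F) (n := m + m) (by omega) (h.trans (map_one _).symm)
      have h6 := congrArg Units.val h5
      rw [Units.val_neg, Units.val_one] at h6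
      apply h2F
      linear_combination -1 * h6
    have h5 : Q ∣ i * 2 := by rw [hQ, ← hζord]; exact orderOf_dvd_of_pow_eq_one hi2
    have h6 : ¬ Q ∣ i := by
      rw [hQ, ← hζord, orderOf_dvd_iff_pow_eq_one]; exact hi1
    rw [hQh] at h5 h6
    have h7 : h ∣ i := by
      have : h * 2 ∣ i * 2 := by rwa [mul_comm h 2]
      exact (Nat.mul_dvd_mul_iff_right (by norm_num)).1 this
    obtain ⟨w, hw⟩ := h7
    have hwodd : Odd w := by
      rw [← Nat.not_even_iff_odd]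
      rintro ⟨w', rfl⟩
      apply h6
      exact ⟨w', by rw [hw]; ring⟩
    obtain ⟨w', rfl⟩ := hwodd
    have h8 : ζ ^ (2 * h) = 1 := by
      rw [← hQh, hQ, ← hζord]; exact pow_orderOf_eq_one ζ
    rw [← hi, hw]
    have : h * (2 * w' + 1) = 2 * h * w' + h := by ring
    rw [this, pow_add, pow_mul, h8, one_pow, one_mul]
  have hnsq : ¬ IsSquare (ζ ^ Q').1.det := by
    apply nonsq_of_pow (by omega) h2F (ζ ^ Q') b Q' hb1
    · rw [← pow_mul, mul_comm, ← hh, hneg, sc_val, Units.val_neg, Units.val_one, map_neg, map_one]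
    · rw [hF, hQ1, hQ']
    · exact hQ'odd
  apply hnsq
  obtain ⟨μ, hμ⟩ := hsq
  refine ⟨μ ^ Q', ?_⟩
  rw [Units.val_pow_eq_pow_val, Matrix.det_pow, ← hδ, hμ, mul_pow]

end Cfsg.Agent.Lib.helper13.SG
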